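import Cfsg.Agent.Lib.Isometry.Clifford
import Cfsg.Agent.Lib.Induced.Mackey

/-!
# Peterfalvi §11: characters induced from linear characters of a normal subgroup
-/

set_option autoImplicit false
set_option linter.style.haveILetI false
set_option linter.unusedSectionVars false

namespace Cfsg.Agent.Lib.OddOrder.PF11.Linear

open scoped ComplexConjugate
open Cfsg.Agent.Lib

universe u

variable {X : Type u} [_root_.Group X] [Fintype X]

/-- The kernel of a constituent contains the kernel of the character. -/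
theorem constituent_trivial {φ : X → ℂ} (hφ : Cfsg.IsCharacter X φ) {a : X → ℂ}
    (ha : Cfsg.IsIrrCharacter X a) (hne : Cfsg.classInner φ a ≠ 0) {g : X} (hg : φ g = φ 1) :
    a g = a 1 := by
  obtain ⟨m, r, hr, hm, -, hdec⟩ := Clifford.Basic.exists_eq_nsmul_add hφ ⟨a, ha⟩
  have hm0 : 0 < m := Nat.pos_of_ne_zero fun h => hne (by rw [h, Nat.cast_zero] at hm; exact hm)
  have hac := Characters.Basic.IsCharacter_of_isIrrCharacter ha
  have hre : ∀ {χ : X → ℂ}, Cfsg.IsCharacter X χ → (χ g).re ≤ (χ 1).re ∧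
      ((χ g).re = (χ 1).re → χ g = χ 1) := by
    intro χ hχ
    obtain ⟨n, hn⟩ := Characters.Basic.exists_degree hχ
    have hle := Characters.Basic.norm_apply_le hχ g
    rw [hn, Complex.norm_natCast] at hle
    have h1 := Complex.re_le_norm (χ g)
    rw [hn, Complex.natCast_re]
    refine ⟨h1.trans hle, fun h => ?_⟩
    have h2 : (χ g).re = ‖χ g‖ := le_antisymm h1 (hle.trans_eq h.symm)
    have h3 := Complex.sq_norm_sub_sq_re (χ g)
    rw [← h2, sub_self, eq_comm, sq_eq_zero_iff] at h3
    apply Complex.ext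
    · rw [h, Complex.natCast_re]
    · rw [h3, Complex.natCast_im]
  have h' : φ = m • a + r := hdec
  rw [h'] at hg
  have hgre := congrArg Complex.re hg
  simp only [Pi.add_apply, Pi.smul_apply, Pi.mul_apply, Pi.natCast_apply, Complex.add_re, nsmul_eq_mul, Complex.mul_re,
    Complex.natCast_re, Complex.natCast_im, zero_mul, sub_zero] at hgre
  obtain ⟨ha1, ha2⟩ := hre hac
  have hm0' : (1 : ℝ) ≤ m := by exact_mod_cast hm0
  have := (hre hr).1
  exact ha2 (by nlinarith)

variable {F : Subgroup X} [hF : F.Normal]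

/-- A linear character of a normal subgroup moved by every element outside induces irreducibly. -/
theorem ind_irr (l : F →* ℂˣ)
    (hstab : ∀ g : X, (∀ f : F, l ⟨g * f * g⁻¹, hF.conj_mem _ f.2 g⟩ = l f) → g ∈ F) :
    Cfsg.IsIrrCharacter X (Cfsg.indFun F fun f => (l f : ℂ)) ∧
      Cfsg.indFun F (fun f => (l f : ℂ)) 1 = (F.index : ℂ) := by
  refine ⟨Induced.Mackey.isIrrCharacter_indFun F (Induced.Character.isIrrCharacter_hom l)
    fun g hg => hstab g fun f => Units.ext (congrFun hg f), ?_⟩
  rw [Induced.Basic.indFun_one, map_one, Units.val_one, mul_one]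

/-- A normal subgroup in the kernel of `l` is in the kernel of the induced function. -/
theorem ind_kernel (l : F →* ℂˣ) {N : Subgroup X} [hN : N.Normal]
    (hl : ∀ f : F, (f : X) ∈ N → l f = 1) (hNF : N ≤ F) {n : X} (hn : n ∈ N) :
    Cfsg.indFun F (fun f => (l f : ℂ)) n = Cfsg.indFun F (fun f => (l f : ℂ)) 1 := by
  classical
  simp only [Cfsg.indFun]
  congr 1
  refine Finset.sum_congr rfl fun x _ => ?_
  have h1 : x⁻¹ * n * x ∈ N := by simpa using hN.conj_mem n hn x⁻¹
  rw [Induced.Basic.extendByZero_of_mem F _ (hNF h1),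
    Induced.Basic.extendByZero_of_mem F _ (g := x⁻¹ * 1 * x) (by simpa using F.one_mem),
    hl ⟨x⁻¹ * n * x, hNF h1⟩ h1]
  rw [show (⟨x⁻¹ * 1 * x, _⟩ : F) = 1 from Subtype.ext (by simp), map_one]

omit hF in
/-- If the induced function is trivial at `f ∈ F`, so is `l`. -/
theorem of_ind_kernel (l : F →* ℂˣ) {f : F}
    (hf : Cfsg.indFun F (fun f => (l f : ℂ)) f = Cfsg.indFun F (fun f => (l f : ℂ)) 1) : l f = 1 := by
  classical
  haveI := Fintype.ofFinite F
  set φ := Cfsg.indFun F fun f => (l f : ℂ) with hφdef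
  have hφ : Cfsg.IsCharacter X φ :=
    Induced.Character.isCharacter_indFun F (Induced.Character.isCharacter_hom l)
  have hres := Characters.Basic.isCharacter_comp F.subtype hφ
  have hirr := Induced.Character.isIrrCharacter_hom l
  have hne : Cfsg.classInner (φ ∘ F.subtype) (fun f => (l f : ℂ)) ≠ 0 := by
    intro h0
    have h1 := Induced.Basic.frobenius_reciprocity' F (fun f => (l f : ℂ))
      (Characters.Basic.isClassFunction_of_isCharacter hφ)
    rw [← hφdef, show (fun h : F => φ h) = φ ∘ F.subtype from rfl, h0] at h1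
    have h2 := Isometry.Inner.eq_zero_of_classInner_self h1
    have h3 := congrFun h2 1
    rw [hφdef, Induced.Basic.indFun_one, map_one, Units.val_one, mul_one] at h3
    exact Nat.cast_ne_zero.2 (Subgroup.index_ne_zero_of_finite (H := F)) h3
  have h4 := constituent_trivial (X := F) hres hirr hne (g := f) (by simpa using hf)
  exact Units.ext (by simpa using h4)

omit hF in
/-- A character with `B` in its kernel has a linear constituent over `F` when `F / B` is abelian. -/
theorem exists_constituent {θ : X → ℂ} (hθ : Cfsg.IsCharacter X θ) (h1 : θ 1 ≠ 0) (B : Subgroup F)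
    [B.Normal] (hab : ∀ x y : F, x * y * x⁻¹ * y⁻¹ ∈ B) (hB : ∀ b ∈ B, θ b = θ 1) :
    ∃ l : F →* ℂˣ, (∀ b ∈ B, l b = 1) ∧
      Cfsg.classInner (Cfsg.indFun F fun f => (l f : ℂ)) θ ≠ 0 := by
  classical
  haveI := Fintype.ofFinite F
  obtain ⟨Λ, -, htriv, hsum⟩ := Isometry.Clifford.exists_dual B hab
  by_contra hall
  push Not at hall
  have h0 : ∀ l ∈ Λ, Cfsg.classInner (fun f : F => (l f : ℂ)) (fun f : F => θ f) = 0 := fun l hl => by
    rw [← Induced.Basic.frobenius_reciprocity F _ (Characters.Basic.isClassFunction_of_isCharacter hθ)]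
    exact hall l (htriv l hl)
  have h2 : ∑ l ∈ Λ, Cfsg.classInner (fun f : F => (l f : ℂ)) (fun f : F => θ f) = 0 :=
    Finset.sum_eq_zero h0
  simp only [Cfsg.classInner, ← Finset.mul_sum] at h2
  rw [Finset.sum_comm] at h2
  simp only [← Finset.sum_mul, hsum, ite_mul, zero_mul] at h2
  rw [← Finset.sum_filter, Finset.sum_congr rfl (fun b hb => by
      rw [hB b (Finset.mem_filter.1 hb).2]), Finset.sum_const, nsmul_eq_mul] at h2
  have hcard : ((Finset.univ.filter fun f : F => f ∈ B).card : ℂ) ≠ 0 :=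
    Nat.cast_ne_zero.2 (Finset.card_ne_zero_of_mem (Finset.mem_filter.2 ⟨Finset.mem_univ _, B.one_mem⟩))
  have hidx : (B.index : ℂ) ≠ 0 := Nat.cast_ne_zero.2 Subgroup.index_ne_zero_of_finite
  have hc : conj (θ 1) ≠ 0 := fun h => h1 (by simpa using h)
  exact mul_ne_zero (inv_ne_zero Induced.Basic.natCard_ne_zero)
    (mul_ne_zero hcard (mul_ne_zero hidx hc)) h2

end Cfsg.Agent.Lib.OddOrder.PF11.Linear
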