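import Cfsg.Agent.Lib.OddOrder.PF11.Abelian
import Cfsg.Agent.Lib.OddOrder.PF11.Linear
import Cfsg.Agent.Lib.Isometry.InducedSystem
import Cfsg.Agent.S1513

/-!
# Peterfalvi §11: the `W₁`-invariant characters of `M'` trivial on `C`

For `ν` a non-trivial linear character of `W₂` and `π` the norm map `H → W₂` of `W₁`, the character
induced from `H C` to `M'` by `ν ∘ π` is irreducible, of degree `u`, and `W₁`-invariant.  These account
for all non-principal invariant irreducible characters of `M'`.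
-/

set_option autoImplicit false
set_option linter.style.haveILetI false
set_option linter.unusedSectionVars false

namespace Cfsg.Agent.Lib.OddOrder.PF11.Theta

open Subgroup
open Cfsg.Agent.Lib
open Cfsg.Agent.Lib.OddOrder.Basic
open Cfsg.Agent.Lib.OddOrder.PF11.Group (Ctx)
open Cfsg.Agent.Lib.OddOrder.PF11.Bound
open Cfsg.Agent.Lib.OddOrder.PF11.Structure
open Cfsg.Agent.Lib.OddOrder.PF11.Abelian
open Cfsg.Agent.Lib.OddOrder.Interface.PF11 (derivedIn tau Setup)
open Cfsg.Agent.Lib.Clifford.Basic (conjC)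
open scoped commutatorElement

universe u

variable {G : Type u} [_root_.Group G] [Fintype G] {M W₁ U W₂ : Subgroup G}

local notation "H" => Cfsg.fittingHallOf M

local notation "D" => ⁅M, M⁆

/-- `W₁` and `W₂` inside `M`, and the cyclic complement data. -/
theorem pLike [Fintype ↥M] (s : Setup M W₁ U W₂) :
    CyclicTI.IsPLike (derivedIn M) (W₁.subgroupOf M) (W₂.subgroupOf M) := by
  have c := ctx_of_setup s
  have hW₂M : W₂ ≤ M := c.W₂_le_H.trans c.H_le
  refine ⟨?_, ?_, ?_, ?_, ?_, ?_, ?_, Bound.subgroupOf_mono M (c.W₂_le_H.trans c.H_le_D), ?_, ?_⟩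
  · rw [show derivedIn M ⊓ W₁.subgroupOf M = (D ⊓ W₁).subgroupOf M from (comap_inf _ _ _).symm,
      c.D_inf_W₁, bot_subgroupOf]
  · rw [← subgroupOf_sup c.D_le c.W₁_le, isComplIn_sup c.typeP.W₁_compl, subgroupOf_self]
  · exact fun h => c.W₁_ne (le_bot_iff.1 (by
      have h1 := disjoint_iff.1 (subgroupOf_eq_bot.1 h)
      rwa [inf_eq_left.2 c.W₁_le] at h1 ▸ le_rfl))
  · haveI := c.typeP.W₁_cyclic
    exact (subgroupOfEquivOfLe c.W₁_le).isCyclic.2 inferInstance
  · rw [Nat.card_congr (subgroupOfEquivOfLe c.W₁_le).toEquiv]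
    exact c.typeP.W₁_hall
  · intro h
    have h1 := disjoint_iff.1 (subgroupOf_eq_bot.1 h)
    rw [inf_eq_left.2 hW₂M] at h1
    exact c.typeP.selfNormalizing.2.1 h1
  · haveI := c.cyclic_W
    haveI : IsCyclic W₂ := isCyclic_of_injective (inclusion (le_sup_right : W₂ ≤ W₁ ⊔ W₂))
      (inclusion_injective _)
    exact (subgroupOfEquivOfLe hW₂M).isCyclic.2 inferInstance
  · intro x hx hx1
    ext y
    have he := c.typeP.W₂_centralizer (x : G) hx fun e => hx1 (Subtype.ext e)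
    show ((y : G) ∈ D ∧ y ∈ centralizer ({x} : Set ↥M)) ↔ (y : G) ∈ W₂
    rw [← he, mem_inf, mem_centralizer_singleton_iff, mem_centralizer_singleton_iff]
    exact and_congr_right' ⟨fun h => congrArg Subtype.val h, fun h => Subtype.ext h⟩
  · rw [← subgroupOf_sup c.W₁_le hW₂M,
      Nat.card_congr (subgroupOfEquivOfLe (sup_le c.W₁_le hW₂M)).toEquiv]
    exact c.odd_card _

/-- `H C` inside `M'` (a subgroup of the type `↥M'`). -/
abbrev hcK (M U : Subgroup G) : Subgroup ↥(derivedIn M) :=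
  ((hc M U).subgroupOf M).subgroupOf (derivedIn M)

/-- The value in `G` of an element of `M'`. -/
abbrev val {M : Subgroup G} (k : ↥(derivedIn M)) : G := ((k : ↥M) : G)

/-- `W₁`-invariance of a function on `M'`. -/
def Invariant (M W₁ : Subgroup G) [(derivedIn M).Normal] (θ : ↥(derivedIn M) → ℂ) : Prop :=
  ∀ x ∈ W₁.subgroupOf M, conjC (derivedIn M) x θ = θ

section Facts
variable [Fintype ↥M] (s : Setup M W₁ U W₂)

include s

theorem exists_power : ∃ k : ℕ, ∀ a ∈ cen M U, ∀ h ∈ H, (a * h) ^ k = h := by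
  have c := ctx_of_setup s
  obtain ⟨k, hk1, hk0⟩ := Nat.chineseRemainder
    (c.coprime_H_U.coprime_dvd_right (card_dvd_of_le (inf_le_left : cen M U ≤ U))) 1 0
  refine ⟨k, fun a ha h hh => ?_⟩
  have hcm : Commute a h := (mem_centralizer_iff.1 ha.2 h hh).symm
  have e1 : a ^ k = 1 := orderOf_dvd_iff_pow_eq_one.1
    (dvd_trans (orderOf_dvd_natCard _ ha) (Nat.modEq_zero_iff_dvd.1 hk0))
  have e2 : h ^ k = h := by
    conv_rhs => rw [← pow_one h]
    exact pow_eq_pow_iff_modEq.2 (hk1.of_dvd (orderOf_dvd_natCard _ hh))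
  rw [hcm.mul_pow, e1, e2, one_mul]

theorem exists_norm : ∃ π : ↥(H : Subgroup G) →* ↥W₂, Function.Surjective π ∧
    ∀ w ∈ W₁, ∀ (h : ↥(H : Subgroup G)) (h' : ↥(H : Subgroup G)),
      (h' : G) = w * h * w⁻¹ → π h' = π h := by
  classical
  have c := ctx_of_setup s
  letI : CommGroup ↥(H : Subgroup G) :=
    { (inferInstance : _root_.Group ↥(H : Subgroup G)) with
      mul_comm := fun a b => Subtype.ext (H_comm s a.2 b.2) }
  haveI : Fintype W₁ := Fintype.ofFinite W₁
  have hn : W₁ ≤ normalizer ((H : Subgroup G) : Set G) := c.W₁_le.trans c.H_normal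
  let cj : W₁ → ↥(H : Subgroup G) →* ↥(H : Subgroup G) := fun a =>
    ((H : Subgroup G).normalizerMonoidHom ⟨a, hn a.2⟩).toMonoidHom
  have hcv : ∀ (a : W₁) (x : ↥(H : Subgroup G)),
      ((cj a x : ↥(H : Subgroup G)) : G) = (a : G) * x * (a : G)⁻¹ := fun _ _ => rfl
  let φ : ↥(H : Subgroup G) →* ↥(H : Subgroup G) := ∏ a : W₁, cj a
  have hφ : ∀ x, φ x = ∏ a : W₁, cj a x := fun x => MonoidHom.finsetProd_apply _ _ _
  have hinv : ∀ (b : W₁) x, φ (cj b x) = φ x := by
    intro b x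
    rw [hφ, hφ]
    refine Fintype.prod_equiv (Equiv.mulRight b) _ _ fun a => Subtype.ext ?_
    rw [hcv, hcv, hcv]
    simp [mul_assoc]
  have hfix : ∀ (b : W₁) x, cj b (φ x) = φ x := by
    intro b x
    rw [hφ, map_prod]
    refine Fintype.prod_equiv (Equiv.mulLeft b) _ _ fun a => Subtype.ext ?_
    rw [hcv, hcv, hcv]
    simp [mul_assoc]
  have hmem : ∀ x, (φ x : G) ∈ W₂ := fun x => by
    rw [← c.fixed_H]
    refine ⟨(φ x).2, mem_centralizer_iff.2 fun b hb => ?_⟩
    have h1 := congrArg Subtype.val (hfix ⟨b, hb⟩ x)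
    rw [hcv] at h1
    exact mul_inv_eq_iff_eq_mul.1 h1
  refine ⟨((H : Subgroup G).subtype.comp φ).codRestrict W₂ hmem, fun z => ?_, ?_⟩
  · have hcop : (Nat.card ↥W₂).Coprime (Nat.card W₁) :=
      c.coprime_H_W₁.coprime_dvd_left (card_dvd_of_le c.W₂_le_H)
    obtain ⟨y, hy⟩ := (powCoprime hcop).surjective z
    refine ⟨⟨y, c.W₂_le_H y.2⟩, Subtype.ext ?_⟩
    show ((φ ⟨y, c.W₂_le_H y.2⟩ : ↥(H : Subgroup G)) : G) = z
    have h1 : ∀ a : W₁, cj a ⟨y, c.W₂_le_H y.2⟩ = ⟨y, c.W₂_le_H y.2⟩ := fun a => Subtype.ext (by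
      rw [hcv]
      simp only
      rw [mem_centralizer_iff.1 (c.fixed_H.ge y.2).2 a a.2, mul_inv_cancel_right])
    rw [hφ, Finset.prod_congr rfl (fun a _ => h1 a), Finset.prod_const, Finset.card_univ,
      ← Nat.card_eq_fintype_card]
    rw [show (powCoprime hcop) y = y ^ Nat.card W₁ from rfl] at hy
    rw [← hy]
    rfl
  · intro w hw h h' e
    apply Subtype.ext
    show ((φ h' : ↥(H : Subgroup G)) : G) = (φ h : G)
    rw [show h' = cj ⟨w, hw⟩ h from Subtype.ext (e.trans (hcv ⟨w, hw⟩ h).symm), hinv]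

theorem u_eq_index : (hcK M U).index = (cen M U).relIndex U := by
  have c := ctx_of_setup s
  rw [show (hcK M U).index = ((hc M U).subgroupOf M).relIndex (derivedIn M) from rfl,
    relIndex_subgroupOf c.D_le, relIndex_hc c]

/-- The invariant characters attached to the linear characters of `W₂`. -/
theorem exists_theta : ∃ θ : (↥W₂ →* ℂˣ) → ↥(derivedIn M) → ℂ, haveI := K_normal (ctx_of_setup s)
    Function.Injective θ ∧ θ 1 = (fun _ => 1) ∧ ∀ ν,
      Cfsg.IsIrrCharacter ↥(derivedIn M) (θ ν) ∧ Invariant M W₁ (θ ν) ∧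
      (∀ k, val k ∈ cen M U → θ ν k = θ ν 1) ∧
      (ν ≠ 1 → θ ν 1 = ((cen M U).relIndex U : ℂ)) := by
  classical
  have c := ctx_of_setup s
  haveI := K_normal c
  haveI := normal_in (hc_normal c)
  haveI := normal_in c.C_normal
  haveI hFn : (hcK M U).Normal := inferInstance
  haveI : Fintype ↥(derivedIn M) := Fintype.ofFinite _
  obtain ⟨k, hk⟩ := exists_power s
  obtain ⟨π, hπs, hπi⟩ := exists_norm s
  have hcH : cen M U ≤ normalizer ((H : Subgroup G) : Set G) := (cen_le c).trans c.H_normal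
  have hdec : ∀ f : ↥(hcK M U), ∃ a ∈ cen M U, ∃ h ∈ H, val (f : ↥(derivedIn M)) = a * h := fun f => by
    have hf : val (f : ↥(derivedIn M)) ∈ cen M U ⊔ H := by rw [sup_comm]; exact f.2
    exact Coprime.exists_mul_of_mem_sup hcH hf
  have hpr : ∀ f : ↥(hcK M U), val (f : ↥(derivedIn M)) ^ k ∈ H := fun f => by
    obtain ⟨a, ha, h, hh, e⟩ := hdec f
    rw [e, hk a ha h hh]; exact hh
  let pr : ↥(hcK M U) →* ↥(H : Subgroup G) :=
    MonoidHom.mk' (fun f => ⟨val (f : ↥(derivedIn M)) ^ k, hpr f⟩) (fun f g => Subtype.ext (by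
      obtain ⟨a, ha, h, hh, e⟩ := hdec f
      obtain ⟨b, hb, h', hh', e'⟩ := hdec g
      show (val (f : ↥(derivedIn M)) * val (g : ↥(derivedIn M))) ^ k =
        val (f : ↥(derivedIn M)) ^ k * val (g : ↥(derivedIn M)) ^ k
      rw [e, e', show a * h * (b * h') = a * (h * b) * h' by group,
        (mem_centralizer_iff.1 hb.2 h hh), show a * (b * h) * h' = (a * b) * (h * h') by group,
        hk _ (mul_mem ha hb) _ (mul_mem hh hh'), hk a ha h hh, hk b hb h' hh']))
  have hprv : ∀ f : ↥(hcK M U), (pr f : G) = val (f : ↥(derivedIn M)) ^ k := fun _ => rfl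
  have hprH : ∀ f : ↥(hcK M U), val (f : ↥(derivedIn M)) ∈ H → (pr f : G) = val (f : ↥(derivedIn M)) :=
    fun f hf => by rw [hprv]; simpa using hk 1 (one_mem _) _ hf
  have hprC : ∀ f : ↥(hcK M U), val (f : ↥(derivedIn M)) ∈ cen M U → pr f = 1 := fun f hf =>
    Subtype.ext (by rw [hprv]; simpa using hk _ hf 1 (one_mem _))
  let l : (↥W₂ →* ℂˣ) → ↥(hcK M U) →* ℂˣ := fun ν => ν.comp (π.comp pr)
  let θ : (↥W₂ →* ℂˣ) → ↥(derivedIn M) → ℂ := fun ν =>
    if ν = 1 then fun _ => 1 else Cfsg.indFun (hcK M U) (fun f => (l ν f : ℂ))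
  have hinj : ∀ m : G, m ∈ H → ∀ (hm : m ∈ D) (hmM : m ∈ M),
      (⟨⟨m, hmM⟩, hm⟩ : ↥(derivedIn M)) ∈ hcK M U := fun m hmH _ _ => mem_sup_left hmH
  -- conjugation invariance of `λ = ν ∘ π` forces membership in `C`
  have hT : ∀ ν : ↥W₂ →* ℂˣ, ν ≠ 1 → ∀ a ∈ U,
      (∀ (h h' : ↥(H : Subgroup G)), (h' : G) = a * h * a⁻¹ → ν (π h') = ν (π h)) → a ∈ cen M U := by
    intro ν hν a ha hfix
    let X : Subgroup G :=
      { carrier := {h | h ∈ H ∧ ∀ b ∈ U, ∀ (h' : ↥(H : Subgroup G)), (h' : G) = b * h * b⁻¹ → ν (π h') = 1}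
        one_mem' := ⟨one_mem _, fun b _ h' e => by
          have : h' = 1 := Subtype.ext (by simpa using e)
          rw [this, map_one, map_one]⟩
        mul_mem' := fun {x y} hx hy => ⟨mul_mem hx.1 hy.1, fun b hb h' e => by
          have mx := conj_mem_of_normalizes c.H_normal (c.U_le hb) hx.1
          have my := conj_mem_of_normalizes c.H_normal (c.U_le hb) hy.1
          rw [show h' = (⟨_, mx⟩ : ↥(H : Subgroup G)) * ⟨_, my⟩ from Subtype.ext (by
            rw [e]; push_cast; group), map_mul, map_mul, hx.2 b hb _ rfl, hy.2 b hb _ rfl, one_mul]⟩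
        inv_mem' := fun {x} hx => ⟨inv_mem hx.1, fun b hb h' e => by
          have mx := conj_mem_of_normalizes c.H_normal (c.U_le hb) hx.1
          rw [show h' = (⟨_, mx⟩ : ↥(H : Subgroup G))⁻¹ from Subtype.ext (by
            rw [e]; push_cast; group), map_inv, map_inv, hx.2 b hb _ rfl, inv_one]⟩ }
    have hXU : U ≤ normalizer (X : Set G) := by
      rw [Subgroup.le_normalizer_iff]
      intro d hd x hx
      have hx : x ∈ H ∧ ∀ b ∈ U, ∀ (h' : ↥(H : Subgroup G)), (h' : G) = b * x * b⁻¹ → ν (π h') = 1 := hx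
      refine ⟨conj_mem_of_normalizes c.H_normal (c.U_le hd) hx.1, fun b hb h' e => ?_⟩
      exact hx.2 (b * d) (mul_mem hb hd) h' (by rw [e]; group)
    have hXW : W₁ ≤ normalizer (X : Set G) := by
      rw [Subgroup.le_normalizer_iff]
      intro w hw x hx
      have hx : x ∈ H ∧ ∀ b ∈ U, ∀ (h' : ↥(H : Subgroup G)), (h' : G) = b * x * b⁻¹ → ν (π h') = 1 := hx
      refine ⟨conj_mem_of_normalizes c.H_normal (c.W₁_le hw) hx.1, fun b hb h' e => ?_⟩
      have hb' : w⁻¹ * b * w ∈ U := by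
        simpa using conj_mem_of_normalizes c.typeP.U_normal (inv_mem hw) hb
      have m := conj_mem_of_normalizes c.H_normal (c.U_le hb') hx.1
      rw [hπi w hw ⟨_, m⟩ h' (by rw [e]; group)]
      exact hx.2 _ hb' _ rfl
    have hmemX : ∀ {x : G}, x ∈ X → x ∈ H ∧ ∀ b ∈ U, ∀ (h' : ↥(H : Subgroup G)),
        (h' : G) = b * x * b⁻¹ → ν (π h') = 1 := fun hx => hx
    have hXbot : X = ⊥ := (chief' s (fun x hx => (hmemX hx).1) hXU hXW).resolve_right fun e => hν (by
      refine MonoidHom.ext fun z => ?_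
      obtain ⟨y, rfl⟩ := hπs z
      exact (hmemX (e.ge y.2)).2 1 (one_mem _) y (by simp))
    refine ⟨ha, mem_centralizer_iff.2 fun h hh => ?_⟩
    have hah := conj_mem_of_normalizes c.H_normal (c.U_le ha) hh
    have hcomm : a * h * a⁻¹ * h⁻¹ ∈ X := by
      refine ⟨mul_mem hah (inv_mem hh), fun b hb h' e => ?_⟩
      have m1 := conj_mem_of_normalizes c.H_normal (c.U_le hb) hah
      have m2 := conj_mem_of_normalizes c.H_normal (c.U_le hb) hh
      have hba : ⁅b, a⁆ ∈ cen M U := (cen_eq s).ge (commutator_mem_commutator hb ha)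
      have m3 := conj_mem_of_normalizes c.H_normal (c.U_le ha) m2
      have e1 : b * (a * h * a⁻¹) * b⁻¹ = a * (b * h * b⁻¹) * a⁻¹ := by
        have h4 := mem_centralizer_iff.1 hba.2 _ m3
        calc b * (a * h * a⁻¹) * b⁻¹ = ⁅b, a⁆ * (a * (b * h * b⁻¹) * a⁻¹) * ⁅b, a⁆⁻¹ := by
              rw [commutatorElement_def]; group
          _ = _ := by rw [← h4]; group
      rw [show h' = (⟨_, m1⟩ : ↥(H : Subgroup G)) * (⟨_, m2⟩ : ↥(H : Subgroup G))⁻¹ from Subtype.ext (by
        rw [e]; push_cast; group), map_mul, map_mul, map_inv, map_inv,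
        hfix ⟨_, m2⟩ ⟨_, m1⟩ e1, mul_inv_cancel]
    rw [hXbot, mem_bot, mul_inv_eq_one, mul_inv_eq_iff_eq_mul] at hcomm
    exact hcomm.symm
  have hstab : ∀ ν : ↥W₂ →* ℂˣ, ν ≠ 1 → ∀ g : ↥(derivedIn M),
      (∀ f : ↥(hcK M U), l ν ⟨g * f * g⁻¹, hFn.conj_mem _ f.2 g⟩ = l ν f) → g ∈ hcK M U := by
    intro ν hν g hg
    obtain ⟨h₀, hh₀, a, ha, e⟩ := c.typeP.U_compl.2.2.2 (val g) g.2
    have hmem : a ∈ cen M U := hT ν hν a ha fun h h' e' => by
      let f : ↥(hcK M U) := ⟨⟨⟨h, c.H_le h.2⟩, c.H_le_D h.2⟩, hinj _ h.2 (c.H_le_D h.2) (c.H_le h.2)⟩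
      have h1 := hg f
      have hf : (pr f : ↥(H : Subgroup G)) = h := Subtype.ext (hprH f h.2)
      let fg : ↥(hcK M U) := ⟨g * f * g⁻¹, hFn.conj_mem _ f.2 g⟩
      have e2 : val (fg : ↥(derivedIn M)) = h' := by
        show val g * (h : G) * (val g)⁻¹ = h'
        rw [e, show h₀ * a * (h : G) * (h₀ * a)⁻¹ = h₀ * (a * h * a⁻¹) * h₀⁻¹ by group, ← e',
          H_comm s hh₀ h'.2, mul_inv_cancel_right]
      have hfg : pr fg = h' := Subtype.ext ((hprH fg (e2 ▸ h'.2)).trans e2)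
      simpa [l, hf, hfg, fg] using h1
    show val g ∈ hc M U
    rw [e]
    exact mul_mem (mem_sup_left hh₀) (mem_sup_right hmem)
  have hirr : ∀ ν, Cfsg.IsIrrCharacter ↥(derivedIn M) (θ ν) := fun ν => by
    by_cases hν : ν = 1
    · simp only [θ, if_pos hν]
      exact (Characters.Basic.oneChar _).2
    · simp only [θ, if_neg hν]
      exact (Linear.ind_irr (l ν) (hstab ν hν)).1
  refine ⟨θ, fun ν ν' he => ?_, if_pos rfl, fun ν => ⟨hirr ν, ?_, ?_, ?_⟩⟩
  · -- injectivity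
    have hdeg : ∀ μ : ↥W₂ →* ℂˣ, μ ≠ 1 → θ μ 1 = ((cen M U).relIndex U : ℂ) := fun μ hμ => by
      simp only [θ, if_neg hμ, (Linear.ind_irr (l μ) (hstab μ hμ)).2, u_eq_index s]
    have h2 : (((cen M U).relIndex U : ℕ) : ℂ) ≠ 1 := fun e => by
      have := two_le_u c
      rw [show (cen M U).relIndex U = 1 by exact_mod_cast e] at this
      omega
    by_cases hν : ν = 1
    · by_contra hne
      have h1 := hdeg ν' (fun e => hne (hν.trans e.symm))
      rw [← congrFun he 1] at h1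
      exact h2 (by simpa [θ, hν] using h1.symm)
    by_cases hν' : ν' = 1
    · have h1 := hdeg ν hν
      rw [congrFun he 1] at h1
      exact absurd (by simpa [θ, hν'] using h1.symm) h2
    simp only [θ, if_neg hν, if_neg hν'] at he
    have hne : Cfsg.classInner (fun f : ↥(hcK M U) =>
        Cfsg.indFun (hcK M U) (fun f => (l ν f : ℂ)) (f : ↥(derivedIn M))) (fun f => (l ν' f : ℂ)) ≠ 0 := by
      rw [he, ← Induced.Basic.frobenius_reciprocity' (hcK M U) _
        (Induced.Basic.isClassFunction_indFun _ _)]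
      rw [Characters.Basic.classInner_self_irr ⟨_, (Linear.ind_irr (l ν') (hstab ν' hν')).1⟩]
      exact one_ne_zero
    obtain ⟨g, hg⟩ := Isometry.InducedSystem.constituent_eq (hcK M U)
      (Induced.Character.isIrrCharacter_hom (l ν)) (Induced.Character.isIrrCharacter_hom (l ν')) hne
    obtain ⟨h₀, hh₀, a, ha, e⟩ := c.typeP.U_compl.2.2.2 (val g) g.2
    have key : ∀ h h' : ↥(H : Subgroup G), (h' : G) = a * h * a⁻¹ → ν' (π h) = ν (π h') := by
      intro h h' e'
      let f : ↥(hcK M U) := ⟨⟨⟨h, c.H_le h.2⟩, c.H_le_D h.2⟩, hinj _ h.2 (c.H_le_D h.2) (c.H_le h.2)⟩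
      have h1 := congrFun hg f
      have hf : (pr f : ↥(H : Subgroup G)) = h := Subtype.ext (hprH f h.2)
      let fg : ↥(hcK M U) := ⟨g * f * g⁻¹, hFn.conj_mem _ f.2 g⟩
      have e2 : val (fg : ↥(derivedIn M)) = h' := by
        show val g * (h : G) * (val g)⁻¹ = h'
        rw [e, show h₀ * a * (h : G) * (h₀ * a)⁻¹ = h₀ * (a * h * a⁻¹) * h₀⁻¹ by group, ← e',
          H_comm s hh₀ h'.2, mul_inv_cancel_right]
      have hfg : pr fg = h' := Subtype.ext ((hprH fg (e2 ▸ h'.2)).trans e2)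
      have h3 : (l ν' f : ℂ) = (l ν fg : ℂ) := h1
      have h4 := Units.ext h3
      simpa [l, hf, hfg] using h4
    have haC : a ∈ cen M U := by
      have hfixw : ∀ w ∈ W₁, w * a * w⁻¹ * a⁻¹ ∈ cen M U := fun w hw => by
        have hwa : w * a * w⁻¹ ∈ U := conj_mem_of_normalizes c.typeP.U_normal hw ha
        refine hT ν hν _ (mul_mem hwa (inv_mem ha)) fun x x' hxx => ?_
        have hy := conj_mem_of_normalizes c.H_normal (c.U_le (inv_mem ha)) x.2
        have hz : w⁻¹ * (a⁻¹ * x * a⁻¹⁻¹) * w ∈ H := by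
          simpa using conj_mem_of_normalizes c.H_normal (c.W₁_le (inv_mem hw)) hy
        have hzz := conj_mem_of_normalizes c.H_normal (c.U_le ha) hz
        have k1 := key ⟨_, hy⟩ x (by simp [mul_assoc])
        have k2 := key ⟨_, hz⟩ ⟨_, hzz⟩ rfl
        rw [hπi w hw ⟨_, hzz⟩ x' (by rw [hxx]; simp [mul_assoc]), ← k2, ← k1,
          hπi w hw ⟨_, hz⟩ ⟨_, hy⟩ (by simp [mul_assoc])]
      obtain ⟨n, hn, hcent⟩ := Coprime.exists_fixed_mul (c.W₁_le.trans c.C_normal)
        (c.coprime_U_W₁.symm.coprime_dvd_right (card_dvd_of_le inf_le_left))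
        (Or.inl (by
          haveI := c.solvable
          exact Group.isSolvable_of_isSolvable_injective (inclusion_injective c.W₁_le)))
        (k := a) hfixw
      obtain ⟨w, hw, hw1⟩ := W₁.bot_or_exists_ne_one.resolve_left c.W₁_ne
      have h1 := c.fpf hw hw1 (mul_mem hn.1 ha) (mem_centralizer_iff.1 hcent w hw)
      rw [eq_inv_of_mul_eq_one_right h1]
      exact inv_mem hn
    refine MonoidHom.ext fun z => ?_
    obtain ⟨y, rfl⟩ := hπs z
    refine (key y y ?_).symm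
    rw [← mem_centralizer_iff.1 haC.2 y y.2, mul_inv_cancel_right]
  · -- invariance
    intro x hx
    by_cases hν : ν = 1
    · simp only [θ, if_pos hν]
      rfl
    simp only [θ, if_neg hν]
    funext j
    have hfix : ∀ f f' : ↥(hcK M U),
        val (f' : ↥(derivedIn M)) = (x : G) * val (f : ↥(derivedIn M)) * (x : G)⁻¹ →
        l ν f' = l ν f := fun f f' e => by
      show ν (π (pr f')) = ν (π (pr f))
      congr 1
      refine hπi x hx _ _ ?_
      rw [hprv, hprv, e, conj_pow]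
    show Cfsg.indFun (hcK M U) (fun f => (l ν f : ℂ)) ⟨x * j * x⁻¹, _⟩ =
      Cfsg.indFun (hcK M U) (fun f => (l ν f : ℂ)) j
    simp only [Cfsg.indFun]
    congr 1
    refine (Fintype.sum_equiv (MulAut.conjNormal x : ↥(derivedIn M) ≃* ↥(derivedIn M)).toEquiv
      _ _ fun y => ?_).symm
    set j' : ↥(derivedIn M) := ⟨x * j * x⁻¹, (K_normal c).conj_mem _ j.2 x⟩
    set y' := (MulAut.conjNormal x : ↥(derivedIn M) ≃* ↥(derivedIn M)).toEquiv y
    have e2 : val (y'⁻¹ * j' * y') = (x : G) * val (y⁻¹ * j * y) * (x : G)⁻¹ := by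
      simp [val, y', j', mul_assoc, MulAut.conjNormal_apply]
    by_cases hm : y⁻¹ * j * y ∈ hcK M U
    · have hm' : y'⁻¹ * j' * y' ∈ hcK M U := by
        show val (y'⁻¹ * j' * y') ∈ hc M U
        rw [e2]
        exact conj_mem_of_normalizes (hc_normal c) x.2 hm
      rw [Induced.Basic.extendByZero_of_mem _ _ hm, Induced.Basic.extendByZero_of_mem _ _ hm',
        hfix ⟨_, hm⟩ ⟨_, hm'⟩ e2]
    · have hm' : y'⁻¹ * j' * y' ∉ hcK M U := fun h' => hm (by
        show val (y⁻¹ * j * y) ∈ hc M U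
        have := conj_mem_of_normalizes (hc_normal c) (inv_mem x.2)
          (show val (y'⁻¹ * j' * y') ∈ hc M U from h')
        rw [e2] at this
        simpa [mul_assoc] using this)
      rw [Induced.Basic.extendByZero_of_not_mem _ _ hm, Induced.Basic.extendByZero_of_not_mem _ _ hm']
  · -- `C` in the kernel
    intro j hj
    by_cases hν : ν = 1
    · simp only [θ, if_pos hν]
    simp only [θ, if_neg hν]
    haveI : (((cen M U).subgroupOf M).subgroupOf (derivedIn M)).Normal := inferInstance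
    exact Linear.ind_kernel (l ν) (N := ((cen M U).subgroupOf M).subgroupOf (derivedIn M))
      (fun f hf => by show ν (π (pr f)) = 1; rw [hprC f hf, map_one, map_one])
      (fun z hz => show val z ∈ hc M U from mem_sup_right hz) hj
  · intro hν
    simp only [θ, if_neg hν]
    rw [(Linear.ind_irr (l ν) (hstab ν hν)).2, u_eq_index s]

/-- A non-principal invariant irreducible character of `M'` has degree `u` and `C` in its kernel. -/
theorem invariant_facts {θ : ↥(derivedIn M) → ℂ} (hθ : Cfsg.IsIrrCharacter ↥(derivedIn M) θ)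
    (hne : θ ≠ fun _ => 1) (hinv : haveI := K_normal (ctx_of_setup s); Invariant M W₁ θ) :
    θ 1 = ((cen M U).relIndex U : ℂ) ∧ ∀ k, val k ∈ cen M U → θ k = θ 1 := by
  classical
  have c := ctx_of_setup s
  haveI := K_normal c
  have hp := pLike s
  obtain ⟨Θ, hinjΘ, hone, hΘ⟩ := exists_theta s
  obtain ⟨-, hcount, -⟩ := Cfsg.Agent.S1513.result (derivedIn M) (W₁.subgroupOf M) (W₂.subgroupOf M)
    hp.inf_eq hp.sup_eq hp.ne₁ hp.cyclic₁ hp.hall hp.ne₂ hp.cyclic₂ hp.le hp.cent hp.odd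
  let T := {χ : Cfsg.IrrCharacter ↥(derivedIn M) // Invariant M W₁ (χ : ↥(derivedIn M) → ℂ)}
  haveI : IsMulCommutative ↥W₂ := ⟨⟨fun a b =>
    Subtype.ext (H_comm s (c.W₂_le_H a.2) (c.W₂_le_H b.2))⟩⟩
  letI : CommGroup ↥W₂ := { (inferInstance : _root_.Group ↥W₂) with
    mul_comm := fun a b => Subtype.ext (H_comm s (c.W₂_le_H a.2) (c.W₂_le_H b.2)) }
  haveI := Isometry.Clifford.finite_dual (Q := ↥W₂)
  have hcard : Nat.card (↥W₂ →* ℂˣ) = Nat.card W₂ :=
    CommGroup.card_monoidHom_of_hasEnoughRootsOfUnity ↥W₂ ℂ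
  let f : (↥W₂ →* ℂˣ) → T := fun ν => ⟨⟨Θ ν, (hΘ ν).1⟩, (hΘ ν).2.1⟩
  have hf : Function.Injective f := fun a b e =>
    hinjΘ (congrArg (fun t : T => ((t.1 : Cfsg.IrrCharacter ↥(derivedIn M)) : ↥(derivedIn M) → ℂ)) e)
  have hT : Nat.card T = Nat.card W₂ := by
    rw [← Nat.card_congr (subgroupOfEquivOfLe (c.W₂_le_H.trans c.H_le)).toEquiv, ← hcount]
    rfl
  have hbij : Function.Bijective f :=
    (Nat.bijective_iff_injective_and_card f).2 ⟨hf, hcard.trans hT.symm⟩
  obtain ⟨ν, hν⟩ := hbij.2 ⟨⟨θ, hθ⟩, hinv⟩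
  have e : Θ ν = θ :=
    congrArg (fun t : T => ((t.1 : Cfsg.IrrCharacter ↥(derivedIn M)) : ↥(derivedIn M) → ℂ)) hν
  subst e
  exact ⟨(hΘ ν).2.2.2 fun h => hne (by rw [h, hone]), (hΘ ν).2.2.1⟩

end Facts

end Cfsg.Agent.Lib.OddOrder.PF11.Theta
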