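import Cfsg.Agent.Lib.OddOrder.PF11.PLike
import Cfsg.Agent.Lib.OddOrder.PF11.Theta

/-!
# Peterfalvi §11: the characters `μ` of `M` attached to the linear characters of `W₁ W₂`

For `ψ ≠ 1` trivial on `W₁` the characters `μ (φ ψ)` have degree `u`, sign `1`, the same restriction to
`M'`, and `C` in their kernels.
-/

set_option autoImplicit false
set_option linter.style.haveILetI false
set_option linter.unusedSectionVars false

namespace Cfsg.Agent.Lib.OddOrder.PF11.Chars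

open Subgroup
open Cfsg.Agent.Lib
open Cfsg.Agent.Lib.OddOrder.Basic
open Cfsg.Agent.Lib.CyclicTI (IsP IsQ)
open Cfsg.Agent.Lib.OddOrder.PF11.Group (Ctx)
open Cfsg.Agent.Lib.OddOrder.PF11.Bound
open Cfsg.Agent.Lib.OddOrder.PF11.Theta (val Invariant)
open Cfsg.Agent.Lib.OddOrder.Interface.PF11 (derivedIn tau Setup)

universe u

variable {G : Type u} [_root_.Group G] [Fintype G] {M W₁ U W₂ : Subgroup G}

/-- The linear characters of `W₁ W₂` trivial on `W₂`. -/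
noncomputable def rows (W₁ W₂ : Subgroup G) : Finset (↥(W₁ ⊔ W₂) →* ℂˣ) :=
  haveI : Finite (↥(W₁ ⊔ W₂) →* ℂˣ) := CyclicTI.finite_hom
  (Set.toFinite {φ : ↥(W₁ ⊔ W₂) →* ℂˣ | IsP φ}).toFinset

/-- The linear characters of `W₁ W₂` trivial on `W₁`. -/
noncomputable def cols (W₁ W₂ : Subgroup G) : Finset (↥(W₁ ⊔ W₂) →* ℂˣ) :=
  haveI : Finite (↥(W₁ ⊔ W₂) →* ℂˣ) := CyclicTI.finite_hom
  (Set.toFinite {φ : ↥(W₁ ⊔ W₂) →* ℂˣ | IsQ φ}).toFinset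

theorem mem_rows {φ : ↥(W₁ ⊔ W₂) →* ℂˣ} : φ ∈ rows W₁ W₂ ↔ IsP φ := by simp [rows]

theorem mem_cols {φ : ↥(W₁ ⊔ W₂) →* ℂˣ} : φ ∈ cols W₁ W₂ ↔ IsQ φ := by simp [cols]

theorem card_rows (hW : Cfsg.IsSelfNormalizingCyclic W₁ W₂) : (rows W₁ W₂).card = Nat.card W₁ := by
  classical
  haveI : Finite (↥(W₁ ⊔ W₂) →* ℂˣ) := CyclicTI.finite_hom
  haveI := Fintype.ofFinite (↥(W₁ ⊔ W₂) →* ℂˣ)
  rw [← CyclicTI.card_isP hW]
  congr 1
  ext φ
  simp [mem_rows]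

theorem card_cols (hW : Cfsg.IsSelfNormalizingCyclic W₁ W₂) : (cols W₁ W₂).card = Nat.card W₂ := by
  classical
  haveI : Finite (↥(W₁ ⊔ W₂) →* ℂˣ) := CyclicTI.finite_hom
  haveI := Fintype.ofFinite (↥(W₁ ⊔ W₂) →* ℂˣ)
  rw [← CyclicTI.card_isQ hW]
  congr 1
  ext φ
  simp [mem_cols]

/-- What is used about the characters `μ`. -/
structure Mu [Fintype ↥M] (μ : (↥(W₁ ⊔ W₂) →* ℂˣ) → ↥M → ℂ) (U : Subgroup G) : Prop where
  inj : Function.Injective μ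
  irr : ∀ ω, Cfsg.IsIrrCharacter ↥M (μ ω)
  val : ∀ ω (w : ↥(W₁ ⊔ W₂)) (hw : (w : G) ∈ M), (w : G) ∉ W₂ → μ ω ⟨w, hw⟩ = (ω w : ℂ)
  one : μ 1 = fun _ => 1
  linear : ∀ φ, IsP φ → ∀ k ∈ derivedIn M, μ φ k = 1
  agree : ∀ φ ψ, IsP φ → ∀ k ∈ derivedIn M, μ (φ * ψ) k = μ ψ k
  restrict : ∀ ω, Cfsg.IsIrrCharacter ↥(derivedIn M) fun k : ↥(derivedIn M) => μ ω k
  restrict_ne : ∀ ψ, IsQ ψ → ψ ≠ 1 → (fun k : ↥(derivedIn M) => μ ψ k) ≠ fun _ => 1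
  degree : ∀ ψ, IsQ ψ → ψ ≠ 1 → μ ψ 1 = ((cen M U).relIndex U : ℂ)
  cen_ker : ∀ ψ, IsQ ψ → ∀ k : ↥M, (k : G) ∈ cen M U → μ ψ k = μ ψ 1
  column : ∀ ψ, Cfsg.indFun (derivedIn M) (fun k : ↥(derivedIn M) => μ ψ k) =
    ∑ φ ∈ rows W₁ W₂, μ (φ * ψ)
  conj : ∀ ω, Cfsg.conjFun (μ ω) = μ ω⁻¹

/-- The characters exist. -/
theorem exists_mu [Fintype ↥M] (s : Setup M W₁ U W₂) :
    ∃ μ : (↥(W₁ ⊔ W₂) →* ℂˣ) → ↥M → ℂ, Mu μ U := by
  classical
  have c := ctx_of_setup s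
  haveI := K_normal c
  have hW₂M : W₂ ≤ M := c.W₂_le_H.trans c.H_le
  have hsup : W₁.subgroupOf M ⊔ W₂.subgroupOf M = (W₁ ⊔ W₂).subgroupOf M :=
    (subgroupOf_sup c.W₁_le hW₂M).symm
  let e : ↥(W₁.subgroupOf M ⊔ W₂.subgroupOf M) ≃* ↥(W₁ ⊔ W₂) :=
    (MulEquiv.subgroupCongr hsup).trans (subgroupOfEquivOfLe (sup_le c.W₁_le hW₂M))
  have hev : ∀ w, ((e w : ↥(W₁ ⊔ W₂)) : G) = ((w : ↥M) : G) := fun w => rfl
  have hp := Theta.pLike s
  obtain ⟨μ, δ, A⟩ := PLike.exists_attached hp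
  set T : (↥(W₁ ⊔ W₂) →* ℂˣ) → (↥(W₁.subgroupOf M ⊔ W₂.subgroupOf M) →* ℂˣ) :=
    fun ω => ω.comp e.toMonoidHom with hT
  have hTP : ∀ φ, IsP φ → IsP (T φ) := fun φ hφ w hw => hφ (e w) (by rw [hev]; exact hw)
  have hTQ : ∀ φ, IsQ φ → IsQ (T φ) := fun φ hφ w hw => hφ (e w) (by rw [hev]; exact hw)
  have hTinj : Function.Injective T := fun a b h => MonoidHom.ext fun w => by
    have := DFunLike.congr_fun h (e.symm w)
    simpa [T] using this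
  have hTmul : ∀ a b, T (a * b) = T a * T b := fun a b => rfl
  have hrow : ∀ φ, IsP φ → δ (T φ) = 1 ∧ ∀ k ∈ derivedIn M, μ (T φ) k = 1 := fun φ hφ =>
    PLike.row hp A (hTP φ hφ)
  have hmagree : ∀ φ ψ, IsP φ → ∀ k ∈ derivedIn M, μ (T (φ * ψ)) k = μ (T ψ) k := fun φ ψ hφ k hk => by
    rw [hTmul]; exact PLike.agree hp A (hTP φ hφ) hk
  have hcol : ∀ ψ, Cfsg.indFun (derivedIn M) (fun k : ↥(derivedIn M) => μ (T ψ) k) =
      ∑ φ ∈ rows W₁ W₂, μ (T (φ * ψ)) := by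
    intro ψ
    rw [PLike.column hp A (ψ := T ψ) ((rows W₁ W₂).image T) (fun φ => ?_), Finset.sum_image hTinj.injOn]
    · exact Finset.sum_congr rfl fun φ _ => by rw [hTmul]
    refine ⟨fun h => ?_, fun h => Finset.mem_image.2 ⟨φ.comp e.symm.toMonoidHom,
      mem_rows.2 fun w hw => h (e.symm w) ?_, MonoidHom.ext fun w => by simp [T]⟩⟩
    · obtain ⟨φ', h', rfl⟩ := Finset.mem_image.1 h
      exact hTP φ' (mem_rows.1 h')
    · show ((e.symm w : ↥M) : G) ∈ W₂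
      rw [← hev, e.apply_symm_apply]
      exact hw
  have hinv : ∀ ψ, Invariant M W₁ (fun k : ↥(derivedIn M) => μ (T ψ) k) := fun ψ x _ =>
    Clifford.Basic.conjC_restrict (derivedIn M)
      (Characters.Basic.isClassFunction_irr ⟨_, A.irr (T ψ)⟩) x
  have hne : ∀ ψ, IsQ ψ → ψ ≠ 1 → (fun k : ↥(derivedIn M) => μ (T ψ) k) ≠ fun _ => 1 := by
    intro ψ hψ hψ1 h
    have h1 : (fun k : ↥(derivedIn M) => μ (T 1) k) = fun _ => 1 :=
      funext fun k => (hrow 1 CyclicTI.isP_one).2 k k.2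
    have h2 := congrArg (fun f => Cfsg.classInner f (μ (T 1))) ((hcol 1).symm.trans
      ((congrArg (Cfsg.indFun (derivedIn M)) (h1.trans h.symm)).trans (hcol ψ)))
    simp only [Characters.Basic.classInner_sum_left] at h2
    rw [Finset.sum_eq_single 1, Finset.sum_eq_zero,
      show (1 : ↥(W₁ ⊔ W₂) →* ℂˣ) * 1 = 1 from MonoidHom.ext fun w => by simp,
      Isometry.Inner.classInner_irr_eq (A.irr _) (A.irr _), if_pos rfl] at h2
    · exact one_ne_zero h2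
    · intro φ hφ
      rw [Isometry.Inner.classInner_irr_eq (A.irr _) (A.irr _), if_neg]
      intro e
      exact hψ1 ((CyclicTI.mul_eq_one_iff (mem_rows.1 hφ) hψ).1 (hTinj (A.inj e))).2
    · intro φ _ hφ1
      rw [show φ * (1 : ↥(W₁ ⊔ W₂) →* ℂˣ) = φ from MonoidHom.ext fun w => by simp,
        Isometry.Inner.classInner_irr_eq (A.irr _) (A.irr _), if_neg fun e => hφ1 (hTinj (A.inj e))]
    · exact fun h => absurd (mem_rows.2 CyclicTI.isP_one) h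
  have hdeg : ∀ ψ, IsQ ψ → ψ ≠ 1 → μ (T ψ) 1 = ((cen M U).relIndex U : ℂ) ∧
      ∀ k : ↥M, (k : G) ∈ cen M U → μ (T ψ) k = μ (T ψ) 1 := by
    intro ψ hψ hψ1
    obtain ⟨h1, h2⟩ := Theta.invariant_facts s (PLike.restrict_irr hp A (T ψ)) (hne ψ hψ hψ1) (hinv ψ)
    exact ⟨h1, fun k hk => h2 ⟨k, c.U_le_D hk.1⟩ hk⟩
  have hδ : ∀ ω, δ (T ω) = 1 := by
    intro ω
    obtain ⟨φ, ψ, hφ, hψ, rfl⟩ := CyclicTI.exists_decomp c.typeP.selfNormalizing ω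
    rw [hTmul, (A.diff (T φ * T ψ) (T ψ)
      (fun w hw => by rw [MonoidHom.mul_apply, hTP φ hφ w hw, one_mul])).1]
    by_cases hψ1 : ψ = 1
    · subst hψ1; exact (hrow 1 CyclicTI.isP_one).1
    rcases A.sign (T ψ) with h | h
    · exact h
    exfalso
    obtain ⟨n, hn⟩ := A.cong (T ψ)
    rw [(hdeg ψ hψ hψ1).1, h, Nat.card_congr (subgroupOfEquivOfLe c.W₁_le).toEquiv] at hn
    have h3 : (((cen M U).relIndex U : ℤ) + 1) = n * (Nat.card W₁ : ℤ) := by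
      have : ((((cen M U).relIndex U : ℤ) + 1 : ℤ) : ℂ) = ((n * (Nat.card W₁ : ℤ) : ℤ) : ℂ) := by
        push_cast; rw [← hn]; ring
      exact_mod_cast this
    obtain ⟨hm, -, hle⟩ := u_facts s
    have h4 : (Nat.card W₁ : ℤ) ∣ ((cen M U).relIndex U : ℤ) - 1 := by
      have h5 := Nat.modEq_iff_dvd.1 hm.symm
      simpa using h5
    have h6 : (Nat.card W₁ : ℤ) ∣ 2 := by
      have h7 : (Nat.card W₁ : ℤ) ∣ ((cen M U).relIndex U : ℤ) + 1 := ⟨n, by rw [h3]; ring⟩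
      have := dvd_sub h7 h4
      ring_nf at this
      exact this
    have h8 := Int.le_of_dvd (by norm_num) h6
    have := c.three_le_q
    omega
  refine ⟨fun ω => μ (T ω), fun a b h => hTinj (A.inj h), fun ω => A.irr _, fun ω w hw hw2 => ?_,
    PLike.map_one' hp A, fun φ hφ => (hrow φ hφ).2, hmagree, fun ω => PLike.restrict_irr hp A _,
    hne, fun ψ hψ h1 => (hdeg ψ hψ h1).1, fun ψ hψ k hk => ?_, hcol, fun ω => ?_⟩
  · have h1 := A.val (T ω) (e.symm w) (fun hm => hw2 (by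
      have h2 : ((e.symm w : ↥M) : G) ∈ W₂ := hm
      rwa [← hev, e.apply_symm_apply] at h2))
    rw [hδ, one_mul] at h1
    have h3 : ((e.symm w : ↥(W₁.subgroupOf M ⊔ W₂.subgroupOf M)) : ↥M) = ⟨w, hw⟩ :=
      Subtype.ext (by rw [← hev, e.apply_symm_apply])
    rw [h3] at h1
    simpa [T] using h1
  · by_cases h1 : ψ = 1
    · subst h1
      show μ (T 1) k = μ (T 1) 1
      rw [(hrow 1 CyclicTI.isP_one).2 k (c.U_le_D hk.1),
        (hrow 1 CyclicTI.isP_one).2 1 (one_mem _)]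
    · exact (hdeg ψ hψ h1).2 k hk
  · exact (PLike.conj_eq hp A (T ω)).1

end Cfsg.Agent.Lib.OddOrder.PF11.Chars
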