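import Mathlib

/-!
# Peterfalvi §11: integer row-plus-column matrices of small norm
-/

set_option autoImplicit false

namespace Cfsg.Agent.Lib.OddOrder.PF11.Grid

open Finset

variable {ι κ : Type*} [Fintype ι] [Fintype κ] [DecidableEq κ]

/-- A row-plus-column matrix of norm at most the number of rows is constant along the rows, or is
supported, with value `±1`, on a single column. -/
theorem small_cases (x : ι → ℤ) (y : κ → ℤ) (hκ : 3 ≤ Fintype.card κ)
    (h : ∑ i, ∑ l, (x i + y l) ^ 2 ≤ (Fintype.card ι : ℤ)) :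
    (∀ l l', y l = y l') ∨
      ∃ l₀ e, (e = 1 ∨ e = -1) ∧ ∀ i l, x i + y l = if l = l₀ then e else 0 := by
  classical
  refine or_iff_not_imp_left.2 fun hy => ?_
  push Not at hy
  obtain ⟨a, b, hab⟩ := hy
  rcases isEmpty_or_nonempty ι with hι | hι
  · exact ⟨a, 1, Or.inl rfl, fun i => isEmptyElim i⟩
  have hrow : ∀ i, 1 ≤ ∑ l, (x i + y l) ^ 2 := by
    intro i
    by_contra hlt
    push Not at hlt
    have h0 : ∑ l, (x i + y l) ^ 2 = 0 :=
      le_antisymm (by omega) (Finset.sum_nonneg fun l _ => sq_nonneg _)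
    rw [Finset.sum_eq_zero_iff_of_nonneg fun l _ => sq_nonneg _] at h0
    have ha := sq_eq_zero_iff.1 (h0 a (mem_univ a))
    have hb := sq_eq_zero_iff.1 (h0 b (mem_univ b))
    exact hab (by omega)
  have hone : ∀ i, ∑ l, (x i + y l) ^ 2 = 1 := by
    intro i
    have hsum := Finset.sum_le_sum (s := univ.erase i) fun j _ => hrow j
    rw [sum_const, card_erase_of_mem (mem_univ i), card_univ, nsmul_eq_mul, mul_one] at hsum
    rw [← Finset.add_sum_erase _ _ (mem_univ i)] at h
    have := hrow i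
    have hpos : 1 ≤ Fintype.card ι := Fintype.card_pos
    push_cast [hpos] at hsum
    omega
  have hsingle : ∀ i, ∃ l₀, (x i + y l₀) ^ 2 = 1 ∧ ∀ l, l ≠ l₀ → x i + y l = 0 := by
    intro i
    have h1 := hone i
    obtain ⟨l₀, -, hl₀⟩ := Finset.exists_ne_zero_of_sum_ne_zero (by rw [h1]; norm_num :
      ∑ l, (x i + y l) ^ 2 ≠ 0)
    rw [← Finset.add_sum_erase _ _ (mem_univ l₀)] at h1
    have hge : 1 ≤ (x i + y l₀) ^ 2 := by
      have := sq_nonneg (x i + y l₀)
      omega
    have hnn : 0 ≤ ∑ l ∈ univ.erase l₀, (x i + y l) ^ 2 := Finset.sum_nonneg fun l _ => sq_nonneg _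
    have hz : ∑ l ∈ univ.erase l₀, (x i + y l) ^ 2 = 0 := by omega
    rw [Finset.sum_eq_zero_iff_of_nonneg fun l _ => sq_nonneg _] at hz
    exact ⟨l₀, by omega, fun l hl => sq_eq_zero_iff.1 (hz l (mem_erase.2 ⟨hl, mem_univ l⟩))⟩
  choose c hc1 hc0 using hsingle
  have hx : ∀ i k, x i = x k := by
    intro i k
    obtain ⟨l, hl⟩ : ∃ l, l ∉ ({c i, c k} : Finset κ) := by
      by_contra hcon
      push Not at hcon
      have := Finset.card_le_card (s := (univ : Finset κ)) fun l _ => hcon l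
      rw [card_univ] at this
      have := Finset.card_le_two (a := c i) (b := c k)
      omega
    simp only [mem_insert, mem_singleton, not_or] at hl
    have := hc0 i l hl.1
    have := hc0 k l hl.2
    omega
  obtain ⟨i₀⟩ := hι
  refine ⟨c i₀, x i₀ + y (c i₀), sq_eq_one_iff.1 (hc1 i₀), fun i l => ?_⟩
  rw [hx i i₀]
  split_ifs with hl
  · rw [hl]
  · exact hc0 i₀ l hl

/-- A row-plus-column matrix of norm at most two vanishes. -/
theorem small_zero (x : ι → ℤ) (y : κ → ℤ) (hι : 3 ≤ Fintype.card ι) (hκ : 3 ≤ Fintype.card κ)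
    (h : ∑ i, ∑ l, (x i + y l) ^ 2 ≤ 2) : ∀ i l, x i + y l = 0 := by
  classical
  rcases small_cases x y hκ (h.trans (by exact_mod_cast (show 2 ≤ Fintype.card ι by omega))) with
    hy | ⟨l₀, e, he, heq⟩
  · intro i l
    have h1 : ∑ m, (x i + y m) ^ 2 ≤ 2 := le_trans
      (Finset.single_le_sum (f := fun j => ∑ m, (x j + y m) ^ 2)
        (fun j _ => Finset.sum_nonneg fun m _ => sq_nonneg _) (mem_univ i)) h
    rw [Finset.sum_congr rfl (fun m _ => by rw [hy m l]), sum_const, card_univ, nsmul_eq_mul] at h1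
    by_contra hne
    have : 1 ≤ (x i + y l) ^ 2 := by
      have := sq_pos_of_ne_zero hne
      omega
    have : (3 : ℤ) ≤ (Fintype.card κ : ℤ) := by exact_mod_cast hκ
    nlinarith
  · exfalso
    have h1 : ∀ i, ∑ l, (x i + y l) ^ 2 = 1 := fun i => by
      rw [Finset.sum_eq_single l₀ (fun l _ hl => by rw [heq i l, if_neg hl]; norm_num)
        (fun hl => absurd (mem_univ l₀) hl), heq i l₀, if_pos rfl]
      rcases he with rfl | rfl <;> norm_num
    rw [Finset.sum_congr rfl fun i _ => h1 i, sum_const, card_univ, nsmul_eq_mul, mul_one] at h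
    have : (3 : ℤ) ≤ (Fintype.card ι : ℤ) := by exact_mod_cast hι
    omega

/-- A row-plus-column matrix which, corrected by `+1, -1` in two places of one row, has norm at most
two, vanishes. -/
theorem small_shift [DecidableEq ι] (x : ι → ℤ) (y : κ → ℤ) (hι : 3 ≤ Fintype.card ι)
    (hκ : 3 ≤ Fintype.card κ) {i₀ : ι} {j k : κ} (hjk : j ≠ k)
    (h : ∑ i, ∑ l, (x i + y l + (if i = i₀ then
      (if l = j then 1 else 0) - (if l = k then 1 else 0) else 0)) ^ 2 ≤ 2) :
    ∀ i l, x i + y l = 0 := by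
  classical
  set e : κ → ℤ := fun l => (if l = j then 1 else 0) - (if l = k then 1 else 0) with he
  rw [← Finset.add_sum_erase _ _ (mem_univ i₀)] at h
  have hrest : ∑ i ∈ univ.erase i₀, ∑ l, (x i + y l + (if i = i₀ then
      (if l = j then 1 else 0) - (if l = k then 1 else 0) else 0)) ^ 2 =
      ∑ i ∈ univ.erase i₀, ∑ l, (x i + y l) ^ 2 := by
    refine Finset.sum_congr rfl fun i hi => ?_
    simp only [if_neg (ne_of_mem_erase hi), add_zero]
  rw [hrest, Finset.sum_congr rfl (fun l _ => by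
    rw [if_pos rfl] : ∀ l ∈ (univ : Finset κ), _ = (x i₀ + y l + e l) ^ 2)] at h
  have h0 : 0 ≤ ∑ l, (x i₀ + y l + e l) ^ 2 := Finset.sum_nonneg fun l _ => sq_nonneg _
  obtain ⟨m, hm⟩ : ∃ m, m ∉ ({j, k} : Finset κ) := by
    by_contra hcon
    push Not at hcon
    have := Finset.card_le_card (s := (univ : Finset κ)) fun l _ => hcon l
    rw [card_univ] at this
    have := Finset.card_le_two (a := j) (b := k)
    omega
  simp only [mem_insert, mem_singleton, not_or] at hm
  have hej : e j = 1 := by simp [he, hjk]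
  have hek : e k = -1 := by simp [he, hjk.symm]
  have hem : e m = 0 := by simp [he, hm.1, hm.2]
  by_cases hy : ∀ l l', y l = y l'
  · have hz : ∀ i, i ≠ i₀ → ∀ l, x i + y l = 0 := by
      intro i hi l
      have h1 : ∑ m, (x i + y m) ^ 2 ≤ 2 := le_trans
        (Finset.single_le_sum (f := fun j => ∑ m, (x j + y m) ^ 2)
          (fun j _ => Finset.sum_nonneg fun m _ => sq_nonneg _) (mem_erase.2 ⟨hi, mem_univ i⟩))
        (by omega)
      rw [Finset.sum_congr rfl (fun m _ => by rw [hy m l]), sum_const, card_univ, nsmul_eq_mul] at h1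
      by_contra hne
      have : 1 ≤ (x i + y l) ^ 2 := by
        have := sq_pos_of_ne_zero hne
        omega
      have : (3 : ℤ) ≤ (Fintype.card κ : ℤ) := by exact_mod_cast hκ
      nlinarith
    intro i l
    by_cases hi : i = i₀
    · subst hi
      have h3 : (x i + y j + e j) ^ 2 + ((x i + y k + e k) ^ 2 + (x i + y m + e m) ^ 2) ≤
          ∑ l, (x i + y l + e l) ^ 2 := by
        have := Finset.sum_le_sum_of_subset_of_nonneg (f := fun l => (x i + y l + e l) ^ 2)
          (subset_univ ({j, k, m} : Finset κ)) (fun l _ _ => sq_nonneg _)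
        rwa [sum_insert (by simp [hjk, Ne.symm hm.1]), sum_insert (by simp [Ne.symm hm.2]),
          sum_singleton] at this
      rw [hej, hek, hem, hy j l, hy k l, hy m l] at h3
      have hs : 0 ≤ ∑ i' ∈ univ.erase i, ∑ l, (x i' + y l) ^ 2 :=
        Finset.sum_nonneg fun i' _ => Finset.sum_nonneg fun l _ => sq_nonneg _
      have h4 : 3 * (x i + y l) ^ 2 + 2 ≤ 2 := by nlinarith
      exact sq_eq_zero_iff.1 (le_antisymm (by omega) (sq_nonneg _))
    · exact hz i hi l
  · exfalso
    push Not at hy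
    obtain ⟨a, b, hab⟩ := hy
    have hrow : ∀ i, 1 ≤ ∑ l, (x i + y l) ^ 2 := by
      intro i
      by_contra hlt
      push Not at hlt
      have h0 : ∑ l, (x i + y l) ^ 2 = 0 :=
        le_antisymm (by omega) (Finset.sum_nonneg fun l _ => sq_nonneg _)
      rw [Finset.sum_eq_zero_iff_of_nonneg fun l _ => sq_nonneg _] at h0
      have ha := sq_eq_zero_iff.1 (h0 a (mem_univ a))
      have hb := sq_eq_zero_iff.1 (h0 b (mem_univ b))
      exact hab (by omega)
    have hsum := Finset.sum_le_sum (s := univ.erase i₀) fun i _ => hrow i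
    rw [sum_const, card_erase_of_mem (mem_univ i₀), card_univ, nsmul_eq_mul, mul_one] at hsum
    have hpos : 1 ≤ Fintype.card ι := by omega
    push_cast [hpos] at hsum
    have h3 : (3 : ℤ) ≤ (Fintype.card ι : ℤ) := by exact_mod_cast hι
    have hz : ∑ l, (x i₀ + y l + e l) ^ 2 = 0 := by omega
    rw [Finset.sum_eq_zero_iff_of_nonneg fun l _ => sq_nonneg _] at hz
    have hyl : ∀ l, y l = -x i₀ - e l := fun l => by
      have := sq_eq_zero_iff.1 (hz l (mem_univ l))
      omega
    obtain ⟨i₁, hi₁⟩ : ∃ i₁, i₁ ≠ i₀ := Fintype.exists_ne_of_one_lt_card (by omega) i₀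
    have h2 : ∑ l, (x i₁ + y l) ^ 2 ≤ 1 := by
      rw [← Finset.add_sum_erase _ _ (mem_erase.2 ⟨hi₁, mem_univ i₁⟩)] at h
      have := Finset.sum_le_sum (s := (univ.erase i₀).erase i₁) fun i _ => hrow i
      rw [sum_const, card_erase_of_mem (mem_erase.2 ⟨hi₁, mem_univ i₁⟩),
        card_erase_of_mem (mem_univ i₀), card_univ, nsmul_eq_mul, mul_one] at this
      have hpos2 : 1 ≤ Fintype.card ι - 1 := by omega
      push_cast [hpos, hpos2] at this
      omega
    have h5 : (x i₁ + y j) ^ 2 + ((x i₁ + y k) ^ 2 + (x i₁ + y m) ^ 2) ≤ ∑ l, (x i₁ + y l) ^ 2 := by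
      have := Finset.sum_le_sum_of_subset_of_nonneg (f := fun l => (x i₁ + y l) ^ 2)
        (subset_univ ({j, k, m} : Finset κ)) (fun l _ _ => sq_nonneg _)
      rwa [sum_insert (by simp [hjk, Ne.symm hm.1]), sum_insert (by simp [Ne.symm hm.2]),
        sum_singleton] at this
    rw [hyl j, hyl k, hyl m, hej, hek, hem] at h5
    nlinarith [sq_nonneg (x i₁ - x i₀)]

end Cfsg.Agent.Lib.OddOrder.PF11.Grid
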