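import Cfsg.Agent.Lib.OddOrder.TypeOne
import Cfsg.Agent.Lib.OddOrder.PF11.Chars
import Cfsg.Agent.Lib.OddOrder.PF11.Grid
import Cfsg.Agent.Lib.Isometry.DadeGen
import Cfsg.Agent.Lib.Isometry.Coherence

/-!
# Peterfalvi §11: the Dade map against the cyclic TI family

Coefficients on the family, the row-plus-column shape, Bessel, and the values of `τ` on the basic
differences of the `μ`.
-/

set_option autoImplicit false
set_option linter.style.haveILetI false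
set_option linter.unusedSectionVars false

namespace Cfsg.Agent.Lib.OddOrder.PF11.Tau

open scoped ComplexConjugate
open Subgroup
open Cfsg.Agent.Lib
open Cfsg.Agent.Lib.CyclicTI (IsP IsQ lin)
open Cfsg.Agent.Lib.OddOrder.PF11.Group (Ctx)
open Cfsg.Agent.Lib.OddOrder.PF11.Bound
open Cfsg.Agent.Lib.OddOrder.PF11.Chars
open Cfsg.Agent.Lib.OddOrder.Interface.PF11 (derivedIn tau Setup)

universe u w

variable {G : Type u} [_root_.Group G] [Fintype G] {M W₁ U W₂ : Subgroup G}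

/-! ### Bessel with integer coefficients -/

theorem bessel_int {ι : Type w} (s : Finset ι) (e : ι → G → ℂ) (c : ι → ℤ) {v : G → ℂ}
    (horth : ∀ i ∈ s, ∀ j ∈ s, i ≠ j → Cfsg.classInner (e i) (e j) = 0)
    (hnorm : ∀ i ∈ s, Cfsg.classInner (e i) (e i) = 1)
    (hc : ∀ i ∈ s, Cfsg.classInner v (e i) = (c i : ℂ)) {n : ℤ} (hn : Cfsg.classInner v v = (n : ℂ)) :
    ∑ i ∈ s, c i ^ 2 ≤ n ∧ (∑ i ∈ s, c i ^ 2 = n → v = ∑ i ∈ s, (c i : ℂ) • e i) := by
  have h := Isometry.Coherence.bessel s e (fun _ => 1) (fun i => (c i : ℝ)) v horth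
    (fun i hi => by rw [hnorm i hi]; simp) (fun _ _ => one_ne_zero) (fun i hi => by rw [hc i hi]; simp)
  rw [hn] at h
  have hnn := Isometry.Inner.classInner_self_re_nonneg
    (v - ∑ i ∈ s, (((c i : ℝ) / 1 : ℝ) : ℂ) • e i)
  rw [h] at hnn
  refine ⟨?_, fun he => ?_⟩
  · simp only [Complex.sub_re, Complex.intCast_re, Complex.ofReal_re, div_one] at hnn
    have : ((∑ i ∈ s, c i ^ 2 : ℤ) : ℝ) ≤ (n : ℝ) := by push_cast; linarith
    exact_mod_cast this
  · refine sub_eq_zero.1 (Isometry.Inner.eq_zero_of_classInner_self ?_)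
    have e1 : ∑ i ∈ s, (((c i : ℝ) / 1 : ℝ) : ℂ) • e i = ∑ i ∈ s, (c i : ℂ) • e i := by simp
    rw [e1] at h
    rw [h, ← he]
    simp

/-- The integral inner product with a generalised character. -/
noncomputable def coef (f χ : G → ℂ) : ℤ := ⌊(Cfsg.classInner f χ).re⌋

theorem coef_spec {f χ : G → ℂ} (hf : Cfsg.IsGeneralizedCharacter G f)
    (hχ : Cfsg.IsGeneralizedCharacter G χ) : Cfsg.classInner f χ = (coef f χ : ℂ) := by
  obtain ⟨n, hn⟩ := Isometry.Inner.classInner_gen_int hf hχ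
  rw [coef, hn, Complex.intCast_re, Int.floor_intCast]

theorem coef_eq {f χ : G → ℂ} {n : ℤ} (h : Cfsg.classInner f χ = (n : ℂ)) : coef f χ = n := by
  rw [coef, h, Complex.intCast_re, Int.floor_intCast]

/-! ### The family -/

section Eta

variable {η : (↥(W₁ ⊔ W₂) →* ℂˣ) → (G → ℂ)} (hη : Cfsg.IsCyclicTIFamily W₁ W₂ η)

include hη

theorem eta_gen (ω : ↥(W₁ ⊔ W₂) →* ℂˣ) : Cfsg.IsGeneralizedCharacter G (η ω) :=
  Isometry.Inner.gen_of_signed (hη.irr_or_neg ω)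

theorem pair_ne {x y : (↥(W₁ ⊔ W₂) →* ℂˣ) × (↥(W₁ ⊔ W₂) →* ℂˣ)} (hx : x ∈ rows W₁ W₂ ×ˢ cols W₁ W₂)
    (hy : y ∈ rows W₁ W₂ ×ˢ cols W₁ W₂) (h : x ≠ y) : x.1 * x.2 ≠ y.1 * y.2 := by
  simp only [Finset.mem_product, mem_rows, mem_cols] at hx hy
  intro e
  obtain ⟨e1, e2⟩ := CyclicTI.pair_inj hx.1 hy.1 hx.2 hy.2 e
  exact h (Prod.ext e1 e2)

/-- Bessel over the family and one further orthonormal set orthogonal to it. -/
theorem bessel_grid {ι : Type w} (s : Finset ι) (e : ι → G → ℂ) (c : ι → ℤ) {v : G → ℂ}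
    (hv : Cfsg.IsGeneralizedCharacter G v)
    (horth : ∀ i ∈ s, ∀ j ∈ s, i ≠ j → Cfsg.classInner (e i) (e j) = 0)
    (hnorm : ∀ i ∈ s, Cfsg.classInner (e i) (e i) = 1)
    (hperp : ∀ i ∈ s, ∀ ω, Cfsg.classInner (e i) (η ω) = 0)
    (hc : ∀ i ∈ s, Cfsg.classInner v (e i) = (c i : ℂ)) {n : ℤ} (hn : Cfsg.classInner v v = (n : ℂ)) :
    (∑ φ ∈ rows W₁ W₂, ∑ ψ ∈ cols W₁ W₂, coef v (η (φ * ψ)) ^ 2) + ∑ i ∈ s, c i ^ 2 ≤ n ∧
      ((∑ φ ∈ rows W₁ W₂, ∑ ψ ∈ cols W₁ W₂, coef v (η (φ * ψ)) ^ 2) + ∑ i ∈ s, c i ^ 2 = n →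
        v = (∑ φ ∈ rows W₁ W₂, ∑ ψ ∈ cols W₁ W₂, (coef v (η (φ * ψ)) : ℂ) • η (φ * ψ)) +
          ∑ i ∈ s, (c i : ℂ) • e i) := by
  classical
  have h := bessel_int ((rows W₁ W₂ ×ˢ cols W₁ W₂).disjSum s)
    (Sum.elim (fun x => η (x.1 * x.2)) e) (Sum.elim (fun x => coef v (η (x.1 * x.2))) c) (v := v)
    (fun i hi j hj hij => ?_) (fun i hi => ?_) (fun i hi => ?_) hn
  · rwa [Finset.sum_disjSum, Finset.sum_disjSum, Finset.sum_product, Finset.sum_product] at h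
  · rcases i with i | i <;> rcases j with j | j <;>
      simp only [Finset.inl_mem_disjSum, Finset.inr_mem_disjSum] at hi hj <;>
      simp only [Sum.elim_inl, Sum.elim_inr]
    · rw [hη.orthonormal, if_neg (pair_ne hη hi hj (fun e => hij (e ▸ rfl)))]
    · rw [← Induced.Basic.classInner_conj_symm, hperp j hj, map_zero]
    · exact hperp i hi _
    · exact horth i hi j hj (fun e => hij (e ▸ rfl))
  · rcases i with i | i <;> simp only [Finset.inl_mem_disjSum, Finset.inr_mem_disjSum] at hi <;>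
      simp only [Sum.elim_inl, Sum.elim_inr]
    · rw [hη.orthonormal, if_pos rfl]
    · exact hnorm i hi
  · rcases i with i | i <;> simp only [Finset.inl_mem_disjSum, Finset.inr_mem_disjSum] at hi <;>
      simp only [Sum.elim_inl, Sum.elim_inr]
    · exact coef_spec hv (eta_gen hη _)
    · exact hc i hi

theorem bessel_family {v : G → ℂ} (hv : Cfsg.IsGeneralizedCharacter G v) {n : ℤ}
    (hn : Cfsg.classInner v v = (n : ℂ)) :
    (∑ φ ∈ rows W₁ W₂, ∑ ψ ∈ cols W₁ W₂, coef v (η (φ * ψ)) ^ 2) ≤ n ∧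
      ((∑ φ ∈ rows W₁ W₂, ∑ ψ ∈ cols W₁ W₂, coef v (η (φ * ψ)) ^ 2) = n →
        v = ∑ φ ∈ rows W₁ W₂, ∑ ψ ∈ cols W₁ W₂, (coef v (η (φ * ψ)) : ℂ) • η (φ * ψ)) := by
  have h := bessel_grid hη (∅ : Finset (ULift.{u} Unit)) (fun _ => 0) (fun _ => 0) hv
    (fun i hi => absurd hi (Finset.notMem_empty i)) (fun i hi => absurd hi (Finset.notMem_empty i))
    (fun i hi => absurd hi (Finset.notMem_empty i)) (fun i hi => absurd hi (Finset.notMem_empty i)) hn
  simpa using h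

/-- A function vanishing off the two factors has a row-plus-column array of coefficients. -/
theorem grid (hW : Cfsg.IsSelfNormalizingCyclic W₁ W₂) {θ : G → ℂ}
    (hθ : Cfsg.IsGeneralizedCharacter G θ)
    (hθV : ∀ w : ↥(W₁ ⊔ W₂), (w : G) ∉ W₁ → (w : G) ∉ W₂ → θ w = 0)
    {φ ψ : ↥(W₁ ⊔ W₂) →* ℂˣ} (hP : IsP φ) (hQ : IsQ ψ) :
    coef θ (η (φ * ψ)) = (coef θ (η φ) - coef θ (η 1)) + coef θ (η ψ) := by
  have h := CyclicTI.coef_relation hW hη (Isometry.Inner.gen_classFun hθ) hθV hP hQ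
  rw [coef_spec hθ (eta_gen hη _), coef_spec hθ (eta_gen hη _), coef_spec hθ (eta_gen hη _),
    coef_spec hθ (eta_gen hη _)] at h
  have h' : coef θ (η (φ * ψ)) + coef θ (η 1) = coef θ (η φ) + coef θ (η ψ) := by exact_mod_cast h
  omega

/-- (I): norm at most two and vanishing off the factors means orthogonal to the family. -/
theorem orth_small (hW : Cfsg.IsSelfNormalizingCyclic W₁ W₂) (h₁ : 3 ≤ Nat.card W₁)
    (h₂ : 3 ≤ Nat.card W₂) {θ : G → ℂ} (hθ : Cfsg.IsGeneralizedCharacter G θ)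
    (hθV : ∀ w : ↥(W₁ ⊔ W₂), (w : G) ∉ W₁ → (w : G) ∉ W₂ → θ w = 0) {n : ℤ}
    (hn : Cfsg.classInner θ θ = (n : ℂ)) (hn2 : n ≤ 2) (ω : ↥(W₁ ⊔ W₂) →* ℂˣ) :
    Cfsg.classInner θ (η ω) = 0 := by
  classical
  obtain ⟨φ, ψ, hP, hQ, rfl⟩ := CyclicTI.exists_decomp hW ω
  have hsum := ((bessel_family hη hθ hn).1).trans hn2
  rw [← Finset.sum_coe_sort (rows W₁ W₂), Finset.sum_congr rfl (fun a _ => by
    rw [← Finset.sum_coe_sort (cols W₁ W₂)])] at hsum
  have hz := Grid.small_zero (fun a : ↥(rows W₁ W₂) => coef θ (η a.1) - coef θ (η 1))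
    (fun b : ↥(cols W₁ W₂) => coef θ (η b.1))
    (by rw [Fintype.card_coe, card_rows hW]; exact h₁) (by rw [Fintype.card_coe, card_cols hW]; exact h₂)
    (by
      refine le_of_eq_of_le (Finset.sum_congr rfl fun a _ => Finset.sum_congr rfl fun b _ => ?_) hsum
      rw [← grid hη hW hθ hθV (mem_rows.1 a.2) (mem_cols.1 b.2)])
    ⟨φ, mem_rows.2 hP⟩ ⟨ψ, mem_cols.2 hQ⟩
  rw [coef_spec hθ (eta_gen hη _), grid hη hW hθ hθV hP hQ]
  exact_mod_cast hz

theorem eta_conj (hW : Cfsg.IsSelfNormalizingCyclic W₁ W₂) (hodd : Odd (Nat.card ↥(W₁ ⊔ W₂)))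
    (ω : ↥(W₁ ⊔ W₂) →* ℂˣ) : Cfsg.conjFun (η ω) = η ω⁻¹ := by
  have hcl : ∀ (a : ↥(W₁ ⊔ W₂) →* ℂˣ) (w : ↥(W₁ ⊔ W₂)), conj ((a⁻¹ : ↥(W₁ ⊔ W₂) →* ℂˣ) w : ℂ) = (a w : ℂ) := by
    intro a w
    have hn : ‖(a w : ℂ)‖ = 1 := Complex.norm_eq_one_of_pow_eq_one
      (n := orderOf w) (by rw [← Units.val_pow_eq_pow_val, ← map_pow, pow_orderOf_eq_one, map_one,
        Units.val_one]) (orderOf_pos w).ne'
    rw [MonoidHom.inv_apply, Units.val_inv_eq_inv_val, Complex.inv_eq_conj hn, Complex.conj_conj]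
  have hfam : Cfsg.IsCyclicTIFamily W₁ W₂ (fun a => Cfsg.conjFun (η a⁻¹)) := by
    refine ⟨fun a => ?_, fun a b => ?_, ?_, fun a w h1 h2 => ?_, fun φ ψ h1 h2 hP hQ => ?_⟩
    · rcases hη.irr_or_neg a⁻¹ with h | h
      · exact Or.inl (Isometry.Inner.conjFun_irr h)
      · refine Or.inr ?_
        have h' := Isometry.Inner.conjFun_irr h
        rwa [show Cfsg.conjFun (-η a⁻¹) = -Cfsg.conjFun (η a⁻¹) from
          funext fun g => map_neg (starRingEnd ℂ) _] at h'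
    · rw [Isometry.Inner.classInner_conjFun, hη.orthonormal]
      by_cases h : a = b
      · rw [if_pos (congrArg (·⁻¹) h), if_pos h, map_one]
      · rw [if_neg (fun e => h (inv_injective e)), if_neg h, map_zero]
    · funext g
      show conj (η (1 : ↥(W₁ ⊔ W₂) →* ℂˣ)⁻¹ g) = 1
      rw [inv_one (G := ↥(W₁ ⊔ W₂) →* ℂˣ), hη.map_one, map_one]
    · show conj (η a⁻¹ w) = _
      rw [hη.eq_on _ w h1 h2, hcl]
    · have h := hη.induced_eq φ⁻¹ ψ⁻¹ ((inv_ne_one (α := ↥(W₁ ⊔ W₂) →* ℂˣ)).2 h1)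
        ((inv_ne_one (α := ↥(W₁ ⊔ W₂) →* ℂˣ)).2 h2)
        (fun w hw => by rw [MonoidHom.inv_apply, hP w hw, inv_one])
        (fun w hw => by rw [MonoidHom.inv_apply, hQ w hw, inv_one])
      funext g
      have h' := congrArg (starRingEnd ℂ) (congrFun h g)
      rw [Induced.Basic.indFun_conj_fun] at h'
      simp only [map_add, map_sub, map_one, map_mul, hcl] at h'
      rw [h']
      simp only [Cfsg.conjFun]
      rw [show (φ * ψ)⁻¹ = φ⁻¹ * ψ⁻¹ from MonoidHom.ext fun w => by simp [mul_comm]]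
  have h := congrFun (CyclicTI.family_unique hW hodd hη hfam) ω⁻¹
  rw [show Cfsg.conjFun (η ω) = Cfsg.conjFun (η ω⁻¹⁻¹) from by
    rw [inv_inv (G := ↥(W₁ ⊔ W₂) →* ℂˣ)]]
  exact h.symm

/-- Coefficients of conjugates. -/
theorem coef_conj (hW : Cfsg.IsSelfNormalizingCyclic W₁ W₂) (hodd : Odd (Nat.card ↥(W₁ ⊔ W₂)))
    {f : G → ℂ} (hf : Cfsg.IsGeneralizedCharacter G f) (ω : ↥(W₁ ⊔ W₂) →* ℂˣ) :
    coef (Cfsg.conjFun f) (η ω) = coef f (η ω⁻¹) := by
  refine coef_eq ?_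
  have h : η ω = Cfsg.conjFun (η ω⁻¹) := by rw [eta_conj hη hW hodd, inv_inv (G := ↥(W₁ ⊔ W₂) →* ℂˣ)]
  rw [h, Isometry.Inner.classInner_conjFun, coef_spec hf (eta_gen hη _), map_intCast]

end Eta

/-! ### The Dade map -/

/-- Vanishing outside `A₀`. -/
def Supp (M : Subgroup G) (f : ↥M → ℂ) : Prop := ∀ x : ↥M, (x : G) ∉ Cfsg.Agent.Lib.OddOrder.TypeOne.typeA0 M → f x = 0

theorem tau_add (f g : ↥M → ℂ) : tau M (f + g) = tau M f + tau M g := by
  funext x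
  simp only [Cfsg.dadeIsometry, Pi.add_apply]
  split_ifs <;> simp

theorem tau_smul (a : ℂ) (f : ↥M → ℂ) : tau M (a • f) = a • tau M f := by
  funext x
  simp only [Cfsg.dadeIsometry, Pi.smul_apply, smul_eq_mul]
  split_ifs <;> simp

theorem tau_sub (f g : ↥M → ℂ) : tau M (f - g) = tau M f - tau M g := by
  funext x
  simp only [Cfsg.dadeIsometry, Pi.sub_apply]
  split_ifs <;> simp

theorem tau_sum {ι : Type w} (s : Finset ι) (f : ι → ↥M → ℂ) :
    tau M (∑ i ∈ s, f i) = ∑ i ∈ s, tau M (f i) := by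
  funext x
  simp only [Cfsg.dadeIsometry, Finset.sum_apply]
  split_ifs <;> simp

theorem tau_conj (f : ↥M → ℂ) : tau M (Cfsg.conjFun f) = Cfsg.conjFun (tau M f) := by
  funext x
  simp only [Cfsg.dadeIsometry, Cfsg.conjFun]
  split_ifs <;> simp

section Facts
variable [Fintype ↥M] (s : Setup M W₁ U W₂)

include s

theorem mem_A0 {w : G} (hw : w ∈ W₁ ⊔ W₂) (h₁ : w ∉ W₁) (h₂ : w ∉ W₂) {m : G} (hm : m ∈ M) :
    m * w * m⁻¹ ∈ Cfsg.Agent.Lib.OddOrder.TypeOne.typeA0 M :=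
  Or.inr ⟨s.not_typeI, W₁, U, W₂, s.typeP, m, hm, w, hw, h₁, h₂, rfl⟩

theorem supp_of {f : ↥M → ℂ} (hf : Cfsg.IsClassFunction ↥M f) (h1 : f 1 = 0)
    (hW : ∀ x : ↥M, (x : G) ∈ W₁ → x ≠ 1 → f x = 0) : Supp M f := by
  intro x hx
  by_cases hx1 : x = 1
  · rw [hx1, h1]
  by_cases hxK : (x : G) ∈ (⁅M, M⁆ : Subgroup G)
  · exact absurd (s.derived_subset x hxK fun e => hx1 (Subtype.ext e)) hx
  have c := ctx_of_setup s
  haveI := K_normal c
  obtain ⟨y, w, hw, e⟩ := (Theta.pLike s).exists_conj_mem (g := x) hxK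
  have hwW : ((w : ↥M) : G) ∈ W₁ ⊔ W₂ := by
    have h : (w : ↥M) ∈ (W₁ ⊔ W₂).subgroupOf M := (subgroupOf_sup c.W₁_le (c.W₂_le_H.trans c.H_le)).ge w.2
    exact h
  rw [← hf x y, e]
  by_cases h₁ : ((w : ↥M) : G) ∈ W₁
  · exact hW _ h₁ fun e1 => hw (by rw [e1]; exact one_mem _)
  · exfalso
    apply hx
    have h := mem_A0 s hwW h₁ (fun h => hw h) (inv_mem y.2)
    have e' : (x : G) = (y : G)⁻¹ * ((w : ↥M) : G) * ((y : G)⁻¹)⁻¹ := by
      rw [← e]; push_cast; group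
    rwa [← e'] at h

theorem supp_of_K {f : ↥M → ℂ} (h1 : f 1 = 0) (hK : ∀ x ∉ derivedIn M, f x = 0) : Supp M f := by
  intro x hx
  by_cases hx1 : x = 1
  · rw [hx1, h1]
  exact hK x fun hxK => hx (s.derived_subset x hxK fun e => hx1 (Subtype.ext e))

theorem tau_gen {f : ↥M → ℂ} (hf : Cfsg.IsGeneralizedCharacter ↥M f) (hs : Supp M f) :
    Cfsg.IsGeneralizedCharacter G (tau M f) :=
  Isometry.DadeGen.gen_dade s.dade hf hs

theorem tau_inner {f g : ↥M → ℂ} (hf : Cfsg.IsClassFunction ↥M f) (hs : Supp M f)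
    (hg : Cfsg.IsClassFunction ↥M g) :
    Cfsg.classInner (tau M f) (tau M g) = Cfsg.classInner f g :=
  Isometry.Dade.classInner_dade_dade s.dade hf hs hg

theorem tau_inner_one {f : ↥M → ℂ} (hf : Cfsg.IsClassFunction ↥M f) (hs : Supp M f) :
    Cfsg.classInner (tau M f) (fun _ => (1 : ℂ)) = Cfsg.classInner f (fun _ => (1 : ℂ)) := by
  classical
  refine Isometry.Dade.classInner_dade s.dade hf hs (fun _ _ => rfl) fun a _ => ?_
  rw [finsum_mem_eq_toFinset_sum, Finset.sum_const, nsmul_eq_mul, mul_one, Set.toFinset_card,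
    ← Nat.card_eq_fintype_card]
  simp only [SetLike.coe_sort_coe]
  rw [inv_mul_cancel₀ (by exact_mod_cast Nat.card_pos.ne')]

theorem tau_V {f : ↥M → ℂ} (hf : Cfsg.IsClassFunction ↥M f) (w : ↥(W₁ ⊔ W₂)) (h₁ : (w : G) ∉ W₁)
    (h₂ : (w : G) ∉ W₂) (hwM : (w : G) ∈ M) : tau M f w = f ⟨w, hwM⟩ := by
  have h : (w : G) ∈ Cfsg.Agent.Lib.OddOrder.TypeOne.typeA0 M := by simpa using mem_A0 s w.2 h₁ h₂ (one_mem M)
  have := Isometry.Dade.dadeIsometry_coset s.dade hf ⟨w, hwM⟩ h (u := 1) (one_mem _)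
  rwa [mul_one] at this

theorem W_le : W₁ ⊔ W₂ ≤ M :=
  sup_le (ctx_of_setup s).W₁_le ((ctx_of_setup s).W₂_le_H.trans (ctx_of_setup s).H_le)

variable {μ : (↥(W₁ ⊔ W₂) →* ℂˣ) → ↥M → ℂ} (hμ : Mu μ U)
  {η : (↥(W₁ ⊔ W₂) →* ℂˣ) → (G → ℂ)} (hη : Cfsg.IsCyclicTIFamily W₁ W₂ η)

include hμ

theorem mu_gen (ω : ↥(W₁ ⊔ W₂) →* ℂˣ) : Cfsg.IsGeneralizedCharacter ↥M (μ ω) :=
  Isometry.Inner.gen_of_irr (hμ.irr ω)

open scoped Classical in
theorem mu_inner (a b : ↥(W₁ ⊔ W₂) →* ℂˣ) :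
    Cfsg.classInner (μ a) (μ b) = if a = b then 1 else 0 := by
  rw [Isometry.Inner.classInner_irr_eq (hμ.irr a) (hμ.irr b)]
  exact if_congr hμ.inj.eq_iff rfl rfl

theorem mu_W₁ (ω : ↥(W₁ ⊔ W₂) →* ℂˣ) (x : ↥M) (hx : (x : G) ∈ W₁) (hx1 : x ≠ 1) :
    μ ω x = (ω ⟨x, mem_sup_left hx⟩ : ℂ) :=
  hμ.val ω ⟨x, mem_sup_left hx⟩ x.2 fun h => hx1 (Subtype.ext
    (CyclicTI.eq_one_of_mem s.typeP.selfNormalizing hx h))

theorem mu_row_one {φ : ↥(W₁ ⊔ W₂) →* ℂˣ} (hφ : IsP φ) : μ φ 1 = 1 := hμ.linear φ hφ 1 (one_mem _)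

theorem mu_deg {φ ψ : ↥(W₁ ⊔ W₂) →* ℂˣ} (hφ : IsP φ) (hψ : IsQ ψ) (h : ψ ≠ 1) :
    μ (φ * ψ) 1 = ((cen M U).relIndex U : ℂ) := by
  rw [hμ.agree φ ψ hφ 1 (one_mem _), hμ.degree ψ hψ h]

include hη

/-- `τ (μ (φψ) - μ (φψ'))` is the corresponding difference in the family. -/
theorem gamma {φ ψ ψ' : ↥(W₁ ⊔ W₂) →* ℂˣ} (hφ : IsP φ) (hψ : IsQ ψ) (hψ' : IsQ ψ') (h : ψ ≠ 1)
    (h' : ψ' ≠ 1) :
    tau M (μ (φ * ψ) - μ (φ * ψ')) = η (φ * ψ) - η (φ * ψ') := by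
  classical
  by_cases hne : ψ = ψ'
  · subst hne
    rw [sub_self, sub_self]
    funext x
    simp [Cfsg.dadeIsometry]
  have hW := s.typeP.selfNormalizing
  have c := ctx_of_setup s
  set f := μ (φ * ψ) - μ (φ * ψ') with hf
  have hgen : Cfsg.IsGeneralizedCharacter ↥M f := Isometry.Inner.gen_sub (mu_gen s hμ _) (mu_gen s hμ _)
  have hcl := Isometry.Inner.gen_classFun hgen
  have hsupp : Supp M f := supp_of s hcl
    (by rw [hf, Pi.sub_apply, mu_deg s hμ hφ hψ h, mu_deg s hμ hφ hψ' h', sub_self])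
    (fun x hx hx1 => by
      rw [hf, Pi.sub_apply, mu_W₁ s hμ _ x hx hx1, mu_W₁ s hμ _ x hx hx1, MonoidHom.mul_apply,
        MonoidHom.mul_apply, hψ _ hx, hψ' _ hx, sub_self])
  have hvgen := tau_gen s hgen hsupp
  have hne2 : φ * ψ ≠ φ * ψ' := fun e => hne (CyclicTI.pair_inj hφ hφ hψ hψ' e).2
  have hnorm : Cfsg.classInner (tau M f) (tau M f) = ((2 : ℤ) : ℂ) := by
    rw [tau_inner s hcl hsupp hcl, hf]
    simp only [Induced.Basic.classInner_sub_left, Induced.Basic.classInner_sub_right, mu_inner s hμ,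
      if_neg hne2, if_neg hne2.symm, if_pos]
    norm_num
  set T := η (φ * ψ) - η (φ * ψ') with hT
  have hTgen : Cfsg.IsGeneralizedCharacter G T :=
    Isometry.Inner.gen_sub (eta_gen hη _) (eta_gen hη _)
  have hrgen := Isometry.Inner.gen_sub hvgen hTgen
  have hrV : ∀ w : ↥(W₁ ⊔ W₂), (w : G) ∉ W₁ → (w : G) ∉ W₂ → (tau M f - T) w = 0 := by
    intro w h1 h2
    rw [Pi.sub_apply, tau_V s hcl w h1 h2 (W_le s w.2), hT, Pi.sub_apply, hη.eq_on _ w h1 h2,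
      hη.eq_on _ w h1 h2, hf, Pi.sub_apply, hμ.val _ w _ h2, hμ.val _ w _ h2, sub_self]
  set P : (↥(W₁ ⊔ W₂) →* ℂˣ) → (↥(W₁ ⊔ W₂) →* ℂˣ) → ℤ := fun a b =>
    if a = φ then (if b = ψ then 1 else 0) - (if b = ψ' then 1 else 0) else 0 with hP
  have hTcoef : ∀ a ∈ rows W₁ W₂, ∀ b ∈ cols W₁ W₂,
      Cfsg.classInner T (η (a * b)) = (P a b : ℂ) := by
    intro a ha b hb
    rw [hT, Induced.Basic.classInner_sub_left, hη.orthonormal, hη.orthonormal]
    have e1 : ∀ χ, IsQ χ → (φ * χ = a * b ↔ a = φ ∧ b = χ) := fun χ hχ =>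
      ⟨fun e => ⟨(CyclicTI.pair_inj hφ (mem_rows.1 ha) hχ (mem_cols.1 hb) e).1.symm,
        (CyclicTI.pair_inj hφ (mem_rows.1 ha) hχ (mem_cols.1 hb) e).2.symm⟩, fun e => by rw [e.1, e.2]⟩
    simp only [e1 ψ hψ, e1 ψ' hψ', hP]
    by_cases haφ : a = φ <;> simp [haφ]
  have hcoef : ∀ a ∈ rows W₁ W₂, ∀ b ∈ cols W₁ W₂, coef (tau M f) (η (a * b)) =
      (coef (tau M f - T) (η a) - coef (tau M f - T) (η 1)) + coef (tau M f - T) (η b) + P a b := by
    intro a ha b hb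
    rw [← grid hη hW hrgen hrV (mem_rows.1 ha) (mem_cols.1 hb)]
    refine coef_eq ?_
    push_cast
    rw [← coef_spec hrgen (eta_gen hη _), Induced.Basic.classInner_sub_left, hTcoef a ha b hb]
    ring
  obtain ⟨hle, heq⟩ := bessel_family hη hvgen hnorm
  rw [Finset.sum_congr rfl fun a ha => Finset.sum_congr rfl fun b hb => by rw [hcoef a ha b hb]] at hle
  rw [← Finset.sum_coe_sort (rows W₁ W₂), Finset.sum_congr rfl (fun a _ => by
    rw [← Finset.sum_coe_sort (cols W₁ W₂)])] at hle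
  have hz := Grid.small_shift (fun a : ↥(rows W₁ W₂) => coef (tau M f - T) (η a.1) - coef (tau M f - T) (η 1))
    (fun b : ↥(cols W₁ W₂) => coef (tau M f - T) (η b.1))
    (by rw [Fintype.card_coe, card_rows hW]; exact c.three_le_q)
    (by rw [Fintype.card_coe, card_cols hW]; exact c.three_le_p)
    (i₀ := ⟨φ, mem_rows.2 hφ⟩) (j := ⟨ψ, mem_cols.2 hψ⟩) (k := ⟨ψ', mem_cols.2 hψ'⟩)
    (fun e => hne (congrArg Subtype.val e))
    (by
      refine le_of_eq_of_le (Finset.sum_congr rfl fun a _ => Finset.sum_congr rfl fun b _ => ?_) hle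
      simp [hP, Subtype.ext_iff])
  have hcoef' : ∀ a ∈ rows W₁ W₂, ∀ b ∈ cols W₁ W₂, coef (tau M f) (η (a * b)) = P a b := by
    intro a ha b hb
    rw [hcoef a ha b hb, hz ⟨a, ha⟩ ⟨b, hb⟩, zero_add]
  have hPsum : ∑ a ∈ rows W₁ W₂, ∑ b ∈ cols W₁ W₂, P a b ^ 2 = 2 := by
    rw [Finset.sum_eq_single φ (fun a _ ha => by simp [hP, ha])
      (fun hh => absurd (mem_rows.2 hφ) hh)]
    rw [← Finset.sum_subset (s₁ := {ψ, ψ'}) (by
      intro b hb
      simp only [Finset.mem_insert, Finset.mem_singleton] at hb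
      rcases hb with rfl | rfl <;> simp [mem_cols, hψ, hψ'])
      (fun b _ hb => by
        simp only [Finset.mem_insert, Finset.mem_singleton, not_or] at hb
        simp [hP, hb.1, hb.2]), Finset.sum_pair hne]
    simp [hP, hne, Ne.symm hne]
  refine sub_eq_zero.1 (Isometry.Inner.eq_zero_of_classInner_self ?_)
  have e1 : Cfsg.classInner (tau M f) T = 2 := by
    rw [hT, Induced.Basic.classInner_sub_right, coef_spec hvgen (eta_gen hη _),
      coef_spec hvgen (eta_gen hη _), hcoef' φ (mem_rows.2 hφ) ψ (mem_cols.2 hψ),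
      hcoef' φ (mem_rows.2 hφ) ψ' (mem_cols.2 hψ')]
    simp [hP, hne, Ne.symm hne]; norm_num
  have e2 : Cfsg.classInner T T = 2 := by
    rw [hT]
    simp only [Induced.Basic.classInner_sub_left, Induced.Basic.classInner_sub_right, hη.orthonormal,
      if_neg hne2, if_neg hne2.symm, if_pos]
    norm_num
  clear_value T
  rw [Induced.Basic.classInner_sub_left, Induced.Basic.classInner_sub_right,
    Induced.Basic.classInner_sub_right, hnorm, e2, ← Induced.Basic.classInner_conj_symm (tau M f) T, e1]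
  simp [map_ofNat]

omit hμ hη in
open scoped Classical in
/-- Gram expansion of a four-term combination in an orthonormal family. -/
theorem quad {X : Type w} [_root_.Group X] [Fintype X] {J : Type u} (e : J → X → ℂ)
    (he : ∀ i j, Cfsg.classInner (e i) (e j) = if i = j then 1 else 0) (a b c d : J) :
    Cfsg.classInner (e a - e b - e c + e d) (e a - e b - e c + e d) =
      (((if a = a then 1 else 0) - (if a = b then 1 else 0) - (if a = c then 1 else 0) +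
        (if a = d then 1 else 0)) -
      ((if b = a then 1 else 0) - (if b = b then 1 else 0) - (if b = c then 1 else 0) +
        (if b = d then 1 else 0)) -
      ((if c = a then 1 else 0) - (if c = b then 1 else 0) - (if c = c then 1 else 0) +
        (if c = d then 1 else 0)) +
      ((if d = a then 1 else 0) - (if d = b then 1 else 0) - (if d = c then 1 else 0) +
        (if d = d then 1 else 0)) : ℂ) := by
  simp only [Induced.Basic.classInner_add_left, Induced.Basic.classInner_add_right,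
    Induced.Basic.classInner_sub_left, Induced.Basic.classInner_sub_right, he]
  ring

/-- `τ` carries the basic quadruples of the `μ` to those of the family. -/
theorem four {φ φ' ψ : ↥(W₁ ⊔ W₂) →* ℂˣ} (hφ : IsP φ) (hφ' : IsP φ') (hψ : IsQ ψ) :
    tau M (μ (φ * ψ) - μ φ - μ (φ' * ψ) + μ φ') = η (φ * ψ) - η φ - η (φ' * ψ) + η φ' := by
  classical
  by_cases hψ1 : ψ = 1
  · subst hψ1
    have e : ∀ a : ↥(W₁ ⊔ W₂) →* ℂˣ, a * 1 = a := fun a => MonoidHom.ext fun w => by simp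
    rw [e, e, sub_self, zero_sub, neg_add_cancel, sub_self, zero_sub, neg_add_cancel]
    funext x
    simp [Cfsg.dadeIsometry]
  have hW := s.typeP.selfNormalizing
  haveI : Fintype ↥(W₁ ⊔ W₂) := Fintype.ofFinite _
  set f := μ (φ * ψ) - μ φ - μ (φ' * ψ) + μ φ' with hf
  set T := η (φ * ψ) - η φ - η (φ' * ψ) + η φ' with hT
  have hgen : Cfsg.IsGeneralizedCharacter ↥M f :=
    Isometry.Inner.gen_add (Isometry.Inner.gen_sub (Isometry.Inner.gen_sub (mu_gen s hμ _)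
      (mu_gen s hμ _)) (mu_gen s hμ _)) (mu_gen s hμ _)
  have hcl := Isometry.Inner.gen_classFun hgen
  have hsupp : Supp M f := supp_of s hcl
    (by simp only [hf, Pi.add_apply, Pi.sub_apply, mu_deg s hμ hφ hψ hψ1, mu_deg s hμ hφ' hψ hψ1,
      mu_row_one s hμ hφ, mu_row_one s hμ hφ']; ring)
    (fun x hx hx1 => by
      simp only [hf, Pi.add_apply, Pi.sub_apply, mu_W₁ s hμ _ x hx hx1, MonoidHom.mul_apply,
        hψ ⟨(x : G), mem_sup_left hx⟩ hx, mul_one]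
      ring)
  set b : ↥(W₁ ⊔ W₂) → ℂ := lin (φ * ψ) - lin φ - lin (φ' * ψ) + lin φ' with hb
  have hb' : b = CyclicTI.beta φ ψ - CyclicTI.beta φ' ψ := by rw [CyclicTI.beta_eq, CyclicTI.beta_eq, hb]; abel
  have hind : ∀ χ, IsP χ → Cfsg.indFun (W₁ ⊔ W₂) (CyclicTI.beta χ ψ) = η 1 - η χ - η ψ + η (χ * ψ) := by
    intro χ hχ
    by_cases hχ1 : χ = 1
    · subst hχ1
      rw [CyclicTI.beta_one_left, Induced.Basic.indFun_zero,
        show (1 : ↥(W₁ ⊔ W₂) →* ℂˣ) * ψ = ψ from MonoidHom.ext fun w => by simp]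
      abel
    · rw [hη.map_one]
      exact hη.induced_eq χ ψ hχ1 hψ1 hχ hψ
  have hIb : Cfsg.indFun (W₁ ⊔ W₂) b = T := by
    rw [hb', Induced.Basic.indFun_sub, hind φ hφ, hind φ' hφ', hT]; abel
  have hvgen := tau_gen s hgen hsupp
  have hres : Cfsg.classInner (tau M f) T = Cfsg.classInner b b := by
    rw [← hIb, Induced.Basic.frobenius_reciprocity' _ _ (Isometry.Inner.gen_classFun hvgen)]
    simp only [Cfsg.classInner]
    congr 1
    refine Finset.sum_congr rfl fun w _ => ?_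
    by_cases h : (w : G) ∈ W₁ ∨ (w : G) ∈ W₂
    · rw [hb', Pi.sub_apply, CyclicTI.beta_eq_zero hφ hψ h, CyclicTI.beta_eq_zero hφ' hψ h]
      simp
    · push Not at h
      congr 1
      rw [tau_V s hcl w h.1 h.2 (W_le s w.2)]
      simp only [hf, hb, Pi.add_apply, Pi.sub_apply, hμ.val _ w _ h.2, lin]
  refine sub_eq_zero.1 (Isometry.Inner.eq_zero_of_classInner_self ?_)
  have n1 : Cfsg.classInner (tau M f) (tau M f) = Cfsg.classInner b b := by
    rw [tau_inner s hcl hsupp hcl, hf, quad s μ (fun i j => by convert mu_inner s hμ i j),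
      hb, quad s lin (fun i j => by convert CyclicTI.classInner_lin i j)]
  have n2 : Cfsg.classInner T T = Cfsg.classInner b b := by
    rw [hT, quad s η hη.orthonormal, hb, quad s lin (fun i j => by convert CyclicTI.classInner_lin i j)]
  clear_value T
  rw [Induced.Basic.classInner_sub_left, Induced.Basic.classInner_sub_right,
    Induced.Basic.classInner_sub_right, n1, n2, hres, ← Induced.Basic.classInner_conj_symm (tau M f) T,
    hres]
  rw [Induced.Basic.classInner_conj_symm]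
  ring

end Facts

end Cfsg.Agent.Lib.OddOrder.PF11.Tau
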