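import Cfsg.Agent.Lib.OddOrder.PF11.Galois

/-!
# Peterfalvi §11: the theorem
-/

set_option autoImplicit false
set_option linter.style.haveILetI false
set_option linter.unusedSectionVars false

namespace Cfsg.Agent.Lib.OddOrder.PF11.Main

open Subgroup
open Cfsg.Agent.Lib
open Cfsg.Agent.Lib.OddOrder.PF11.Bound
open Cfsg.Agent.Lib.OddOrder.Interface.PF11 (derivedIn tau Setup Result Step_11)

universe u

variable {G : Type u} [_root_.Group G] [Fintype G] {M W₁ U W₂ : Subgroup G}

theorem result [Fintype ↥M] (s : Setup M W₁ U W₂) : Result M W₁ U W₂ := by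
  classical
  have c := ctx_of_setup s
  haveI := K_normal c
  obtain ⟨μ, hμ⟩ := Chars.exists_mu s
  have hC := Galois.cen_eq_bot s
  refine ⟨Abelian.H_elementary s, Abelian.H_card s, Galois.U_cyclic s, hC,
    fun X hX hXU => Galois.irreducible s hX hXU, fun x hx hx1 => Galois.U_free s hx hx1,
    Galois.derived_two s, ?_, ?_⟩
  · obtain ⟨η, hη⟩ := Cfsg.Agent.S1502.result W₁ W₂ s.typeP.selfNormalizing (c.odd_card _)
    obtain ⟨ζ, hζ⟩ := NonGalois.hc_nonempty s
    exact (Column.row_const s hμ hη hζ).2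
  · intro η hη ζ hζ φ ψ hφ hψ
    have hζ' : ζ ∈ Isometry.InducedSystem.above (derivedIn M) (Eta.hcM M U) := by
      rw [← Finset.mem_coe, Isometry.InducedSystem.coe_above]
      rwa [Eta.hcM, hc, hC, sup_bot_eq]
    obtain ⟨hg, hs⟩ := Eta.alpha_facts s hμ hζ'
    have hgen := Tau.tau_gen s hg hs
    rw [← Eta.muCol_one_eq hμ, Tau.coef_spec hgen (Tau.eta_gen hη _),
      Tau.coef_spec hgen (Tau.eta_gen hη _), (Column.row_const s hμ hη hζ').1 φ ψ hφ hψ]

/-- Peterfalvi (11.5)–(11.9). -/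
theorem step_11 : Step_11 G := fun _ _ _ _ _ s => result s

end Cfsg.Agent.Lib.OddOrder.PF11.Main
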