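import Cfsg.Agent.Lib.OddOrder.PF11.Structure
import Cfsg.Agent.Lib.Extraspecial.Basic

/-!
# Peterfalvi §11: `C_H(U) = 1`, so `H` is elementary abelian of order `p ^ q` ((11.7))

The commutator pairing on `H / N` with values in `N / [N, H]` is `U`-invariant.  If `U` is irreducible
on `H / N` it gives an extraspecial group of order `p ^ (q + 1)`; otherwise it forces `U` to fix a line.
-/

set_option autoImplicit false
set_option linter.style.haveILetI false
set_option linter.unusedSectionVars false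

namespace Cfsg.Agent.Lib.OddOrder.PF11.Abelian

open Subgroup
open Cfsg.Agent.Lib.OddOrder.Basic
open Cfsg.Agent.Lib.OddOrder.PF11.Group (Ctx)
open Cfsg.Agent.Lib.OddOrder.PF11.Bound
open Cfsg.Agent.Lib.OddOrder.PF11.Structure
open Cfsg.Agent.Lib.OddOrder.Interface.PF11 (derivedIn tau Setup)
open scoped commutatorElement

universe u

variable {G : Type u} [_root_.Group G] [Fintype G] {M W₁ U W₂ : Subgroup G}

local notation "H" => Cfsg.fittingHallOf M

local notation "D" => ⁅M, M⁆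

/-- `N' = [N, H]`, the next term. -/
abbrev nxt (M U : Subgroup G) : Subgroup G := ⁅fix M U, Cfsg.fittingHallOf M⁆

theorem commute_mk {X : Type*} [_root_.Group X] (N : Subgroup X) [N.Normal] {a b : X} (h : ⁅a, b⁆ ∈ N) :
    Commute (QuotientGroup.mk' N a) (QuotientGroup.mk' N b) := by
  rw [← commutatorElement_eq_one_iff_commute, ← map_commutatorElement]
  exact (QuotientGroup.eq_one_iff _).2 h

/-- Commutator calculus for elements whose commutators are central. -/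
theorem comm_mul_left_of {X : Type*} [_root_.Group X] {a b d : X} (h : Commute ⁅b, d⁆ a) :
    ⁅a * b, d⁆ = ⁅b, d⁆ * ⁅a, d⁆ := by
  calc ⁅a * b, d⁆ = a * ⁅b, d⁆ * a⁻¹ * ⁅a, d⁆ := by simp only [commutatorElement_def]; group
    _ = _ := by rw [h.symm.eq, mul_inv_cancel_right]

section Facts
variable [Fintype ↥M] (s : Setup M W₁ U W₂)

include s

theorem nxt_le : nxt M U ≤ fix M U := by
  rw [Subgroup.commutator_le]
  intro n hn h hh
  rw [show ⁅n, h⁆ = n * (h * n⁻¹ * h⁻¹) by rw [commutatorElement_def]; group]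
  exact mul_mem hn (conj_mem_of_normalizes (H_normalizes_fix s) hh (inv_mem hn))

theorem nxt_normal : M ≤ normalizer ((nxt M U : Subgroup G) : Set G) :=
  (Subgroup.le_normalizer_iff).2 fun m hm =>
    conj_commutator_mem (fun x hx => conj_mem_of_normalizes (ctx_of_setup s).N_facts.2.1 hm hx)
      (fun x hx => conj_mem_of_normalizes (ctx_of_setup s).H_normal hm hx)

/-- `[N, H] < N` unless `N = 1`. -/
theorem nxt_lt (hne : fix M U ≠ ⊥) : nxt M U < fix M U := by
  refine lt_of_le_of_ne (nxt_le s) fun e => hne ?_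
  obtain ⟨n, hn⟩ := (Subgroup.isNilpotent_iff_lowerCentralSeries (H : Subgroup G)).1
    (fittingHallOf_isNilpotent M)
  have : ∀ i, fix M U ≤ (H : Subgroup G).lowerCentralSeries i := by
    intro i
    induction i with
    | zero => rw [Subgroup.lowerCentralSeries_zero]; exact inf_le_left
    | succ i ih =>
      rw [Subgroup.lowerCentralSeries_succ, ← e]
      exact Subgroup.commutator_mono ih le_rfl
  exact le_bot_iff.1 (hn ▸ this n)

/-- A subgroup between `[N, H]` and `N` is normalised by `H`. -/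
theorem between_normal {Y : Subgroup G} (h1 : nxt M U ≤ Y) (h2 : Y ≤ fix M U) :
    (H : Subgroup G) ≤ normalizer (Y : Set G) := by
  rw [Subgroup.le_normalizer_iff]
  intro h hh y hy
  rw [show h * y * h⁻¹ = ⁅y, h⁆⁻¹ * y by rw [commutatorElement_def]; group]
  exact mul_mem (inv_mem (h1 (commutator_mem_commutator (h2 hy) hh))) hy

/-- The elements of `H` commuting with all of `H` modulo `Y`. -/
theorem exists_radical {Y : Subgroup G} (h1 : nxt M U ≤ Y) (h2 : Y ≤ fix M U) :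
    ∃ R : Subgroup G, (∀ x, x ∈ R ↔ x ∈ H ∧ ∀ y ∈ H, ⁅x, y⁆ ∈ Y) ∧
      fix M U ≤ R ∧ R ≤ H ∧ U ≤ normalizer (R : Set G) := by
  have c := ctx_of_setup s
  have hn := between_normal s h1 h2
  haveI : (Y.subgroupOf H).Normal :=
    (Subgroup.normal_subgroupOf_iff_le_normalizer (h2.trans inf_le_left)).2 hn
  set f := QuotientGroup.mk' (Y.subgroupOf H)
  set R := ((Subgroup.center (↥(H : Subgroup G) ⧸ Y.subgroupOf H)).comap f).map (H : Subgroup G).subtype
  have hmem : ∀ x, x ∈ R ↔ x ∈ H ∧ ∀ y ∈ H, ⁅x, y⁆ ∈ Y := by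
    intro x
    constructor
    · rintro ⟨z, hz, rfl⟩
      refine ⟨z.2, fun y hy => ?_⟩
      have hc := (Subgroup.mem_center_iff.1 hz) (f ⟨y, hy⟩)
      have h' : f ⁅z, ⟨y, hy⟩⁆ = 1 := by
        rw [map_commutatorElement, commutatorElement_eq_one_iff_mul_comm]
        exact hc.symm
      exact (show (⁅z, (⟨y, hy⟩ : ↥(H : Subgroup G))⁆ : ↥(H : Subgroup G)) ∈ Y.subgroupOf H from
        (QuotientGroup.eq_one_iff _).1 h')
    · rintro ⟨hx, hall⟩
      refine ⟨⟨x, hx⟩, Subgroup.mem_center_iff.2 fun g => ?_, rfl⟩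
      obtain ⟨y, rfl⟩ := QuotientGroup.mk'_surjective _ g
      exact ((commute_mk _ (a := (⟨x, hx⟩ : ↥(H : Subgroup G))) (b := y) (hall y y.2)).symm).eq
  refine ⟨R, hmem, fun n hn' => (hmem n).2 ⟨hn'.1, fun y hy => h1 (commutator_mem_commutator hn' hy)⟩,
    fun x hx => ((hmem x).1 hx).1, ?_⟩
  rw [Subgroup.le_normalizer_iff]
  intro a ha x hx
  obtain ⟨hxH, hall⟩ := (hmem x).1 hx
  refine (hmem _).2 ⟨conj_mem_of_normalizes c.H_normal (c.U_le ha) hxH, fun y hy => ?_⟩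
  have hy' : a⁻¹ * y * a ∈ H := by
    simpa using conj_mem_of_normalizes c.H_normal (inv_mem (c.U_le ha)) hy
  have h3 := hall _ hy'
  have e : ⁅a * x * a⁻¹, y⁆ = a * ⁅x, a⁻¹ * y * a⁆ * a⁻¹ := by
    simp only [commutatorElement_def]; group
  rw [e, mem_centralizer_iff.1 (h2 h3).2 a ha, mul_inv_cancel_right]
  exact h3

/-- `U` cannot be irreducible on `H / N` when `N ≠ 1`. -/
theorem not_irreducible (hne : fix M U ≠ ⊥) :
    ∃ X, fix M U < X ∧ X < H ∧ U ≤ normalizer (X : Set G) := by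
  classical
  by_contra hirr
  have c := ctx_of_setup s
  haveI : Fact (Nat.card W₂).Prime := ⟨c.p_prime⟩
  set N := fix M U with hN
  haveI : Finite (Subgroup G) := Finite.of_injective (fun X => (X : Set G)) SetLike.coe_injective
  obtain ⟨Y, ⟨hY1, hY2⟩, hYmax⟩ := Set.Finite.exists_maximal
    (s := {Y : Subgroup G | nxt M U ≤ Y ∧ Y < N}) (Set.toFinite _) ⟨nxt M U, le_rfl, nxt_lt s hne⟩
  have hn := between_normal s hY1 hY2.le
  haveI hYn : (Y.subgroupOf H).Normal :=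
    (Subgroup.normal_subgroupOf_iff_le_normalizer (hY2.le.trans inf_le_left)).2 hn
  obtain ⟨R, hR, hRN, hRH, hRU⟩ := exists_radical s hY1 hY2.le
  have hRne : R ≠ H := fun e => hY2.not_ge (by
    rw [hN, fix_eq s, Subgroup.commutator_le]
    exact fun x hx y hy => ((hR x).1 (e.ge hx)).2 y hy)
  have hRN' : R = N := by
    by_contra h
    exact hirr ⟨R, lt_of_le_of_ne hRN (Ne.symm h), lt_of_le_of_ne hRH hRne, hRU⟩
  obtain ⟨n, hnN, hnY⟩ := SetLike.exists_of_lt hY2
  set f := QuotientGroup.mk' (Y.subgroupOf H)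
  set z := f ⟨n, hnN.1⟩ with hz
  have hgen : ∀ m ∈ N, ∀ g, g = n ∨ g = n ^ Nat.card W₂ → g ∉ Y → g ∈ N →
      m ∈ Y ⊔ zpowers g := by
    intro m hm g _ hgY hgN
    have hle : Y ⊔ zpowers g ≤ N := sup_le hY2.le (zpowers_le.2 hgN)
    have : Y ⊔ zpowers g = N := by
      by_contra hne'
      exact hgY ((hYmax ⟨hY1.trans le_sup_left, lt_of_le_of_ne hle hne'⟩ le_sup_left)
        (mem_sup_right (mem_zpowers g)))
    exact this.ge hm
  have himg : ∀ (g : G) (hg : g ∈ H), g ∈ N → ∀ m : G, ∀ hm : m ∈ H, m ∈ Y ⊔ zpowers g →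
      f ⟨m, hm⟩ ∈ zpowers (f ⟨g, hg⟩) := by
    intro g hg _ m hm hmem
    have hle : zpowers g ≤ normalizer (Y : Set G) := (zpowers_le.2 hg).trans hn
    rw [sup_comm] at hmem
    obtain ⟨a, ⟨i, rfl⟩, b, hb, rfl⟩ := Coprime.exists_mul_of_mem_sup hle hmem
    have e : (⟨g ^ i * b, hm⟩ : ↥(H : Subgroup G)) = ⟨g, hg⟩ ^ i * ⟨b, (hY2.le hb).1⟩ :=
      Subtype.ext (by simp)
    refine ⟨i, ?_⟩
    rw [e, map_mul, map_zpow, show f ⟨b, (hY2.le hb).1⟩ = 1 from (QuotientGroup.eq_one_iff _).2 hb,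
      mul_one]
  have hz1 : z ≠ 1 := fun h => hnY ((QuotientGroup.eq_one_iff (⟨n, hnN.1⟩ : ↥(H : Subgroup G))).1 h)
  have hzN : ∀ (m : G) (hm : m ∈ N), f ⟨m, hm.1⟩ ∈ zpowers z := fun m hm =>
    himg n hnN.1 hnN m hm.1 (hgen m hm n (Or.inl rfl) hnY hnN)
  have hzp : z ^ Nat.card W₂ = 1 := by
    by_contra hzp
    have hnp : n ^ Nat.card W₂ ∉ Y := fun h => hzp (by
      rw [hz, ← map_pow]
      exact (QuotientGroup.eq_one_iff _).2 h)
    have hnpN := pow_mem hnN (Nat.card W₂)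
    obtain ⟨i, hi⟩ := himg (n ^ Nat.card W₂) hnpN.1 hnpN n hnN.1
      (hgen n hnN _ (Or.inr rfl) hnp hnpN)
    have hfp : f ⟨n ^ Nat.card W₂, hnpN.1⟩ = z ^ Nat.card W₂ := by rw [hz, ← map_pow]; rfl
    rw [hfp] at hi
    have h1 : z ^ ((Nat.card W₂ : ℤ) * i - 1) = 1 := by
      rw [zpow_sub, zpow_one, zpow_mul, zpow_natCast, show (z ^ Nat.card W₂) ^ i = z from hi,
        mul_inv_cancel]
    obtain ⟨k, hk⟩ := ((H_pgroup s).to_quotient (Y.subgroupOf H)) z
    have hdvd := orderOf_dvd_iff_zpow_eq_one.2 h1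
    obtain ⟨j, -, hj⟩ := (Nat.dvd_prime_pow c.p_prime).1 (orderOf_dvd_iff_pow_eq_one.2 hk)
    rcases Nat.eq_zero_or_pos j with h0 | h0
    · exact hz1 (orderOf_eq_one_iff.1 (by rw [hj, h0, pow_zero]))
    have hpd : (Nat.card W₂ : ℤ) ∣ (Nat.card W₂ : ℤ) * i - 1 := by
      refine dvd_trans ?_ hdvd
      rw [hj]
      exact_mod_cast dvd_pow_self _ h0.ne'
    have : (Nat.card W₂ : ℤ) ∣ 1 := by
      have := dvd_sub (dvd_mul_right (Nat.card W₂ : ℤ) i) hpd
      simpa using this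
    exact c.p_prime.one_lt.ne' (by exact_mod_cast Int.eq_one_of_dvd_one (by positivity) this)
  have hcomm : ∀ a b : ↥(H : Subgroup G) ⧸ Y.subgroupOf H, ⁅a, b⁆ ∈ zpowers z := by
    intro a b
    obtain ⟨a, rfl⟩ := QuotientGroup.mk'_surjective _ a
    obtain ⟨b, rfl⟩ := QuotientGroup.mk'_surjective _ b
    rw [← map_commutatorElement]
    exact hzN _ ((fix_eq s).ge (commutator_mem_commutator a.2 b.2))
  have hes : Extraspecial.ESData (Nat.card W₂) z := by
    refine ⟨hz1, hzp, fun w => ⟨fun hw => ?_, fun hw => ?_⟩, hcomm, fun a => ?_⟩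
    · obtain ⟨x, rfl⟩ := QuotientGroup.mk'_surjective _ w
      have hxR : (x : G) ∈ R := (hR x).2 ⟨x.2, fun y hy => by
        have hc := (Subgroup.mem_center_iff.1 hw) (f ⟨y, hy⟩)
        have h' : f ⁅x, ⟨y, hy⟩⁆ = 1 := by
          rw [map_commutatorElement, commutatorElement_eq_one_iff_mul_comm]
          exact hc.symm
        exact (show (⁅x, (⟨y, hy⟩ : ↥(H : Subgroup G))⁆ : ↥(H : Subgroup G)) ∈ Y.subgroupOf H from
          (QuotientGroup.eq_one_iff _).1 h')⟩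
      exact hzN x (hRN'.le hxR)
    · refine (Subgroup.zpowers_le.2 ?_) hw
      rw [Subgroup.mem_center_iff]
      intro g
      obtain ⟨y, rfl⟩ := QuotientGroup.mk'_surjective _ g
      exact (commute_mk _ (a := (⟨n, hnN.1⟩ : ↥(H : Subgroup G))) (b := y)
        (hY1 (commutator_mem_commutator hnN y.2))).eq.symm
    · obtain ⟨x, rfl⟩ := QuotientGroup.mk'_surjective _ a
      rw [← map_pow]
      exact hzN _ (pow_mem_fix s x.2)
  obtain ⟨k, hk⟩ := Extraspecial.exists_card_eq hes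
  have hcard : Nat.card (↥(H : Subgroup G) ⧸ Y.subgroupOf H) =
      Nat.card W₂ * Nat.card W₂ ^ Nat.card W₁ := by
    have h1 : Y.relIndex N = Nat.card W₂ := by
      have horder : orderOf z = Nat.card W₂ := orderOf_eq_prime hzp hz1
      have e1 : (Y.subgroupOf H).relIndex (N.subgroupOf H) = Y.relIndex N :=
        relIndex_subgroupOf inf_le_left
      have hmap : (N.subgroupOf H).map f = zpowers z := by
        refine le_antisymm ?_ (zpowers_le.2 ⟨⟨n, hnN.1⟩, hnN, rfl⟩)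
        rintro _ ⟨x, hx, rfl⟩
        exact hzN x hx
      have h2 := Subgroup.relIndex_map_map f (⊥ : Subgroup ↥(H : Subgroup G)) (N.subgroupOf H)
      rw [Subgroup.map_bot, relIndex_bot_left, hmap, Nat.card_zpowers, horder, bot_sup_eq,
        QuotientGroup.ker_mk', sup_eq_left.2 (fun x hx => hY2.le hx : Y.subgroupOf H ≤ N.subgroupOf H),
        e1] at h2
      exact h2.symm
    rw [← Subgroup.index_eq_card, ← c.N_facts.2.2.1, ← h1,
      show (Y.subgroupOf H).index = Y.relIndex H from rfl,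
      relIndex_mul_relIndex _ _ _ hY2.le inf_le_left]
  rw [hcard, ← pow_succ'] at hk
  obtain ⟨a, ha⟩ := c.odd_card W₁
  have := Nat.pow_right_injective c.p_prime.two_le hk
  omega

/-- (11.7): `C_H(U) = 1`. -/
theorem fix_eq_bot : fix M U = ⊥ := by
  classical
  by_contra hne
  have c := ctx_of_setup s
  set p := Nat.card W₂ with hp
  haveI : Fact p.Prime := ⟨c.p_prime⟩
  obtain ⟨X, hX1, hX2, hXU⟩ := not_irreducible s hne
  obtain ⟨L, hL1, hL2, hLU, hLidx, hLgen, -⟩ := lines s hX1 hX2 hXU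
  haveI := normal_in c.N_facts.2.1
  haveI := normal_in (nxt_normal s)
  set f₀ := QuotientGroup.mk' ((fix M U).subgroupOf M) with hf₀
  set f₂ := QuotientGroup.mk' ((nxt M U).subgroupOf M) with hf₂
  obtain ⟨x, hxL, hxN⟩ := SetLike.exists_of_lt hL1
  have hxH : x ∈ H := hL2 hxL
  let xM : ↥M := ⟨x, c.H_le hxH⟩
  have hx0 : f₀ xM ≠ 1 := fun h => hxN ((QuotientGroup.eq_one_iff xM).1 h)
  have hx0p : f₀ xM ^ p = 1 := by
    rw [← map_pow]; exact (QuotientGroup.eq_one_iff _).2 (pow_mem_fix s hxH)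
  have hord : orderOf (f₀ xM) = p := orderOf_eq_prime hx0p hx0
  have hLspan : ∀ y : ↥M, (y : G) ∈ L → ∃ i : ℤ, f₀ y = f₀ xM ^ i := by
    intro y hy
    have hle : fix M U ⊔ zpowers x ≤ L := sup_le hL1.le (zpowers_le.2 hxL)
    have heq : fix M U ⊔ zpowers x = L := by
      have h1 := relIndex_mul_relIndex (fix M U) _ L le_sup_left hle
      rw [hLidx] at h1
      rcases (Nat.dvd_prime c.p_prime).1 (Dvd.intro _ h1) with h | h
      · exact absurd (mem_sup_right (mem_zpowers x))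
          (fun hm => hxN (relIndex_eq_one.1 h hm))
      · rw [h] at h1
        exact le_antisymm hle (relIndex_eq_one.1 ((Nat.mul_eq_left c.p_prime.ne_zero).1 h1))
    have hy' : (y : G) ∈ zpowers x ⊔ fix M U := by rw [sup_comm, heq]; exact hy
    obtain ⟨a, ⟨i, rfl⟩, b, hb, e⟩ := Coprime.exists_mul_of_mem_sup
      ((zpowers_le.2 (c.H_le hxH)).trans c.N_facts.2.1) hy'
    refine ⟨i, ?_⟩
    have e' : y = xM ^ i * ⟨b, fix_le c hb⟩ := Subtype.ext (by simpa [xM] using e)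
    rw [e', map_mul, map_zpow, show f₀ ⟨b, fix_le c hb⟩ = 1 from (QuotientGroup.eq_one_iff _).2 hb,
      mul_one]
  let cj : U → ↥M := fun a => ⟨(a : G) * x * (a : G)⁻¹, c.H_le
    (conj_mem_of_normalizes c.H_normal (c.U_le a.2) hxH)⟩
  have hexp : ∀ a : U, ∃ i : ℤ, f₀ (cj a) = f₀ xM ^ i := fun a =>
    hLspan _ (conj_mem_of_normalizes hLU a.2 hxL)
  choose e he using hexp
  let E : U → ZMod p := fun a => (e a : ZMod p)
  have huniq : ∀ i j : ℤ, f₀ xM ^ i = f₀ xM ^ j → (i : ZMod p) = j := by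
    intro i j h
    have h1 := zpow_eq_zpow_iff_modEq.1 h
    rw [hord] at h1
    exact (ZMod.intCast_eq_intCast_iff _ _ _).2 h1
  let aM : U → ↥M := fun a => ⟨(a : G), c.U_le a.2⟩
  have hcj : ∀ a, cj a = aM a * xM * (aM a)⁻¹ := fun a => Subtype.ext rfl
  have hEmul : ∀ a b, E (a * b) = E a * E b := by
    intro a b
    have h : f₀ xM ^ e (a * b) = f₀ xM ^ (e a * e b) := by
      rw [← he, hcj, show aM (a * b) = aM a * aM b from Subtype.ext rfl, zpow_mul]
      rw [show aM a * aM b * xM * (aM a * aM b)⁻¹ = aM a * (cj b) * (aM a)⁻¹ by rw [hcj b]; group,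
        map_mul, map_mul, map_inv, he b, ← conj_zpow, ← map_inv, ← map_mul, ← map_mul, ← hcj, he a]
    simp only [E, ← Int.cast_mul]
    exact huniq _ _ h
  have hE1 : E 1 = 1 := by
    have h : f₀ xM ^ e 1 = f₀ xM ^ (1 : ℤ) := by
      rw [← he, zpow_one]; congr 1; exact Subtype.ext (by simp [xM, cj])
    simpa [E] using huniq _ _ h
  -- commutators of conjugates of `x`
  have hmemH : ∀ w ∈ W₁, w * x * w⁻¹ ∈ H := fun w hw =>
    conj_mem_of_normalizes c.H_normal (c.W₁_le hw) hxH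
  obtain ⟨v, hv, w, hw, hvw⟩ : ∃ v ∈ W₁, ∃ w ∈ W₁, ⁅v * x * v⁻¹, w * x * w⁻¹⁆ ∉ nxt M U := by
    by_contra hall
    push Not at hall
    obtain ⟨R, hR, hRN, hRH, -⟩ := exists_radical s le_rfl (nxt_le s)
    have hgenR : ∀ Y : Subgroup G, fix M U ≤ Y → (∀ w ∈ W₁, w * x * w⁻¹ ∈ Y) → H ≤ Y := by
      intro Y hY hgen
      refine hLgen Y hY fun w hw y hy => ?_
      obtain ⟨i, hi⟩ := hLspan ⟨y, c.H_le (hL2 hy)⟩ hy
      have hd : ((xM ^ i)⁻¹ * ⟨y, c.H_le (hL2 hy)⟩ : ↥M) ∈ (fix M U).subgroupOf M := by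
        refine (QuotientGroup.eq_one_iff _).1 ?_
        show f₀ _ = 1
        rw [map_mul, map_inv, map_zpow, hi, inv_mul_cancel]
      have hd' : (x ^ i)⁻¹ * y ∈ fix M U := by simpa [xM, mem_subgroupOf] using hd
      rw [show w * y * w⁻¹ = (w * x ^ i * w⁻¹) * (w * ((x ^ i)⁻¹ * y) * w⁻¹) by group, ← conj_zpow]
      exact mul_mem (zpow_mem (hgen w hw) i)
        (hY (conj_mem_of_normalizes c.N_facts.2.1 (c.W₁_le hw) hd'))
    have hxR : ∀ v ∈ W₁, v * x * v⁻¹ ∈ R := by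
      intro v hv
      refine (hR _).2 ⟨hmemH v hv, ?_⟩
      set y₀ := v * x * v⁻¹
      let T : Subgroup G :=
        { carrier := {y | y ∈ H ∧ ⁅y₀, y⁆ ∈ nxt M U}
          one_mem' := ⟨one_mem _, by simp⟩
          mul_mem' := fun {a b} ha hb => ⟨mul_mem ha.1 hb.1, by
            rw [show ⁅y₀, a * b⁆ = ⁅y₀, a⁆ * (a * ⁅y₀, b⁆ * a⁻¹) by
              simp only [commutatorElement_def]; group]
            exact mul_mem ha.2 (conj_mem_of_normalizes (nxt_normal s) (c.H_le ha.1) hb.2)⟩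
          inv_mem' := fun {a} ha => ⟨inv_mem ha.1, by
            rw [show ⁅y₀, a⁻¹⁆ = a⁻¹ * ⁅y₀, a⁆⁻¹ * a⁻¹⁻¹ by
              simp only [commutatorElement_def]; group]
            exact conj_mem_of_normalizes (nxt_normal s) (inv_mem (c.H_le ha.1)) (inv_mem ha.2)⟩ }
      have hT : (H : Subgroup G) ≤ T := hgenR T
        (fun n hn => ⟨hn.1, by
          rw [← commutatorElement_inv]
          exact inv_mem (commutator_mem_commutator hn (hmemH v hv))⟩)
        (fun w hw => ⟨hmemH w hw, hall v hv w hw⟩)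
      exact fun y hy => (hT hy).2
    have hHR : (H : Subgroup G) ≤ R := hgenR R hRN hxR
    refine (nxt_lt s hne).not_ge ?_
    rw [fix_eq s, Subgroup.commutator_le]
    exact fun a ha b hb => ((hR a).1 (hHR ha)).2 b hb
  -- bilinearity modulo `nxt`
  have hcentral : ∀ a b d : ↥M, (a : G) ∈ H → (b : G) ∈ H → (d : G) ∈ H →
      Commute ⁅f₂ a, f₂ b⁆ (f₂ d) := by
    intro a b d ha hb hd
    rw [← map_commutatorElement]
    refine commute_mk _ (?_ : (⁅⁅a, b⁆, d⁆ : ↥M) ∈ (nxt M U).subgroupOf M)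
    show (⁅⁅(a : G), (b : G)⁆, (d : G)⁆) ∈ nxt M U
    exact commutator_mem_commutator ((fix_eq s).ge (commutator_mem_commutator ha hb)) hd
  have hzero : ∀ n b : ↥M, (n : G) ∈ fix M U → (b : G) ∈ H → ⁅f₂ n, f₂ b⁆ = 1 := by
    intro n b hn hb
    rw [← map_commutatorElement]
    exact (QuotientGroup.eq_one_iff _).2 (show ⁅(n : G), (b : G)⁆ ∈ nxt M U from
      commutator_mem_commutator hn hb)
  have hleft : ∀ (a b : ↥M), (a : G) ∈ H → (b : G) ∈ H → ∀ i : ℕ,
      ⁅f₂ a ^ i, f₂ b⁆ = ⁅f₂ a, f₂ b⁆ ^ i := by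
    intro a b ha hb i
    induction i with
    | zero => simp
    | succ i ih =>
      rw [pow_succ, comm_mul_left_of, ih, ← pow_succ']
      rw [← map_pow]
      exact hcentral a b _ ha hb (by simpa using pow_mem ha i)
  have hleftz : ∀ (a b : ↥M), (a : G) ∈ H → (b : G) ∈ H → ∀ i : ℤ,
      ⁅f₂ a ^ i, f₂ b⁆ = ⁅f₂ a, f₂ b⁆ ^ i := by
    intro a b ha hb i
    induction i with
    | zero => simp
    | succ k ih =>
      rw [zpow_add_one, comm_mul_left_of, ih, zpow_add_one, ((Commute.refl _).zpow_right (k : ℤ)).eq]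
      rw [← map_zpow]
      exact hcentral a b _ ha hb (by simpa using zpow_mem ha (k : ℤ))
    | pred k ih =>
      rw [zpow_sub_one, comm_mul_left_of, ih, zpow_sub_one]
      · have h1 : ⁅(f₂ a)⁻¹, f₂ b⁆ = ⁅f₂ a, f₂ b⁆⁻¹ := by
          have h2 := comm_mul_left_of (a := (f₂ a)⁻¹) (b := f₂ a) (d := f₂ b)
            (by rw [← map_inv]; exact hcentral a b a⁻¹ ha hb (by simpa using inv_mem ha))
          rw [inv_mul_cancel, commutatorElement_one_left] at h2
          exact (inv_eq_of_mul_eq_one_right h2.symm).symm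
        rw [h1, ((Commute.refl _).inv_left.zpow_right (-(k : ℤ))).eq]
      · rw [← map_zpow, ← map_inv]
        exact hcentral _ b _ (by simpa using inv_mem ha) hb
          (by simpa using zpow_mem ha (-(k : ℤ)))
  -- the character relation
  let tw : G → ↥M → ↥M := fun g y => if hg : g ∈ M then ⟨g, hg⟩ * y * ⟨g, hg⟩⁻¹ else y
  let vM : ↥M := ⟨v, c.W₁_le hv⟩
  let wM : ↥M := ⟨w, c.W₁_le hw⟩
  set a₁ := vM * xM * vM⁻¹ with ha₁
  set a₂ := wM * xM * wM⁻¹ with ha₂
  have ha₁H : (a₁ : G) ∈ H := by simpa [a₁, vM, xM] using hmemH v hv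
  have ha₂H : (a₂ : G) ∈ H := by simpa [a₂, wM, xM] using hmemH w hw
  set γ := ⁅f₂ a₁, f₂ a₂⁆ with hγ
  have hγ1 : γ ≠ 1 := by
    rw [hγ, ← map_commutatorElement]
    exact fun h => hvw (show (⁅a₁, a₂⁆ : ↥M) ∈ (nxt M U).subgroupOf M from
      (QuotientGroup.eq_one_iff _).1 h)
  have hswap : ∀ a b : ↥M, (a : G) ∈ H → (b : G) ∈ H → ∀ j : ℤ,
      ⁅f₂ a, f₂ b ^ j⁆ = ⁅f₂ a, f₂ b⁆ ^ j := by
    intro a b ha hb j
    rw [← commutatorElement_inv, hleftz b a hb ha j, ← commutatorElement_inv (f₂ b), inv_zpow]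
  have hnull : ∀ a b : ↥M, (a : G) ∈ H → (b : G) ∈ H → ∀ a' b' : ↥M,
      a⁻¹ * a' ∈ (fix M U).subgroupOf M → b⁻¹ * b' ∈ (fix M U).subgroupOf M →
      ⁅f₂ a', f₂ b'⁆ = ⁅f₂ a, f₂ b⁆ := by
    have key : ∀ a b n : ↥M, (a : G) ∈ H → (b : G) ∈ H → (n : G) ∈ fix M U →
        ⁅f₂ (a * n), f₂ b⁆ = ⁅f₂ a, f₂ b⁆ := by
      intro a b n ha hb hn
      rw [map_mul, comm_mul_left_of (by rw [hzero n b hn hb]; exact Commute.one_left _),
        hzero n b hn hb, one_mul]
    intro a b ha hb a' b' h1 h2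
    obtain ⟨n₁, hn₁, rfl⟩ : ∃ n ∈ (fix M U).subgroupOf M, a' = a * n := ⟨_, h1, by group⟩
    obtain ⟨n₂, hn₂, rfl⟩ : ∃ n ∈ (fix M U).subgroupOf M, b' = b * n := ⟨_, h2, by group⟩
    have hb' : ((b * n₂ : ↥M) : G) ∈ H := by simpa using mul_mem hb hn₂.1
    rw [key a _ n₁ ha hb' hn₁, ← commutatorElement_inv, key b a n₂ hb ha hn₂, commutatorElement_inv]
  have hγp : γ ^ p = 1 := by
    rw [hγ, ← hleft a₁ a₂ ha₁H ha₂H, ← map_pow]
    exact hzero _ _ (by simpa [hp] using pow_mem_fix s ha₁H) ha₂H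
  have hrel : ∀ a : U, ∀ (a' b' : U), (a' : G) = v⁻¹ * a * v → (b' : G) = w⁻¹ * a * w →
      E a' * E b' = 1 := by
    intro a a' b' hea heb
    have hc1 : aM a * a₁ * (aM a)⁻¹ = vM * cj a' * vM⁻¹ := Subtype.ext (by
      simp [a₁, aM, vM, xM, cj, hea, mul_assoc])
    have hc2 : aM a * a₂ * (aM a)⁻¹ = wM * cj b' * wM⁻¹ := Subtype.ext (by
      simp [a₂, aM, wM, xM, cj, heb, mul_assoc])
    have hd : ∀ (g : ↥M) (b : U), (g * xM * g⁻¹) ^ e b * ((g * cj b * g⁻¹)⁻¹) ∈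
        (fix M U).subgroupOf M := by
      intro g b
      refine (QuotientGroup.eq_one_iff _).1 ?_
      show f₀ _ = 1
      rw [map_mul, map_inv, map_mul, map_mul, map_inv, he b, map_zpow, map_mul, map_mul, map_inv,
        ← conj_zpow, mul_inv_cancel]
    have h1 := hd vM a'
    have h2 := hd wM b'
    rw [← hc1, ← ha₁] at h1
    rw [← hc2, ← ha₂] at h2
    have hinv : ⁅f₂ (aM a * a₁ * (aM a)⁻¹), f₂ (aM a * a₂ * (aM a)⁻¹)⁆ = γ := by
      rw [hγ, ← map_commutatorElement, ← map_commutatorElement]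
      congr 1
      apply Subtype.ext
      have hn : ⁅(a₁ : G), (a₂ : G)⁆ ∈ fix M U :=
        (fix_eq s).ge (commutator_mem_commutator ha₁H ha₂H)
      show ⁅(a : G) * (a₁ : G) * (a : G)⁻¹, (a : G) * (a₂ : G) * (a : G)⁻¹⁆ = ⁅(a₁ : G), (a₂ : G)⁆
      rw [show ⁅(a : G) * (a₁ : G) * (a : G)⁻¹, (a : G) * (a₂ : G) * (a : G)⁻¹⁆ =
          (a : G) * ⁅(a₁ : G), (a₂ : G)⁆ * (a : G)⁻¹ by simp only [commutatorElement_def]; group,
        mem_centralizer_iff.1 hn.2 a a.2, mul_inv_cancel_right]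
    have hA₁ : ((a₁ ^ e a' : ↥M) : G) ∈ H := by
      rw [SubgroupClass.coe_zpow]; exact zpow_mem ha₁H _
    have hA₂ : ((a₂ ^ e b' : ↥M) : G) ∈ H := by
      rw [SubgroupClass.coe_zpow]; exact zpow_mem ha₂H _
    have hd' : ∀ {A B : ↥M}, A * B⁻¹ ∈ (fix M U).subgroupOf M → A⁻¹ * B ∈ (fix M U).subgroupOf M :=
      fun {A B} h => by
        have h' := Subgroup.Normal.conj_mem' inferInstance _ (inv_mem h) A
        simpa [mul_assoc] using h'
    have hpow : γ ^ (e a' * e b') = γ ^ (1 : ℤ) := by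
      rw [zpow_one]
      conv_rhs => rw [← hinv, hnull (a₁ ^ e a') (a₂ ^ e b') hA₁ hA₂ _ _ (hd' h1) (hd' h2), map_zpow,
        map_zpow]
      have e1 := hleftz a₁ (a₂ ^ e b') ha₁H hA₂ (e a')
      rw [map_zpow] at e1
      rw [e1, hswap a₁ a₂ ha₁H ha₂H, ← zpow_mul, mul_comm (e b'), ← hγ]
    have hm := zpow_eq_zpow_iff_modEq.1 hpow
    rw [orderOf_eq_prime hγp hγ1] at hm
    simp only [E, ← Int.cast_mul]
    exact_mod_cast (ZMod.intCast_eq_intCast_iff _ _ _).2 hm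
  -- twisting by `W₁`
  let σ : G → U → U := fun g b =>
    if hg : g ∈ W₁ then ⟨g⁻¹ * b * g, by
      simpa using conj_mem_of_normalizes c.typeP.U_normal (inv_mem hg) b.2⟩ else b
  have hσ : ∀ {g : G}, g ∈ W₁ → ∀ b : U, (σ g b : G) = g⁻¹ * b * g := fun hg b => by
    simp [σ, dif_pos hg]
  set u := v⁻¹ * w with hu
  have huW : u ∈ W₁ := mul_mem (inv_mem hv) hw
  have hstep : ∀ b, E b * E (σ u b) = 1 := by
    intro b
    refine hrel (σ v⁻¹ b) b (σ u b) ?_ ?_
    · rw [hσ (inv_mem hv)]; group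
    · rw [hσ huW, hσ (inv_mem hv), hu]; group
  have hper : ∀ k : ℕ, ∀ b, E (σ (u ^ (2 * k)) b) = E b := by
    intro k
    induction k with
    | zero =>
      intro b; congr 1; apply Subtype.ext
      rw [hσ (pow_mem huW _)]; simp
    | succ k ih =>
      intro b
      have e1 : σ (u ^ (2 * (k + 1))) b = σ u (σ u (σ (u ^ (2 * k)) b)) := by
        apply Subtype.ext
        rw [hσ (pow_mem huW _), hσ huW, hσ huW, hσ (pow_mem huW _),
          show 2 * (k + 1) = 2 * k + 1 + 1 by ring, pow_succ, pow_succ]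
        group
      have h1 := hstep (σ (u ^ (2 * k)) b)
      have h2 := hstep (σ u (σ (u ^ (2 * k)) b))
      rw [e1, ← ih b]
      have hne0 : E (σ u (σ (u ^ (2 * k)) b)) ≠ 0 := fun h => by simp [h] at h1
      exact mul_right_cancel₀ hne0 (by rw [mul_comm] at h2; rw [h2, h1])
  have hfix : ∀ b, E b = 1 := by
    intro b
    obtain ⟨a, ha⟩ := c.odd_card W₁
    have huq : u ^ (2 * (a + 1)) = u := by
      rw [show 2 * (a + 1) = Nat.card W₁ + 1 by omega, pow_succ]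
      have : u ^ Nat.card W₁ = 1 := by
        exact congrArg Subtype.val (pow_card_eq_one' (x := (⟨u, huW⟩ : W₁)))
      rw [this, one_mul]
    have hsq : E b * E b = 1 := by
      have h1 := hper (a + 1) b
      rw [huq] at h1
      have h2 := hstep b
      rwa [h1] at h2
    have hpow : ∀ n : ℕ, E (b ^ n) = E b ^ n := by
      intro n
      induction n with
      | zero => simpa using hE1
      | succ n ih => rw [pow_succ, hEmul, ih, pow_succ]
    obtain ⟨k, hk⟩ := c.odd_card U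
    have h3 := hpow (Nat.card U)
    rw [pow_card_eq_one', hE1, hk, pow_succ, pow_mul, sq, hsq, one_pow, one_mul] at h3
    exact h3.symm
  -- so `U` centralises a line
  obtain ⟨n, hn, hcent⟩ := Coprime.exists_fixed_mul
    (A := U) (N := fix M U) (c.U_le.trans c.N_facts.2.1)
    ((c.coprime_H_U.symm).coprime_dvd_right (card_dvd_of_le inf_le_left))
    (Or.inl c.U_solvable) (k := x) (fun a ha => by
      have h1 : f₀ (cj ⟨a, ha⟩) = f₀ xM := by
        have hf := hfix ⟨a, ha⟩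
        rw [he]
        conv_rhs => rw [← zpow_one (f₀ xM)]
        refine zpow_eq_zpow_iff_modEq.2 ?_
        rw [hord]
        exact (ZMod.intCast_eq_intCast_iff _ _ _).1 (by simpa [E] using hf)
      have h2 : cj ⟨a, ha⟩ * xM⁻¹ ∈ (fix M U).subgroupOf M := by
        refine (QuotientGroup.eq_one_iff _).1 ?_
        show f₀ _ = 1
        rw [map_mul, map_inv, h1, mul_inv_cancel]
      simpa [cj, xM, mem_subgroupOf] using h2)
  refine hxN ?_
  have hm : n * x ∈ fix M U := ⟨mul_mem hn.1 hxH, hcent⟩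
  simpa using mul_mem (inv_mem hn) hm

theorem H_comm {x y : G} (hx : x ∈ H) (hy : y ∈ H) : x * y = y * x := by
  have h := commutator_mem_commutator (H₁ := (H : Subgroup G)) hx hy
  rw [← fix_eq s, fix_eq_bot s, mem_bot] at h
  exact commutatorElement_eq_one_iff_mul_comm.1 h

theorem H_card : Nat.card (H : Subgroup G) = Nat.card W₂ ^ Nat.card W₁ := by
  have h := (ctx_of_setup s).N_facts.2.2.1
  rwa [show H ⊓ centralizer (U : Set G) = ⊥ from fix_eq_bot s, relIndex_bot_left] at h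

theorem H_pow {x : G} (hx : x ∈ H) : x ^ Nat.card W₂ = 1 := by
  have h := pow_mem_fix s hx
  rwa [fix_eq_bot s, mem_bot] at h

theorem H_elementary : Cfsg.IsElementaryAbelian (Nat.card W₂) (H : Subgroup G) :=
  ⟨⟨⟨fun a b => Subtype.ext (H_comm s a.2 b.2)⟩⟩, fun _ ha => H_pow s ha⟩

/-- `S(C)` is not coherent. -/
theorem incoherent_cen :
    ¬ Cfsg.IsCoherent (S ((cen M U).subgroupOf M)) {1}ᶜ (tau M) := by
  have h := incoherent_nc s
  rwa [fix_eq_bot s, bot_sup_eq] at h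

theorem chief' {X : Subgroup G} (h2 : X ≤ H) (hU : U ≤ normalizer (X : Set G))
    (hW : W₁ ≤ normalizer (X : Set G)) : X = ⊥ ∨ X = H := by
  have h := chief s (X := X) (by rw [fix_eq_bot s]; exact bot_le) h2 hU hW
  rwa [fix_eq_bot s] at h

end Facts

end Cfsg.Agent.Lib.OddOrder.PF11.Abelian
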