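import Cfsg.Agent.Lib.OddOrder.PF11.Group
import Cfsg.Agent.Lib.OddOrder.Interface.PF11
import Cfsg.Agent.Lib.Isometry.KernelCoherence
import Cfsg.Agent.S1519
import Cfsg.Agent.S1520

/-!
# Peterfalvi §11: the consequences of non-coherence ((11.3)-(11.5))

`C = C_U(H)`, `N = C_H(U)`, `F = H C`, `u = |U : C|`.  `S(NC)` is not coherent, a coherent `S(A)` has
`|M' : A| ≤ 2qu + 1`, and `M'' = H C`.
-/

set_option autoImplicit false
set_option linter.style.haveILetI false
set_option linter.unusedSectionVars false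

namespace Cfsg.Agent.Lib.OddOrder.PF11.Bound

open Subgroup
open Cfsg.Agent.Lib.OddOrder.Basic
open Cfsg.Agent.Lib.OddOrder.PF11.Group (Ctx)
open Cfsg.Agent.Lib.OddOrder.Interface.PF11 (derivedIn tau Setup)
open scoped commutatorElement

universe u

variable {G : Type u} [_root_.Group G] [Fintype G]

/-- `C_U(H)`. -/
abbrev cen (M U : Subgroup G) : Subgroup G :=
  U ⊓ centralizer ((Cfsg.fittingHallOf M : Subgroup G) : Set G)

/-- `C_H(U)`. -/
abbrev fix (M U : Subgroup G) : Subgroup G := Cfsg.fittingHallOf M ⊓ centralizer (U : Set G)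

/-- `H C_U(H)`. -/
abbrev hc (M U : Subgroup G) : Subgroup G := Cfsg.fittingHallOf M ⊔ cen M U

variable {M W₁ U W₂ : Subgroup G}

local notation "H" => Cfsg.fittingHallOf M

local notation "D" => ⁅M, M⁆

theorem ctx_of_setup [Fintype ↥M] (s : Setup M W₁ U W₂) : Ctx M W₁ U W₂ :=
  ⟨s.odd, s.typeP, s.solvable, s.U_ne, s.q_prime, s.p_prime⟩

/-- `S(A)`. -/
abbrev S [Fintype ↥M] (A : Subgroup ↥M) : Set (↥M → ℂ) := Cfsg.inducedIrrAbove (derivedIn M) A

theorem subgroupOf_mono (M : Subgroup G) {A B : Subgroup G} (h : A ≤ B) :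
    A.subgroupOf M ≤ B.subgroupOf M := fun _ hx => h hx

theorem normal_in {X : Subgroup G} (hn : M ≤ normalizer (X : Set G)) : (X.subgroupOf M).Normal :=
  ⟨fun x hx g => by
    have hm : ((g : G) * (x : G) * (g : G)⁻¹) ∈ X :=
      ((mem_normalizer_iff.1 (hn g.2)) (x : G)).1 hx
    simpa [mem_subgroupOf] using hm⟩

section
variable (c : Ctx M W₁ U W₂)

include c

theorem cen_le : cen M U ≤ M := inf_le_left.trans c.U_le

theorem fix_le : fix M U ≤ M := inf_le_left.trans c.H_le

theorem hc_le_D : hc M U ≤ D := sup_le c.H_le_D (inf_le_left.trans c.U_le_D)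

theorem hc_le : hc M U ≤ M := (hc_le_D c).trans c.D_le

theorem hc_eq : hc M U = Cfsg.fittingOf M := (TypeP.fitting_eq_sup c.typeP).symm

theorem hc_normal : M ≤ normalizer ((hc M U : Subgroup G) : Set G) :=
  Coprime.le_normalizer_sup c.H_normal c.C_normal

theorem nc_le_hc : fix M U ⊔ cen M U ≤ hc M U := sup_le_sup_right inf_le_left _

theorem nc_normal : M ≤ normalizer ((fix M U ⊔ cen M U : Subgroup G) : Set G) :=
  Coprime.le_normalizer_sup c.N_facts.2.1 c.C_normal

theorem hc_nilpotent : Group.IsNilpotent ↥(hc M U) := by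
  rw [hc_eq c]
  exact fittingOf_isNilpotent M

theorem cen_lt : cen M U < U :=
  lt_of_le_of_ne inf_le_left fun e => c.U_not_centralizes (e ▸ inf_le_right)

theorem card_sup_cen {X : Subgroup G} (hX : X ≤ H) :
    Nat.card ↥(X ⊔ cen M U) = Nat.card X * Nat.card (cen M U) := by
  have hn : cen M U ≤ normalizer (X : Set G) := fun a ha => by
    refine Subgroup.centralizer_le_normalizer _ ?_
    exact centralizer_le (SetLike.coe_subset_coe.2 hX) ha.2
  rw [sup_comm, Coprime.card_sup_of_disjoint hn (disjoint_iff.2 ?_), mul_comm]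
  rw [eq_bot_iff, ← c.H_inf_U]
  exact fun x hx => ⟨hX hx.2, hx.1.1⟩

theorem relIndex_nc : (fix M U ⊔ cen M U).relIndex (hc M U) = Nat.card W₂ ^ Nat.card W₁ := by
  rw [← c.N_facts.2.2.1]
  have h1 := relIndex_mul_relIndex (⊥ : Subgroup G) _ _ bot_le (nc_le_hc c)
  have h2 := relIndex_mul_relIndex (⊥ : Subgroup G) (fix M U) H bot_le inf_le_left
  rw [relIndex_bot_left, relIndex_bot_left, card_sup_cen c inf_le_left, card_sup_cen c le_rfl,
    mul_right_comm] at h1
  rw [relIndex_bot_left, relIndex_bot_left] at h2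
  rw [← h2] at h1
  exact Nat.eq_of_mul_eq_mul_left Nat.card_pos
    (Nat.eq_of_mul_eq_mul_right Nat.card_pos h1)

theorem relIndex_hc : (hc M U).relIndex D = (cen M U).relIndex U := by
  have h1 := relIndex_mul_relIndex (⊥ : Subgroup G) _ _ bot_le (hc_le_D c)
  have h2 := relIndex_mul_relIndex (⊥ : Subgroup G) _ _ bot_le (inf_le_left : cen M U ≤ U)
  rw [relIndex_bot_left, relIndex_bot_left] at h2
  rw [relIndex_bot_left, relIndex_bot_left, card_sup_cen c le_rfl, c.card_D, ← h2, mul_assoc] at h1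
  exact Nat.eq_of_mul_eq_mul_left Nat.card_pos (Nat.eq_of_mul_eq_mul_left Nat.card_pos h1)

theorem two_le_u : 2 ≤ (cen M U).relIndex U := by
  have h0 : (cen M U).relIndex U ≠ 0 := index_ne_zero_of_finite
  have h1 : (cen M U).relIndex U ≠ 1 := fun h => (cen_lt c).not_ge (relIndex_eq_one.1 h)
  omega

theorem big : 4 * Nat.card W₁ ^ 2 + 1 < Nat.card W₂ ^ Nat.card W₁ := by
  have key : ∀ n, 5 ≤ n → 4 * n ^ 2 + 1 < 3 ^ n := by
    intro n hn
    induction n, hn using Nat.le_induction with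
    | base => norm_num
    | succ n hn ih =>
      rw [pow_succ 3 n]
      nlinarith
  have hq := c.three_le_q
  have hp := c.three_le_p
  have hne := c.p_ne_q
  rcases Nat.lt_or_ge (Nat.card W₁) 5 with h | h
  · have hq3 : Nat.card W₁ = 3 := by
      obtain ⟨k, hk⟩ := c.odd_card W₁
      omega
    have hp5 : 5 ≤ Nat.card W₂ := by
      obtain ⟨k, hk⟩ := c.odd_card W₂
      omega
    rw [hq3]
    calc 4 * 3 ^ 2 + 1 < 5 ^ 3 := by norm_num
      _ ≤ Nat.card W₂ ^ 3 := Nat.pow_le_pow_left hp5 3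
  · exact (key _ h).trans_le (Nat.pow_le_pow_left hp _)

theorem commutator_hc {x y : G} (hx : x ∈ hc M U) (hy : y ∈ hc M U) :
    x * y * x⁻¹ * y⁻¹ ∈ fix M U ⊔ cen M U := by
  have hn : cen M U ≤ normalizer ((H : Subgroup G) : Set G) := (cen_le c).trans c.H_normal
  rw [hc, sup_comm] at hx hy
  obtain ⟨a, ha, h, hh, rfl⟩ := Coprime.exists_mul_of_mem_sup hn hx
  obtain ⟨b, hb, k, hk, rfl⟩ := Coprime.exists_mul_of_mem_sup hn hy
  have hah : ∀ z ∈ H, ∀ d ∈ cen M U, Commute z d := fun z hz d hd =>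
    mem_centralizer_iff.1 hd.2 z hz
  have hab : ⁅a, b⁆ ∈ cen M U := by
    rw [commutatorElement_def]
    exact mul_mem (mul_mem (mul_mem ha hb) (inv_mem ha)) (inv_mem hb)
  have hhk : ⁅h, k⁆ ∈ H := TypeP.derived_le _ (commutator_mem_commutator hh hk)
  have e : a * h * (b * k) * (a * h)⁻¹ * (b * k)⁻¹ = ⁅a, b⁆ * ⁅h, k⁆ := by
    calc a * h * (b * k) * (a * h)⁻¹ * (b * k)⁻¹
        = a * (h * b) * (k * h⁻¹ * (a⁻¹ * k⁻¹) * b⁻¹) := by group
      _ = a * (b * h) * (k * h⁻¹ * (k⁻¹ * a⁻¹) * b⁻¹) := by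
          rw [(hah h hh b hb).eq, ← (hah k⁻¹ (inv_mem hk) a⁻¹ (inv_mem ha)).eq]
      _ = a * b * ((h * k * h⁻¹ * k⁻¹) * a⁻¹) * b⁻¹ := by group
      _ = a * b * (a⁻¹ * (h * k * h⁻¹ * k⁻¹)) * b⁻¹ := by
          rw [← commutatorElement_def, (hah _ hhk a⁻¹ (inv_mem ha)).eq]
      _ = a * b * a⁻¹ * (⁅h, k⁆ * b⁻¹) := by rw [commutatorElement_def]; group
      _ = a * b * a⁻¹ * (b⁻¹ * ⁅h, k⁆) := by rw [(hah _ hhk b⁻¹ (inv_mem hb)).eq]
      _ = _ := by rw [commutatorElement_def a b]; group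
  rw [e]
  exact mul_mem (mem_sup_right hab) (mem_sup_left (c.N_facts.1 (commutator_mem_commutator hh hk)))

end

/-! ### Inside `M` -/

section In
variable (c : Ctx M W₁ U W₂)

include c

theorem K_normal : (derivedIn M).Normal := normal_in c.D_normal

theorem K_index : (derivedIn M).index = Nat.card W₁ := isComplIn_relIndex c.typeP.W₁_compl

theorem K_solvable : Group.IsSolvable ↥(derivedIn M) := by
  haveI := c.solvable
  infer_instance

theorem K_lt_top : derivedIn M < ⊤ := lt_top_iff_ne_top.2 fun h => by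
  have := K_index c
  rw [h, index_top] at this
  exact c.q_prime.one_lt.ne this

theorem nil_sub : Group.IsNilpotent ↥((hc M U).subgroupOf M) := by
  haveI := hc_nilpotent c
  exact Group.nilpotent_of_mulEquiv (subgroupOfEquivOfLe (hc_le c)).symm

theorem hc_lt_K : (hc M U).subgroupOf M < derivedIn M := by
  refine lt_of_le_of_ne (subgroupOf_mono M (hc_le_D c)) fun e => ?_
  have h1 : (hc M U).relIndex D = 1 := by
    rw [← relIndex_subgroupOf c.D_le, e, relIndex_self]
  rw [relIndex_hc c] at h1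
  have := two_le_u c
  omega

theorem commutator_K : ⁅derivedIn M, derivedIn M⁆ = (⁅D, D⁆ : Subgroup G).subgroupOf M := by
  apply map_injective (subtype_injective M)
  rw [map_commutator, map_subgroupOf_eq_of_le c.D_le,
    map_subgroupOf_eq_of_le ((TypeP.derived_le _).trans c.D_le)]

/-- Modulo a normal subgroup containing `M''` and `W₂`, nothing outside `M'` centralises anything new. -/
theorem frob {X : Subgroup G} (hX : M ≤ normalizer (X : Set G)) (hd : ⁅D, D⁆ ≤ X) (hXD : X ≤ D) :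
    ∀ k ∈ derivedIn M, k ∉ X.subgroupOf M → ∀ x : ↥M,
      x * k * x⁻¹ * k⁻¹ ∈ X.subgroupOf M → x ∈ derivedIn M := by
  intro k hk hkX x hx
  haveI := normal_in hX
  by_contra hxK
  obtain ⟨t, ht, w, hw, he⟩ := c.typeP.W₁_compl.2.2.2 x x.2
  have hw1 : w ≠ 1 := fun e => hxK (by
    show (x : G) ∈ (D : Subgroup G)
    rw [he, e, mul_one]; exact ht)
  set f := QuotientGroup.mk' (X.subgroupOf M) with hf
  let wM : ↥M := ⟨w, c.W₁_le hw⟩
  let tM : ↥M := ⟨t, c.D_le ht⟩
  have hxe : x = tM * wM := Subtype.ext (by simpa [tM, wM] using he)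
  have e1 : f x * f k = f k * f x := by
    have h1 : f (x * k * x⁻¹ * k⁻¹) = 1 := (QuotientGroup.eq_one_iff _).2 hx
    rw [map_mul, map_mul, map_mul, map_inv, map_inv, mul_inv_eq_one, mul_inv_eq_iff_eq_mul] at h1
    exact h1
  have e2 : f tM * f k = f k * f tM := by
    have h1 : f (tM * k * tM⁻¹ * k⁻¹) = 1 := (QuotientGroup.eq_one_iff _).2 (by
      show (t * (k : G) * t⁻¹ * (k : G)⁻¹) ∈ X
      exact hd (commutator_mem_commutator ht hk))
    rw [map_mul, map_mul, map_mul, map_inv, map_inv, mul_inv_eq_one, mul_inv_eq_iff_eq_mul] at h1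
    exact h1
  have e3 : Commute (f wM) (f k) := by
    rw [hxe, map_mul, mul_assoc, ← mul_assoc (f k), ← e2, mul_assoc (f tM)] at e1
    exact mul_left_cancel e1
  have hfix : ∀ a ∈ zpowers w, a * (k : G) * a⁻¹ * (k : G)⁻¹ ∈ X := by
    rintro _ ⟨i, rfl⟩
    have h1 : f (wM ^ i * k * (wM ^ i)⁻¹ * k⁻¹) = 1 := by
      rw [map_mul, map_mul, map_mul, map_inv, map_inv, map_zpow, (e3.zpow_left i).eq,
        mul_inv_cancel_right, mul_inv_cancel]
    have h2 := (QuotientGroup.eq_one_iff _).1 h1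
    simpa [wM, mem_subgroupOf] using h2
  have hsolv : Group.IsSolvable ↥(zpowers w) := Coprime.isSolvable_zpowers w
  obtain ⟨n, hn, hcen⟩ := Coprime.exists_fixed_mul
    (((zpowers_le.2 (c.W₁_le hw))).trans hX)
    ((c.coprime_D_W₁.symm.coprime_dvd_left (card_dvd_of_le (zpowers_le.2 hw))).coprime_dvd_right
      (card_dvd_of_le hXD))
    (Or.inl hsolv) (k := (k : G)) hfix
  have h3 : n * (k : G) ∈ W₂ := by
    rw [← c.typeP.W₂_centralizer w hw hw1]
    exact ⟨mul_mem (hXD hn) hk, mem_centralizer_singleton_iff.2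
      (mem_centralizer_iff.1 hcen w (mem_zpowers w)).symm⟩
  exact hkX (by
    show (k : G) ∈ X
    simpa using mul_mem (inv_mem hn) (hd (c.W₂_le_derived_two h3)))

end In

section Main
variable [Fintype ↥M] (s : Setup M W₁ U W₂)

include s

/-- (11.3). -/
theorem incoherent_nc :
    ¬ Cfsg.IsCoherent (S ((fix M U ⊔ cen M U).subgroupOf M)) {1}ᶜ (tau M) := by
  have c := ctx_of_setup s
  intro hcoh
  obtain ⟨R, hS⟩ := s.system
  haveI := K_normal c
  haveI := normal_in (hc_normal c)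
  haveI := normal_in (nc_normal c)
  haveI := nil_sub c
  refine s.noncoherent (Cfsg.Agent.S1520.result (derivedIn M) (K_solvable c) (tau M) R hS ⊥
    ((fix M U ⊔ cen M U).subgroupOf M) ((hc M U).subgroupOf M) bot_le
    (subgroupOf_mono M (nc_le_hc c)) (hc_lt_K c).le inferInstance hcoh ?_)
  rw [K_index c, relIndex_subgroupOf (hc_le c), relIndex_nc c]
  exact big c

/-- (11.4). -/
theorem bound (A : Subgroup ↥M) [A.Normal] (hA : A < derivedIn M)
    (hcoh : Cfsg.IsCoherent (S A) {1}ᶜ (tau M)) :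
    A.relIndex (derivedIn M) ≤ 2 * Nat.card W₁ * (cen M U).relIndex U + 1 := by
  have c := ctx_of_setup s
  by_contra hlt
  obtain ⟨R, hS⟩ := s.system
  haveI := K_normal c
  haveI := normal_in (hc_normal c)
  haveI := normal_in (nc_normal c)
  refine incoherent_nc s (Cfsg.Agent.S1519.result (derivedIn M) (K_solvable c) (tau M) R hS A
    ((fix M U ⊔ cen M U).subgroupOf M) ((hc M U).subgroupOf M) ((hc M U).subgroupOf M) hA
    ((subgroupOf_mono M (nc_le_hc c)).trans_lt (hc_lt_K c)) (subgroupOf_mono M (nc_le_hc c))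
    le_rfl (hc_lt_K c).le ?_ hcoh ?_)
  · intro x hx y hy
    show ((x * y * x⁻¹ * y⁻¹ : ↥M) : G) ∈ fix M U ⊔ cen M U
    exact commutator_hc c hx hy
  · have hidx : ((hc M U).subgroupOf M).index = Nat.card W₁ * (cen M U).relIndex U := by
      rw [← K_index c, ← relIndex_hc c, ← relIndex_subgroupOf c.D_le, mul_comm,
        relIndex_mul_index (hc_lt_K c).le]
    rw [hidx, relIndex_self, mul_one, mul_comm 4,
      show (Nat.card W₁ * (cen M U).relIndex U) ^ 2 * 4 = (2 * Nat.card W₁ * (cen M U).relIndex U) ^ 2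
        by ring]
    refine Nat.pow_lt_pow_left ?_ two_ne_zero
    omega

/-- (11.5). -/
theorem derived_two_eq : ⁅D, D⁆ = hc M U := by
  have c := ctx_of_setup s
  have hle : ⁅D, D⁆ ≤ hc M U := by
    rw [hc_eq c, ← c.typeP.fitting_eq]
    exact c.typeP.derived_two_le
  obtain ⟨R, hS⟩ := s.system
  haveI := K_normal c
  haveI := normal_in (hc_normal c)
  set K := derivedIn M
  have hdn : M ≤ normalizer ((⁅D, D⁆ : Subgroup G) : Set G) :=
    (Subgroup.le_normalizer_iff).2 fun m hm x hx => by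
      have hmap : (⁅D, D⁆ : Subgroup G).map (MulAut.conj m).toMonoidHom ≤ ⁅D, D⁆ := by
        rw [Subgroup.map_commutator]
        refine Subgroup.commutator_mono ?_ ?_ <;>
          · rintro _ ⟨y, hy, rfl⟩
            exact ((mem_normalizer_iff.1 (c.D_normal hm)) y).1 hy
      exact hmap (mem_map_of_mem _ hx)
  haveI hn := normal_in hdn
  have hlt : (⁅D, D⁆ : Subgroup G).subgroupOf M < K :=
    (subgroupOf_mono M hle).trans_lt (hc_lt_K c)
  have hcoh := Isometry.KernelCoherence.coherent_base (K_solvable c) hS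
    ((⁅D, D⁆ : Subgroup G).subgroupOf M) hlt (commutator_K c).le
  have hb := bound s _ hlt hcoh
  obtain ⟨m1, -⟩ := Isometry.KernelCoherence.relIndex_modEq_quotient (K_lt_top c)
    (subgroupOf_mono M hle) (hc_lt_K c).le
    (frob c hdn le_rfl (TypeP.derived_le _))
  rw [relIndex_subgroupOf (hc_le c), K_index c] at m1
  rw [relIndex_subgroupOf c.D_le, ← relIndex_mul_relIndex _ _ _ hle (hc_le_D c), relIndex_hc c] at hb
  refine le_antisymm hle (relIndex_eq_one.1 ?_)
  by_contra hne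
  have hodd : Odd ((⁅D, D⁆ : Subgroup G).relIndex (hc M U)) :=
    (c.odd_card _).of_dvd_nat (index_dvd_card _)
  have h2 := Isometry.Layers.two_mul_add_one_le hodd (c.odd_card W₁) hne m1
  have := Nat.mul_le_mul_right ((cen M U).relIndex U) h2
  have := two_le_u c
  nlinarith

/-- `u ≡ 1 (mod q)`, `u` odd, `u ≥ 2q + 1`. -/
theorem u_facts : (cen M U).relIndex U ≡ 1 [MOD Nat.card W₁] ∧ Odd ((cen M U).relIndex U) ∧
    2 * Nat.card W₁ + 1 ≤ (cen M U).relIndex U := by
  have c := ctx_of_setup s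
  haveI := K_normal c
  haveI := normal_in (hc_normal c)
  obtain ⟨-, m2⟩ := Isometry.KernelCoherence.relIndex_modEq_quotient (K_lt_top c) le_rfl (hc_lt_K c).le
    (frob c (hc_normal c) (derived_two_eq s).le (hc_le_D c))
  rw [relIndex_subgroupOf c.D_le, relIndex_hc c, K_index c] at m2
  have hodd : Odd ((cen M U).relIndex U) := (c.odd_card U).of_dvd_nat (index_dvd_card _)
  have h2 := two_le_u c
  exact ⟨m2, hodd, Isometry.Layers.two_mul_add_one_le hodd (c.odd_card W₁) (by omega) m2⟩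

end Main

end Cfsg.Agent.Lib.OddOrder.PF11.Bound
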