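import Cfsg.Agent.Lib.OddOrder.PF11.Eta
import Cfsg.Agent.Lib.Isometry.Iterate

/-!
# Peterfalvi §11: (11.8) — the array of `α = τ (μ₁ - ζ)` is not the principal column

Otherwise `τ (μ_ψ - u ζ) = η_ψ - u X`, so `S(HC)` with the `μ_ψ` is coherent and the coherence spreads
to `S(C)`.
-/

set_option autoImplicit false
set_option linter.style.haveILetI false
set_option linter.unusedSectionVars false

namespace Cfsg.Agent.Lib.OddOrder.PF11.Column

open scoped ComplexConjugate Classical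
open Subgroup
open Cfsg.Agent.Lib
open Cfsg.Agent.Lib.CyclicTI (IsP IsQ)
open Cfsg.Agent.Lib.OddOrder.PF11.Group (Ctx)
open Cfsg.Agent.Lib.OddOrder.PF11.Bound
open Cfsg.Agent.Lib.OddOrder.PF11.Chars
open Cfsg.Agent.Lib.OddOrder.PF11.Tau
open Cfsg.Agent.Lib.OddOrder.PF11.Eta
open Cfsg.Agent.Lib.OddOrder.Interface.PF11 (derivedIn tau Setup)
open Cfsg.Agent.Lib.Isometry.InducedSystem (above theta mem_theta)
open Cfsg.Agent.Lib.Isometry.Inner (gen_of_irr gen_add gen_sub gen_classFun gen_intCast_smul gen_sum)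
open Cfsg.Agent.Lib.Induced.Basic (classInner_add_left classInner_add_right classInner_sub_left
  classInner_sub_right classInner_smul_left classInner_smul_right classInner_conj_symm)
open Cfsg.Agent.Lib.Characters.Basic (classInner_sum_left classInner_sum_right)

universe u

variable {G : Type u} [_root_.Group G] [Fintype G] {M W₁ U W₂ : Subgroup G}

theorem inv_ne_self {ω : ↥(W₁ ⊔ W₂) →* ℂˣ} (hodd : Odd (Nat.card ↥(W₁ ⊔ W₂))) (h : ω⁻¹ = ω) :
    ω = 1 := by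
  refine MonoidHom.ext fun w => ?_
  have h2 : ω w ^ 2 = 1 := by
    have e := DFunLike.congr_fun h w
    rw [MonoidHom.inv_apply] at e
    rw [sq]
    nth_rewrite 1 [← e]
    exact inv_mul_cancel _
  have h3 : ω w ^ Nat.card ↥(W₁ ⊔ W₂) = 1 := by rw [← map_pow, pow_card_eq_one', map_one]
  have h4 : ω w ^ Nat.gcd 2 (Nat.card ↥(W₁ ⊔ W₂)) = 1 := pow_gcd_eq_one.2 ⟨h2, h3⟩
  rw [Nat.coprime_two_left.2 hodd, pow_one] at h4
  rw [h4, MonoidHom.one_apply]

section Facts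
variable [Fintype ↥M] (s : Setup M W₁ U W₂)
  {μ : (↥(W₁ ⊔ W₂) →* ℂˣ) → ↥M → ℂ} (hμ : Mu μ U)
  {η : (↥(W₁ ⊔ W₂) →* ℂˣ) → (G → ℂ)} (hη : Cfsg.IsCyclicTIFamily W₁ W₂ η)
  {ζ : ↥M → ℂ} (hζ : ζ ∈ above (derivedIn M) (hcM M U))

include s hμ hη hζ

theorem exists_G {m : ℕ} (hm : (cen M U).relIndex U = Nat.card W₁ * m + 1) :
    ∃ Gf : G → ℂ, Cfsg.IsGeneralizedCharacter G Gf ∧ coef Gf (η 1) = 0 ∧
      (∀ ω, coef Gf (η ω⁻¹) = coef Gf (η ω)) ∧
      (∀ φ ψ, IsP φ → IsQ ψ → ψ ≠ 1 →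
        tau M (μ (φ * ψ) - μ φ - ((m : ℤ) : ℂ) • ζ) = Gf + η (φ * ψ) - η φ) ∧
      ∀ χ ∈ above (derivedIn M) (hcM M U), Cfsg.classInner Gf (tau M (ζ - χ)) =
        (if ζ = χ then (m : ℂ) else 0) - (m : ℂ) := by
  have c := ctx_of_setup s
  have hW := s.typeP.selfNormalizing
  haveI : Finite (↥(W₁ ⊔ W₂) →* ℂˣ) := CyclicTI.finite_hom
  haveI := K_normal c
  obtain ⟨iζ, dζ, oζ⟩ := mem_hc s hζ
  set f : (↥(W₁ ⊔ W₂) →* ℂˣ) → (↥(W₁ ⊔ W₂) →* ℂˣ) → ↥M → ℂ :=
    fun φ ψ => μ (φ * ψ) - μ φ - ((m : ℤ) : ℂ) • ζ with hf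
  have hfg : ∀ φ ψ, Cfsg.IsGeneralizedCharacter ↥M (f φ ψ) := fun φ ψ =>
    gen_sub (gen_sub (mu_gen s hμ _) (mu_gen s hμ _)) (gen_intCast_smul (gen_of_irr iζ) _)
  have hfs : ∀ φ ψ, IsP φ → IsQ ψ → ψ ≠ 1 → Supp M (f φ ψ) := by
    intro φ ψ hφ hψ hψ1
    refine supp_of s (gen_classFun (hfg φ ψ)) ?_ fun x hx hx1 => ?_
    · simp only [hf, Pi.sub_apply, Pi.smul_apply, smul_eq_mul, mu_deg s hμ hφ hψ hψ1,
        mu_row_one s hμ hφ, dζ, hm]
      push_cast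
      ring
    · have hxK : x ∉ derivedIn M := fun h => hx1 (Subtype.ext (by
        have h2 : (x : G) ∈ ⁅M, M⁆ ⊓ W₁ := ⟨h, hx⟩
        rw [c.D_inf_W₁, mem_bot] at h2
        exact h2))
      simp only [hf, Pi.sub_apply, Pi.smul_apply, smul_eq_mul, mu_W₁ s hμ _ x hx hx1,
        MonoidHom.mul_apply, hψ ⟨(x : G), mem_sup_left hx⟩ hx, mul_one, oζ x hxK]
      ring
  obtain ⟨ψ₀, hψ₀m, hψ₀⟩ : ∃ b ∈ cols W₁ W₂, b ≠ 1 :=
    Finset.exists_mem_ne (by rw [card_cols hW]; exact c.p_prime.one_lt) 1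
  have hψ₀Q := mem_cols.1 hψ₀m
  set Gf : G → ℂ := tau M (f 1 ψ₀) - (η ψ₀ - η 1) with hG
  have hgg : Cfsg.IsGeneralizedCharacter G (tau M (f 1 ψ₀)) :=
    tau_gen s (hfg 1 ψ₀) (hfs 1 ψ₀ CyclicTI.isP_one hψ₀Q hψ₀)
  have hGg : Cfsg.IsGeneralizedCharacter G Gf := gen_sub hgg (gen_sub (eta_gen hη _) (eta_gen hη _))
  have hkey : ∀ φ ψ, IsP φ → IsQ ψ → ψ ≠ 1 → tau M (f φ ψ) = Gf + η (φ * ψ) - η φ := by
    intro φ ψ hφ hψ hψ1
    have e1 : f φ ψ = f 1 ψ₀ + (μ (φ * ψ₀) - μ φ - μ (1 * ψ₀) + μ 1) +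
        (μ (φ * ψ) - μ (φ * ψ₀)) := by
      simp only [hf]; abel
    rw [e1, tau_add, tau_add, four s hμ hη hφ CyclicTI.isP_one hψ₀Q,
      gamma s hμ hη hφ hψ hψ₀Q hψ1 hψ₀, hG, hom_one_mul]
    abel
  refine ⟨Gf, hGg, ?_, fun ω => ?_, hkey, fun χ hχ => ?_⟩
  · refine coef_eq ?_
    rw [hG, classInner_sub_left, classInner_sub_left, hη.orthonormal, hη.orthonormal, if_pos rfl,
      if_neg hψ₀, hη.map_one, tau_inner_one s (gen_classFun (hfg 1 ψ₀))
        (hfs 1 ψ₀ CyclicTI.isP_one hψ₀Q hψ₀), ← hμ.one]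
    simp only [hf, classInner_sub_left, classInner_smul_left, hom_one_mul, mu_inner s hμ,
      if_neg hψ₀]
    rw [← classInner_conj_symm (μ 1) ζ, mu_hc s hμ 1 hζ]
    simp
  · have hζc : Cfsg.conjFun ζ ∈ above (derivedIn M) (hcM M U) :=
      Isometry.InducedSystem.conj_mem _ hζ
    obtain ⟨hDg, hDs, hDperp⟩ := diff_facts s hη hζ hζc
    have hodd := c.odd_card (W₁ ⊔ W₂)
    have e2 : Cfsg.conjFun Gf = Gf + ((m : ℤ) : ℂ) • tau M (ζ - Cfsg.conjFun ζ) := by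
      have e3 : Cfsg.conjFun (f 1 ψ₀) = f 1 ψ₀⁻¹ + ((m : ℤ) : ℂ) • (ζ - Cfsg.conjFun ζ) := by
        have a1 : Cfsg.conjFun (f 1 ψ₀) = Cfsg.conjFun (μ (1 * ψ₀)) - Cfsg.conjFun (μ 1) -
            ((m : ℤ) : ℂ) • Cfsg.conjFun ζ := by
          funext x
          simp [hf, Cfsg.conjFun]
        rw [a1, hμ.conj, hμ.conj, hom_one_mul, inv_one (G := ↥(W₁ ⊔ W₂) →* ℂˣ), smul_sub]
        simp only [hf, hom_one_mul]
        abel
      have a2 : Cfsg.conjFun Gf = Cfsg.conjFun (tau M (f 1 ψ₀)) -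
          (Cfsg.conjFun (η ψ₀) - Cfsg.conjFun (η 1)) := by
        funext x
        simp [hG, Cfsg.conjFun]
      rw [a2, ← tau_conj, e3, tau_add, tau_smul, eta_conj hη hW hodd, eta_conj hη hW hodd,
        inv_one (G := ↥(W₁ ⊔ W₂) →* ℂˣ), hkey 1 ψ₀⁻¹ CyclicTI.isP_one (isQ_inv hψ₀Q) (inv_ne hψ₀),
        hom_one_mul]
      abel
    have e4 := coef_conj hη hW hodd hGg ω
    rw [e2, coef_add hGg (gen_intCast_smul (tau_gen s hDg hDs) _) (eta_gen hη _),
      coef_smul (tau_gen s hDg hDs) (eta_gen hη _),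
      coef_eq (f := tau M (ζ - Cfsg.conjFun ζ)) (n := 0) (by rw [hDperp, Int.cast_zero]),
      mul_zero, add_zero] at e4
    exact e4.symm
  · obtain ⟨hDg, hDs, hDperp⟩ := diff_facts s hη hζ hχ
    have hp : ∀ ω, Cfsg.classInner (η ω) (tau M (ζ - χ)) = 0 := fun ω => by
      rw [← classInner_conj_symm, hDperp, map_zero]
    rw [hG, classInner_sub_left, classInner_sub_left, hp, hp,
      tau_inner s (gen_classFun (hfg 1 ψ₀)) (hfs 1 ψ₀ CyclicTI.isP_one hψ₀Q hψ₀) (gen_classFun hDg)]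
    simp only [hf, classInner_sub_left, classInner_sub_right, classInner_smul_left,
      mu_hc s hμ _ hζ, mu_hc s hμ _ hχ, Isometry.Inner.classInner_irr_eq iζ iζ,
      Isometry.Inner.classInner_irr_eq iζ (mem_hc s hχ).1, if_true]
    split_ifs <;> push_cast <;> ring

/-- `τ (μ_ψ - u ζ)` in terms of `G`. -/
theorem beta_eq {m : ℕ} (hm : (cen M U).relIndex U = Nat.card W₁ * m + 1) {Gf : G → ℂ}
    (hkey : ∀ φ ψ, IsP φ → IsQ ψ → ψ ≠ 1 →
      tau M (μ (φ * ψ) - μ φ - ((m : ℤ) : ℂ) • ζ) = Gf + η (φ * ψ) - η φ)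
    {ψ : ↥(W₁ ⊔ W₂) →* ℂˣ} (hψ : IsQ ψ) (hψ1 : ψ ≠ 1) :
    tau M (muCol M μ ψ - (((cen M U).relIndex U : ℤ) : ℂ) • ζ) =
      ((Nat.card W₁ : ℤ) : ℂ) • Gf + etaCol η ψ - etaCol η 1 + tau M (muCol M μ 1 - ζ) := by
  have hq := card_rows s.typeP.selfNormalizing
  have e : muCol M μ ψ - (((cen M U).relIndex U : ℤ) : ℂ) • ζ =
      (∑ φ ∈ rows W₁ W₂, (μ (φ * ψ) - μ φ - ((m : ℤ) : ℂ) • ζ)) + (muCol M μ 1 - ζ) := by
    rw [Finset.sum_sub_distrib, Finset.sum_sub_distrib, Finset.sum_const, hq, muCol_eq hμ,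
      muCol_eq hμ, Finset.sum_congr rfl (fun φ (_ : φ ∈ rows W₁ W₂) => congrArg μ (hom_mul_one φ)),
      hm]
    funext x
    simp only [Pi.add_apply, Pi.sub_apply, Pi.smul_apply, smul_eq_mul, nsmul_eq_mul, Pi.mul_apply, Pi.natCast_apply]
    push_cast
    ring
  rw [e, tau_add, tau_sum, Finset.sum_congr rfl (fun φ hφ => hkey φ ψ (mem_rows.1 hφ) hψ hψ1),
    Finset.sum_sub_distrib, Finset.sum_add_distrib, Finset.sum_const, hq, etaCol, etaCol,
    Finset.sum_congr rfl (fun φ (_ : φ ∈ rows W₁ W₂) => congrArg η (hom_mul_one φ)),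
    Int.cast_natCast, Nat.cast_smul_eq_nsmul]

variable (hcol : ∀ φ ψ, IsP φ → IsQ ψ →
      coef (tau M (muCol M μ 1 - ζ)) (η (φ * ψ)) = if ψ = 1 then 1 else 0)

include hcol

theorem X_facts :
    Cfsg.IsGeneralizedCharacter G (etaCol η 1 - tau M (muCol M μ 1 - ζ)) ∧
      (∀ ω, Cfsg.classInner (etaCol η 1 - tau M (muCol M μ 1 - ζ)) (η ω) = 0) ∧
      ∀ χ ∈ above (derivedIn M) (hcM M U), ∀ χ' ∈ above (derivedIn M) (hcM M U),
        Cfsg.classInner (etaCol η 1 - tau M (muCol M μ 1 - ζ) - tau M (ζ - χ))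
          (etaCol η 1 - tau M (muCol M μ 1 - ζ) - tau M (ζ - χ')) = if χ = χ' then 1 else 0 := by
  have hW := s.typeP.selfNormalizing
  obtain ⟨hg, hs⟩ := alpha_facts s hμ hζ
  have hcl := gen_classFun hg
  set α := tau M (muCol M μ 1 - ζ) with hα
  have hαg : Cfsg.IsGeneralizedCharacter G α := tau_gen s hg hs
  have hEg := etaCol_gen s hη 1
  refine ⟨gen_sub hEg hαg, fun ω => ?_, fun χ hχ χ' hχ' => ?_⟩
  · obtain ⟨a, b, ha, hb, rfl⟩ := CyclicTI.exists_decomp hW ω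
    rw [classInner_sub_left, coef_spec hEg (eta_gen hη _), coef_spec hαg (eta_gen hη _),
      etaCol_coef s hη ha hb CyclicTI.isQ_one, hcol a b ha hb, sub_self]
  obtain ⟨hDg, hDs, hDperp⟩ := diff_facts s hη hζ hχ
  obtain ⟨hDg', hDs', hDperp'⟩ := diff_facts s hη hζ hχ'
  have hE : ∀ D₀ : G → ℂ, (∀ ω, Cfsg.classInner D₀ (η ω) = 0) →
      Cfsg.classInner (etaCol η 1) D₀ = 0 ∧ Cfsg.classInner D₀ (etaCol η 1) = 0 := by
    intro D₀ h
    refine ⟨?_, ?_⟩
    · rw [etaCol, classInner_sum_left]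
      exact Finset.sum_eq_zero fun φ _ => by rw [← classInner_conj_symm, h, map_zero]
    · rw [etaCol, classInner_sum_right]
      exact Finset.sum_eq_zero fun φ _ => h _
  have hEα : Cfsg.classInner α (etaCol η 1) = (Nat.card W₁ : ℂ) := by
    rw [etaCol, classInner_sum_right, Finset.sum_congr rfl (g := fun _ => (1 : ℂ)) fun φ hφ => by
      rw [coef_spec hαg (eta_gen hη _), hcol φ 1 (mem_rows.1 hφ) CyclicTI.isQ_one, if_pos rfl,
        Int.cast_one]]
    rw [Finset.sum_const, card_rows hW, nsmul_eq_mul, mul_one]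
  have hαD := tau_inner s hcl hs (gen_classFun hDg)
  have hαD' := tau_inner s hcl hs (gen_classFun hDg')
  have hDD := tau_inner s (gen_classFun hDg) hDs (gen_classFun hDg')
  simp only [classInner_sub_left, classInner_sub_right, (hE _ hDperp).1, (hE _ hDperp).2,
    (hE _ hDperp').1, (hE _ hDperp').2, hEα, ← classInner_conj_symm α (etaCol η 1),
    ← classInner_conj_symm α (tau M (ζ - χ)), etaCol_inner s hη CyclicTI.isQ_one CyclicTI.isQ_one]
  rw [hαD, hαD', hDD, tau_inner s hcl hs hcl, alpha_norm s hμ hζ, alpha_diff s hμ hζ hζ hχ,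
    alpha_diff s hμ hζ hζ hχ', diff_inner s hμ hζ hχ hζ hχ', if_pos rfl]
  simp only [map_natCast, map_sub, apply_ite (starRingEnd ℂ), map_one, map_zero, if_true]
  push_cast
  by_cases e1 : ζ = χ <;> by_cases e2 : ζ = χ' <;> by_cases e3 : χ = χ' <;>
    simp_all [eq_comm] <;> ring

omit hcol hζ hη hμ in
theorem card_hc {m : ℕ} (hm : (cen M U).relIndex U = Nat.card W₁ * m + 1) :
    (above (derivedIn M) (hcM M U)).card = m := by
  have c := ctx_of_setup s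
  haveI := K_normal c
  haveI := normal_in (hc_normal c)
  obtain ⟨R, hS⟩ := s.system
  have h := Isometry.InducedSystem.sum_sq_norm (derivedIn M) hS subset_rfl (hcM M U) (hc_lt_K c).le
    (fun _ => Nat.card W₁) (fun _ => 1) (fun φ hφ => (mem_hc s hφ).2.1)
    (fun φ hφ => by rw [Isometry.Inner.classInner_irr_eq (mem_hc s hφ).1 (mem_hc s hφ).1,
      if_pos rfl, Nat.cast_one])
  rw [K_index c, relIndex_subgroupOf c.D_le, relIndex_hc c, hm, Finset.sum_const, nsmul_eq_mul,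
    Nat.cast_one, div_one] at h
  push_cast at h
  have hq : (0 : ℝ) < (Nat.card W₁ : ℝ) := by exact_mod_cast Nat.card_pos
  have : ((above (derivedIn M) (hcM M U)).card : ℝ) = (m : ℝ) :=
    mul_left_cancel₀ (mul_ne_zero hq.ne' hq.ne') (by linarith)
  exact_mod_cast this

/-- In the column case `τ (μ_ψ - u ζ) = η_ψ - u X`. -/
theorem beta_col {ψ : ↥(W₁ ⊔ W₂) →* ℂˣ} (hψ : IsQ ψ) (hψ1 : ψ ≠ 1) :
    tau M (muCol M μ ψ - (((cen M U).relIndex U : ℤ) : ℂ) • ζ) = etaCol η ψ -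
      (((cen M U).relIndex U : ℤ) : ℂ) • (etaCol η 1 - tau M (muCol M μ 1 - ζ)) := by
  have c := ctx_of_setup s
  have hW := s.typeP.selfNormalizing
  have hq3 : (3 : ℤ) ≤ (Nat.card W₁ : ℤ) := by exact_mod_cast c.three_le_q
  obtain ⟨m, hm, hm0⟩ := exists_m s
  obtain ⟨Gf, hGg, hG1, hGsym, hkey, hGD⟩ := exists_G s hμ hη hζ hm
  obtain ⟨hXg, hXperp, hZ⟩ := X_facts s hμ hη hζ hcol
  obtain ⟨iζ, dζ, oζ⟩ := mem_hc s hζ
  set u : ℤ := ((cen M U).relIndex U : ℤ) with hu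
  set q : ℤ := (Nat.card W₁ : ℤ) with hq
  have hu' : u = q * m + 1 := by rw [hu, hq, hm]; push_cast; rfl
  set α := tau M (muCol M μ 1 - ζ) with hα
  set X := etaCol η 1 - α with hX
  obtain ⟨hag, has⟩ := alpha_facts s hμ hζ
  set b₀ := muCol M μ ψ - (u : ℂ) • ζ with hb₀
  have hb₀g : Cfsg.IsGeneralizedCharacter ↥M b₀ :=
    gen_sub (muCol_gen s hμ ψ) (gen_intCast_smul (gen_of_irr iζ) u)
  have hb₀s : Supp M b₀ := supp_of_K s
    (by rw [hb₀, Pi.sub_apply, Pi.smul_apply, muCol_apply_one s hμ hψ hψ1, dζ, hu, smul_eq_mul]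
        push_cast; ring)
    (fun x hx => by rw [hb₀, Pi.sub_apply, Pi.smul_apply, muCol_off s ψ hx, oζ x hx, smul_zero,
      sub_zero])
  set β := tau M b₀ with hβ
  have hβg : Cfsg.IsGeneralizedCharacter G β := tau_gen s hb₀g hb₀s
  have hβeq : β = ((q : ℤ) : ℂ) • Gf + etaCol η ψ - X := by
    rw [hβ, hb₀, hu, beta_eq s hμ hη hζ hm hkey hψ hψ1, hX, hα, hq]
    abel
  set Z : (↥M → ℂ) → G → ℂ := fun χ => X - tau M (ζ - χ) with hZd
  have hZg : ∀ χ ∈ above (derivedIn M) (hcM M U), Cfsg.IsGeneralizedCharacter G (Z χ) := fun χ hχ =>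
    gen_sub hXg (tau_gen s (diff_facts s hη hζ hχ).1 (diff_facts s hη hζ hχ).2.1)
  have hZperp : ∀ χ ∈ above (derivedIn M) (hcM M U), ∀ ω, Cfsg.classInner (Z χ) (η ω) = 0 :=
    fun χ hχ ω => by
      rw [classInner_sub_left, hXperp, (diff_facts s hη hζ hχ).2.2 ω, sub_zero]
  set c' : ℤ := coef Gf X + m with hc'
  set cc : (↥M → ℂ) → ℤ := fun χ => q * c' - if ζ = χ then u else 0 with hcc
  have hZζ : Z ζ = X := by
    rw [hZd]
    simp only [sub_self]
    rw [show tau M (0 : ↥M → ℂ) = 0 from funext tau_one_eq, sub_zero]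
  have hc : ∀ χ ∈ above (derivedIn M) (hcM M U), Cfsg.classInner β (Z χ) = (cc χ : ℂ) := by
    intro χ hχ
    have e1 : Cfsg.classInner (etaCol η ψ) (Z χ) = 0 := by
      rw [etaCol, classInner_sum_left]
      exact Finset.sum_eq_zero fun φ _ => by rw [← classInner_conj_symm, hZperp χ hχ, map_zero]
    have e2 : Cfsg.classInner X (Z χ) = if ζ = χ then 1 else 0 := by
      rw [← hZζ]; exact hZ ζ hζ χ hχ
    rw [hβeq, classInner_sub_left, classInner_add_left, classInner_smul_left, e1, e2, add_zero,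
      classInner_sub_right, coef_spec hGg hXg, hGD χ hχ]
    simp only [hcc, hc', hu']
    split_ifs <;> push_cast <;> ring
  have hn : Cfsg.classInner β β = ((q + u ^ 2 : ℤ) : ℂ) := by
    rw [hβ, tau_inner s (gen_classFun hb₀g) hb₀s (gen_classFun hb₀g), hb₀]
    simp only [classInner_sub_left, classInner_sub_right, classInner_smul_left,
      classInner_smul_right, muCol_hc s hμ ψ hζ, hc_muCol s hμ ψ hζ, muCol_inner s hμ hψ hψ,
      Isometry.Inner.classInner_irr_eq iζ iζ, if_true, map_intCast]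
    rw [hq]
    push_cast
    ring
  set g : (↥(W₁ ⊔ W₂) →* ℂˣ) → (↥(W₁ ⊔ W₂) →* ℂˣ) → ℤ := fun a b => coef Gf (η (a * b)) with hg
  have hco : ∀ a ∈ rows W₁ W₂, ∀ b ∈ cols W₁ W₂,
      coef β (η (a * b)) = q * g a b + if b = ψ then 1 else 0 := by
    intro a ha b hb
    have hXe : coef X (η (a * b)) = 0 := coef_eq (by rw [hXperp, Int.cast_zero])
    rw [hβeq, coef_sub (gen_add (gen_intCast_smul hGg q) (etaCol_gen s hη ψ)) hXg (eta_gen hη _),
      coef_add (gen_intCast_smul hGg q) (etaCol_gen s hη ψ) (eta_gen hη _),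
      coef_smul hGg (eta_gen hη _), etaCol_coef s hη (mem_rows.1 ha) (mem_cols.1 hb) hψ, hXe, sub_zero]
  set S₀ := above (derivedIn M) (hcM M U) with hS₀
  obtain ⟨hle, heq⟩ := bessel_grid hη S₀ Z cc hβg
    (fun χ hχ χ' hχ' hne => by rw [hZd]; exact (hZ χ hχ χ' hχ').trans (if_neg hne))
    (fun χ hχ => by rw [hZd]; exact (hZ χ hχ χ hχ).trans (if_pos rfl)) hZperp hc hn
  rw [Finset.sum_congr rfl fun a ha => Finset.sum_congr rfl fun b hb => by rw [hco a ha b hb]] at hle heq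
  have hcsum : ∑ χ ∈ S₀, cc χ ^ 2 = (m : ℤ) * (q * c') ^ 2 - 2 * u * (q * c') + u ^ 2 := by
    rw [Finset.sum_congr rfl (g := fun χ => (q * c') ^ 2 + if ζ = χ then u ^ 2 - 2 * u * (q * c') else 0)
      fun χ _ => by simp only [hcc]; split_ifs <;> ring, Finset.sum_add_distrib, Finset.sum_ite_eq,
      if_pos hζ, Finset.sum_const, card_hc s hm, nsmul_eq_mul]
    ring
  set t : (↥(W₁ ⊔ W₂) →* ℂˣ) → (↥(W₁ ⊔ W₂) →* ℂˣ) → ℤ := fun a b =>
    (q * g a b + if b = ψ then 1 else 0) ^ 2 - (if b = ψ then 1 else 0) with ht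
  have hesum : ∑ a ∈ rows W₁ W₂, ∑ b ∈ cols W₁ W₂, (if b = ψ then (1 : ℤ) else 0) = q := by
    rw [Finset.sum_congr rfl fun a _ => Finset.sum_ite_eq' (cols W₁ W₂) ψ fun _ => (1 : ℤ),
      if_pos (mem_cols.2 hψ), Finset.sum_const, card_rows hW, hq, nsmul_eq_mul, mul_one]
  have htsum : ∑ a ∈ rows W₁ W₂, ∑ b ∈ cols W₁ W₂, t a b =
      (∑ a ∈ rows W₁ W₂, ∑ b ∈ cols W₁ W₂, (q * g a b + if b = ψ then 1 else 0) ^ 2) - q := by
    nth_rewrite 2 [← hesum]
    rw [← Finset.sum_sub_distrib]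
    exact Finset.sum_congr rfl fun a _ => by rw [← Finset.sum_sub_distrib]
  have ht0 : ∀ a b, 0 ≤ t a b ∧ (t a b = 0 → g a b = 0) := by
    intro a b
    rw [ht]
    dsimp only
    rcases lt_trichotomy (g a b) 0 with h0 | h0 | h0
    · have : q * g a b ≤ -q := by nlinarith
      split_ifs
      · constructor
        · nlinarith
        · intro h; nlinarith
      · constructor
        · nlinarith
        · intro h; nlinarith
    · rw [h0]; split_ifs <;> simp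
    · have : q ≤ q * g a b := by nlinarith
      split_ifs
      · constructor
        · nlinarith
        · intro h; nlinarith
      · constructor
        · nlinarith
        · intro h; nlinarith
  have hTnn : ∀ a ∈ rows W₁ W₂, 0 ≤ ∑ b ∈ cols W₁ W₂, t a b :=
    fun a _ => Finset.sum_nonneg fun b _ => (ht0 a b).1
  have hT0 : 0 ≤ ∑ a ∈ rows W₁ W₂, ∑ b ∈ cols W₁ W₂, t a b := Finset.sum_nonneg hTnn
  have hineq : (∑ a ∈ rows W₁ W₂, ∑ b ∈ cols W₁ W₂, t a b) + (m : ℤ) * (q * c') ^ 2 -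
      2 * u * (q * c') ≤ 0 := by
    rw [htsum]; rw [hcsum] at hle; linarith
  have hcolsum : ∑ a ∈ rows W₁ W₂, g a 1 = c' := by
    have e1 : Cfsg.classInner β α = (u : ℂ) := by
      rw [hβ, hα, tau_inner s (gen_classFun hb₀g) hb₀s (gen_classFun hag), hb₀]
      simp only [classInner_sub_left, classInner_sub_right, classInner_smul_left,
        muCol_hc s hμ ψ hζ, hc_muCol s hμ 1 hζ, muCol_inner s hμ hψ CyclicTI.isQ_one, if_neg hψ1,
        Isometry.Inner.classInner_irr_eq iζ iζ, if_true]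
      ring
    have e2 : Cfsg.classInner β (etaCol η 1) = ((q * ∑ a ∈ rows W₁ W₂, g a 1 : ℤ) : ℂ) := by
      rw [etaCol, classInner_sum_right, Finset.mul_sum, Int.cast_sum]
      refine Finset.sum_congr rfl fun a ha => ?_
      rw [coef_spec hβg (eta_gen hη _), hco a ha 1 (mem_cols.2 CyclicTI.isQ_one),
        if_neg (Ne.symm hψ1), add_zero]
    have e3 : Cfsg.classInner β X = ((q * c' - u : ℤ) : ℂ) := by
      rw [← hZζ, hc ζ hζ, hcc]
      simp
    rw [hX, classInner_sub_right, e2, e1] at e3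
    have e4 : q * (∑ a ∈ rows W₁ W₂, g a 1) - u = q * c' - u := by exact_mod_cast e3
    exact mul_left_cancel₀ (by omega : q ≠ 0) (by linarith)
  have heven : Even c' := by
    rw [← ZMod.intCast_eq_zero_iff_even, ← hcolsum, Int.cast_sum]
    refine Finset.sum_involution (fun a _ => a⁻¹) (fun a _ => ?_) (fun a _ hne h => hne ?_)
      (fun a ha => mem_rows.2 (isP_inv (mem_rows.1 ha))) (fun a _ => inv_inv (G := ↥(W₁ ⊔ W₂) →* ℂˣ) a)
    · simp only [hg, hom_mul_one, hGsym a]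
      exact CharTwo.add_self_eq_zero _
    · simp only [hg, hom_mul_one, inv_ne_self (c.odd_card _) h, hG1, Int.cast_zero]
  have hqm : 3 ≤ q * m := by nlinarith [(by exact_mod_cast hm0 : (1 : ℤ) ≤ m)]
  have hc0 : 0 ≤ c' := by
    by_contra hlt
    push Not at hlt
    have : 1 ≤ -(q * c') := by nlinarith
    have hm0' : (0 : ℤ) ≤ m := Nat.cast_nonneg m
    nlinarith [mul_nonneg hm0' (sq_nonneg (q * c'))]
  have hc3 : c' < 3 := by
    by_contra hlt
    push Not at hlt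
    have h1 : 0 < (m : ℤ) * (q * c') - 2 * u := by nlinarith
    have h2 : 0 < q * c' := by nlinarith
    nlinarith [mul_pos h2 h1]
  have hc2 : c' ≠ 2 := by
    intro e
    obtain ⟨a, ha, hane⟩ : ∃ a ∈ rows W₁ W₂, g a 1 ≠ 0 :=
      Finset.exists_ne_zero_of_sum_ne_zero (by rw [hcolsum, e]; norm_num)
    have ha1 : a ≠ 1 := fun h => hane (by simp only [hg, h, hom_mul_one, hG1])
    have hai : a⁻¹ ∈ rows W₁ W₂ := mem_rows.2 (isP_inv (mem_rows.1 ha))
    have hne : a ≠ a⁻¹ := fun h => ha1 (inv_ne_self (c.odd_card _) h.symm)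
    have hgi : g a⁻¹ 1 = g a 1 := by simp only [hg, hom_mul_one, hGsym a]
    have h1 : ∀ x, g x 1 = g a 1 → q ^ 2 ≤ ∑ b ∈ cols W₁ W₂, t x b := by
      intro x hx
      refine le_trans ?_ (Finset.single_le_sum (fun b _ => (ht0 x b).1) (mem_cols.2 CyclicTI.isQ_one))
      simp only [ht, if_neg (Ne.symm hψ1), hx, add_zero, sub_zero]
      have : 1 ≤ g a 1 ^ 2 := by
        have := sq_pos_of_ne_zero hane
        omega
      nlinarith
    have h2 := Finset.sum_le_sum_of_subset_of_nonneg (f := fun x => ∑ b ∈ cols W₁ W₂, t x b)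
      (s := {a, a⁻¹}) (t := rows W₁ W₂) (Finset.insert_subset ha (Finset.singleton_subset_iff.2 hai))
      (fun x hx _ => hTnn x hx)
    rw [Finset.sum_pair hne] at h2
    have := h1 a rfl
    have := h1 a⁻¹ hgi
    subst u
    rw [e] at hineq
    nlinarith
  have hcz : c' = 0 := by
    obtain ⟨k, hk⟩ := heven
    omega
  have hTz : ∑ a ∈ rows W₁ W₂, ∑ b ∈ cols W₁ W₂, t a b = 0 := by
    refine le_antisymm ?_ hT0
    rw [hcz] at hineq
    linarith
  have hgz : ∀ a ∈ rows W₁ W₂, ∀ b ∈ cols W₁ W₂, g a b = 0 := fun a ha b hb =>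
    (ht0 a b).2 ((Finset.sum_eq_zero_iff_of_nonneg fun b _ => (ht0 a b).1).1
      ((Finset.sum_eq_zero_iff_of_nonneg hTnn).1 hTz a ha) b hb)
  rw [htsum] at hTz
  have hfin := heq (by rw [hcsum, hcz]; linarith)
  rw [hfin, sub_eq_add_neg (etaCol η ψ)]
  congr 1
  · rw [etaCol]
    refine Finset.sum_congr rfl fun a ha => ?_
    rw [Finset.sum_eq_single ψ]
    · rw [hco a ha ψ (mem_cols.2 hψ), hgz a ha ψ (mem_cols.2 hψ), if_pos rfl, mul_zero, zero_add,
        Int.cast_one, one_smul]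
    · intro b hb hne
      rw [hco a ha b hb, hgz a ha b hb, if_neg hne, mul_zero, zero_add, Int.cast_zero, zero_smul]
    · exact fun h => absurd (mem_cols.2 hψ) h
  · rw [Finset.sum_eq_single ζ]
    · rw [hZζ, hcc, hcz]
      simp
    · intro χ _ hne
      rw [hcc, hcz]
      simp [Ne.symm hne]
    · exact fun h => absurd hζ h

omit hcol hζ hη in
theorem muCol_mem {ψ : ↥(W₁ ⊔ W₂) →* ℂˣ} (hψ : IsQ ψ) (hψ1 : ψ ≠ 1) :
    muCol M μ ψ ∈ above (derivedIn M) ((cen M U).subgroupOf M) :=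
  Finset.mem_image_of_mem _ ((mem_theta (derivedIn M)).2
    ⟨hμ.restrict ψ, hμ.restrict_ne ψ hψ hψ1, fun k hk => hμ.cen_ker ψ hψ k hk⟩)

/-- The column case does not occur. -/
theorem no_column : False := by
  have c := ctx_of_setup s
  have hW := s.typeP.selfNormalizing
  haveI : Finite (↥(W₁ ⊔ W₂) →* ℂˣ) := CyclicTI.finite_hom
  haveI := K_normal c
  haveI := normal_in c.C_normal
  obtain ⟨R, hS⟩ := s.system
  obtain ⟨hXg, hXperp, hZ⟩ := X_facts s hμ hη hζ hcol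
  set u : ℤ := ((cen M U).relIndex U : ℤ) with hu
  set X := etaCol η 1 - tau M (muCol M μ 1 - ζ) with hX
  set A₀ := above (derivedIn M) (hcM M U) with hA₀
  set Ms := ((cols W₁ W₂).erase 1).image (muCol M μ) with hMs
  set S₁ := A₀ ∪ Ms with hS₁d
  have hMsmem : ∀ χ ∈ Ms, ∃ ψ, IsQ ψ ∧ ψ ≠ 1 ∧ muCol M μ ψ = χ := fun χ hχ => by
    obtain ⟨ψ, hψ, rfl⟩ := Finset.mem_image.1 hχ
    exact ⟨ψ, mem_cols.1 (Finset.mem_of_mem_erase hψ), Finset.ne_of_mem_erase hψ, rfl⟩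
  have hinj : ∀ ψ ψ', IsQ ψ → IsQ ψ' → muCol M μ ψ = muCol M μ ψ' → ψ = ψ' := by
    intro ψ ψ' h h' e
    by_contra hne
    have h1 := muCol_inner s hμ h h'
    rw [← e, muCol_inner s hμ h h, if_pos rfl, if_neg hne] at h1
    have h2 : Nat.card W₁ = 0 := by exact_mod_cast h1
    exact Nat.card_pos.ne' h2
  have hnotA : ∀ ψ, muCol M μ ψ ∉ A₀ := fun ψ h => by
    have h1 := muCol_hc s hμ ψ h
    rw [Isometry.Inner.classInner_irr_eq (mem_hc s h).1 (mem_hc s h).1, if_pos rfl] at h1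
    exact one_ne_zero h1
  set f : (↥M → ℂ) → (G → ℂ) := fun χ => if χ ∈ A₀ then X - tau M (ζ - χ) else
    if h : ∃ ψ, IsQ ψ ∧ ψ ≠ 1 ∧ muCol M μ ψ = χ then etaCol η h.choose else 0 with hf
  have hfA : ∀ χ ∈ A₀, f χ = X - tau M (ζ - χ) := fun χ h => if_pos h
  have hfM : ∀ ψ, IsQ ψ → ψ ≠ 1 → f (muCol M μ ψ) = etaCol η ψ := by
    intro ψ h h1
    rw [hf]
    have hex : ∃ ψ', IsQ ψ' ∧ ψ' ≠ 1 ∧ muCol M μ ψ' = muCol M μ ψ := ⟨ψ, h, h1, rfl⟩
    simp only [if_neg (hnotA ψ), dif_pos hex]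
    rw [hinj _ ψ hex.choose_spec.1 h hex.choose_spec.2.2]
  have hXcol : ∀ χ ∈ A₀, ∀ ψ, Cfsg.classInner (X - tau M (ζ - χ)) (etaCol η ψ) = 0 := by
    intro χ hχ ψ
    rw [etaCol, classInner_sum_right]
    exact Finset.sum_eq_zero fun φ _ => by
      rw [classInner_sub_left, hXperp, (diff_facts s hη hζ hχ).2.2, sub_zero]
  have hS₁S : (↑S₁ : Set (↥M → ℂ)) ⊆ S (⊥ : Subgroup ↥M) := by
    intro χ hχ
    rcases Finset.mem_union.1 hχ with h | h
    · exact mem_S s h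
    · obtain ⟨ψ, h1, h2, rfl⟩ := hMsmem χ h
      exact mem_S s (muCol_mem s hμ h1 h2)
  have hS₁c : ∀ χ ∈ S₁, Cfsg.conjFun χ ∈ S₁ := by
    intro χ hχ
    rcases Finset.mem_union.1 hχ with h | h
    · exact Finset.mem_union_left _ (Isometry.InducedSystem.conj_mem _ h)
    · obtain ⟨ψ, h1, h2, rfl⟩ := hMsmem χ h
      rw [muCol_conj s hμ]
      exact Finset.mem_union_right _ (Finset.mem_image_of_mem _
        (Finset.mem_erase.2 ⟨inv_ne h2, mem_cols.2 (isQ_inv h1)⟩))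
  have hζ1 : ζ ∈ S₁ := Finset.mem_union_left _ hζ
  have horth : ∀ χ ∈ S₁, ∀ φ ∈ S₁, χ ≠ φ → Cfsg.classInner χ φ = 0 := fun χ hχ φ hφ =>
    hS.orthogonal χ (hS₁S hχ) φ (hS₁S hφ)
  have hcoh : Cfsg.IsCoherent (↑S₁ : Set (↥M → ℂ)) {1}ᶜ (tau M) := by
    refine Isometry.Coherence.coherent_of_images horth
      (fun χ hχ => Isometry.Coherence.sys_ne_zero hS (hS₁S hχ)) f (fun χ hχ => ?_)
      (fun χ hχ φ hφ => ?_) ⟨ζ - Cfsg.conjFun ζ, ?_, ?_⟩ (fun T hT α hα => ?_)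
    · rcases Finset.mem_union.1 hχ with h | h
      · rw [hfA χ h]
        exact gen_sub hXg (tau_gen s (diff_facts s hη hζ h).1 (diff_facts s hη hζ h).2.1)
      · obtain ⟨ψ, h1, h2, rfl⟩ := hMsmem χ h
        rw [hfM ψ h1 h2]
        exact etaCol_gen s hη ψ
    · rcases Finset.mem_union.1 hχ with h | h <;> rcases Finset.mem_union.1 hφ with h' | h'
      · rw [hfA χ h, hfA φ h', hZ χ h φ h',
          Isometry.Inner.classInner_irr_eq (mem_hc s h).1 (mem_hc s h').1]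
      · obtain ⟨ψ, h1, h2, rfl⟩ := hMsmem φ h'
        rw [hfA χ h, hfM ψ h1 h2, hXcol χ h, hc_muCol s hμ ψ h]
      · obtain ⟨ψ, h1, h2, rfl⟩ := hMsmem χ h
        rw [hfA φ h', hfM ψ h1 h2, muCol_hc s hμ ψ h', ← classInner_conj_symm, hXcol φ h', map_zero]
      · obtain ⟨ψ, h1, h2, rfl⟩ := hMsmem χ h
        obtain ⟨ψ', h1', h2', rfl⟩ := hMsmem φ h'
        rw [hfM ψ h1 h2, hfM ψ' h1' h2', etaCol_inner s hη h1 h1', muCol_inner s hμ h1 h1']
    · exact Isometry.Inner.mem_zspanOn_one.2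
        ⟨Isometry.Coherence.zspan_sub (Isometry.Inner.subset_zspan _ hζ1)
          (Isometry.Inner.subset_zspan _ (hS₁c ζ hζ1)), by
          rw [Pi.sub_apply, Isometry.Coherence.sys_conj_one hS (hS₁S hζ1), sub_self]⟩
    · exact sub_ne_zero.2 (hS.conj_ne ζ (hS₁S hζ1)).symm
    · obtain ⟨hα1, hα2⟩ := Isometry.Inner.mem_zspanOn_one.1 hα
      have key : ∃ n : ℤ, T α - tau M α = (n : ℂ) • (T ζ - tau M ζ) ∧
          α 1 = (n : ℂ) * (Nat.card W₁ : ℂ) := by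
        clear hα hα2
        induction hα1 using Submodule.span_induction with
        | mem χ hχ =>
          rcases Finset.mem_union.1 (Finset.mem_coe.1 hχ) with h | h
          · refine ⟨1, ?_, by rw [(mem_hc s h).2.1, Int.cast_one, one_mul]⟩
            rw [Int.cast_one, one_smul, hT χ hχ, hT ζ hζ1, hfA χ h, hfA ζ hζ, tau_sub, tau_sub]
            abel
          · obtain ⟨ψ, h1, h2, rfl⟩ := hMsmem χ h
            refine ⟨u, ?_, by rw [muCol_apply_one s hμ h1 h2, hu]; push_cast; ring⟩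
            have hb := beta_col s hμ hη hζ hcol h1 h2
            rw [tau_sub, tau_smul, ← hu, ← hX, sub_eq_iff_eq_add] at hb
            rw [hT _ hχ, hT ζ hζ1, hfM ψ h1 h2, hfA ζ hζ, tau_sub, hb]
            module
        | zero =>
          refine ⟨0, ?_, by simp⟩
          rw [map_zero, show tau M (0 : ↥M → ℂ) = 0 from funext tau_one_eq]
          simp
        | add x y _ _ hx hy =>
          obtain ⟨n₁, e₁, d₁⟩ := hx
          obtain ⟨n₂, e₂, d₂⟩ := hy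
          refine ⟨n₁ + n₂, ?_, by rw [Pi.add_apply, d₁, d₂]; push_cast; ring⟩
          rw [map_add, tau_add, Int.cast_add, add_smul, ← e₁, ← e₂]
          abel
        | smul k x _ hx =>
          obtain ⟨n, e, d⟩ := hx
          refine ⟨k * n, ?_, by rw [Pi.smul_apply, d, zsmul_eq_mul]; push_cast; ring⟩
          rw [← Int.cast_smul_eq_zsmul ℂ k x, map_smul, tau_smul, ← smul_sub, e, smul_smul,
            Int.cast_mul]
      obtain ⟨n, e, d⟩ := key
      rw [hα2] at d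
      have hn : n = 0 := by
        have : (n : ℂ) = 0 := (mul_eq_zero.1 d.symm).resolve_right
          (Nat.cast_ne_zero.2 Nat.card_pos.ne')
        exact_mod_cast this
      rw [hn, Int.cast_zero, zero_smul, sub_eq_zero] at e
      exact e
  set U' := above (derivedIn M) ((cen M U).subgroupOf M) with hU'
  set d : (↥M → ℂ) → ℕ := fun χ => ⌊(χ 1).re⌋₊ with hd
  set n : (↥M → ℂ) → ℕ := fun χ => ⌊(Cfsg.classInner χ χ).re⌋₊ with hnd
  have hdS : ∀ φ ∈ S (⊥ : Subgroup ↥M), φ 1 = (d φ : ℂ) := by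
    intro φ hφ
    obtain ⟨k, hk⟩ := Characters.Basic.exists_degree (hS.isCharacter φ hφ)
    rw [hd]
    simp only [hk, Complex.natCast_re, Nat.floor_natCast]
  have hnS : ∀ φ ∈ S (⊥ : Subgroup ↥M), Cfsg.classInner φ φ = (n φ : ℂ) := by
    intro φ hφ
    obtain ⟨k, hk⟩ := Characters.Basic.exists_classInner_nat (hS.isCharacter φ hφ) (hS.isCharacter φ hφ)
    rw [hnd]
    simp only [hk, Complex.natCast_re, Nat.floor_natCast]
  have hdζ : d ζ = Nat.card W₁ := by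
    simp only [hd, (mem_hc s hζ).2.1, Complex.natCast_re, Nat.floor_natCast]
  obtain ⟨ψ₀, hψ₀m, hψ₀⟩ : ∃ b ∈ cols W₁ W₂, b ≠ 1 :=
    Finset.exists_mem_ne (by rw [card_cols hW]; exact c.p_prime.one_lt) 1
  have hψ₀Q := mem_cols.1 hψ₀m
  have hsum : (2 * (Nat.card W₁ : ℝ) * ((cen M U).relIndex U : ℝ) ^ 2) ≤
      ∑ ξ ∈ S₁, ((d ξ : ℝ) ^ 2 / (n ξ : ℝ)) := by
    have hterm : ∀ ψ, IsQ ψ → ψ ≠ 1 → ((d (muCol M μ ψ) : ℝ) ^ 2 / (n (muCol M μ ψ) : ℝ)) =
        (Nat.card W₁ : ℝ) * ((cen M U).relIndex U : ℝ) ^ 2 := by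
      intro ψ h h1
      have e1 : d (muCol M μ ψ) = Nat.card W₁ * (cen M U).relIndex U := by
        simp only [hd, muCol_apply_one s hμ h h1, Complex.natCast_re, Nat.floor_natCast]
      have e2 : n (muCol M μ ψ) = Nat.card W₁ := by
        simp only [hnd, muCol_inner s hμ h h, if_true, Complex.natCast_re, Nat.floor_natCast]
      have hq : (Nat.card W₁ : ℝ) ≠ 0 := Nat.cast_ne_zero.2 Nat.card_pos.ne'
      rw [e1, e2]
      push_cast
      field_simp
    have hne : muCol M μ ψ₀ ≠ muCol M μ ψ₀⁻¹ := fun e =>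
      hψ₀ (inv_ne_self (c.odd_card _) (hinj _ _ hψ₀Q (isQ_inv hψ₀Q) e).symm)
    refine le_trans (le_of_eq ?_) (Finset.sum_le_sum_of_subset_of_nonneg
      (s := {muCol M μ ψ₀, muCol M μ ψ₀⁻¹}) ?_ fun ξ _ _ => by positivity)
    · rw [Finset.sum_pair hne, hterm _ hψ₀Q hψ₀, hterm _ (isQ_inv hψ₀Q) (inv_ne hψ₀)]
      ring
    · refine Finset.insert_subset ?_ (Finset.singleton_subset_iff.2 ?_) <;>
        refine Finset.mem_union_right _ (Finset.mem_image_of_mem _ (Finset.mem_erase.2 ?_))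
      · exact ⟨hψ₀, hψ₀m⟩
      · exact ⟨inv_ne hψ₀, mem_cols.2 (isQ_inv hψ₀Q)⟩
  have hqu : Nat.card W₁ < (cen M U).relIndex U := by
    have := (u_facts s).2.2
    omega
  have hext := Isometry.Iterate.extend_many_norm hS d n hdS hnS S₁ hS₁S hS₁c hcoh hζ1 U'
    (fun χ hχ => mem_S s hχ) (fun χ hχ => Isometry.InducedSystem.conj_mem _ hχ) fun φ hφ _ => ?_
  · refine Abelian.incoherent_cen s ?_
    have hsub : S₁ ⊆ U' := Finset.union_subset
      (Isometry.InducedSystem.above_anti _ (Bound.subgroupOf_mono M le_sup_right)) fun χ h => by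
        obtain ⟨ψ, h1, h2, rfl⟩ := hMsmem χ h
        exact muCol_mem s hμ h1 h2
    rw [Finset.union_eq_right.2 hsub, hU', Isometry.InducedSystem.coe_above] at hext
    exact hext
  obtain ⟨θ, hθ, rfl⟩ := Finset.mem_image.1 hφ
  obtain ⟨k, hk0, hk, hk'⟩ := Isometry.InducedSystem.indFun_one (derivedIn M) hθ
  have hdφ : d (Cfsg.indFun (derivedIn M) θ) = Nat.card W₁ * k := by
    simp only [hd, hk', Complex.natCast_re, Nat.floor_natCast, K_index c]
  obtain ⟨hθ1, -, hθ3⟩ := (mem_theta (derivedIn M)).1 hθ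
  have hku : k ≤ (cen M U).relIndex U := by
    have h := deg_le hθ1 hk (((cen M U).subgroupOf M).subgroupOf (derivedIn M))
      (Theta.hcK M U) (fun x hx => (le_sup_right : cen M U ≤ hc M U) hx)
      (fun x _ b hb => (inferInstance : (((cen M U).subgroupOf M).subgroupOf (derivedIn M)).Normal).conj_mem b hb x)
      (fun x hx y hy => ?_) (fun b hb => hθ3 b hb)
    · have hci := (Theta.hcK M U).card_mul_index
      rw [Theta.u_eq_index s, mul_comm] at hci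
      rw [← hci] at h
      exact Nat.le_of_mul_le_mul_right h Nat.card_pos
    · show ((x * y * x⁻¹ * y⁻¹ : ↥(derivedIn M)) : ↥M).1 ∈ cen M U
      have h1 := commutator_hc c (x := Theta.val x) (y := Theta.val y) hx hy
      rwa [Abelian.fix_eq_bot s, bot_sup_eq] at h1
  rw [hdζ, hdφ]
  refine ⟨Dvd.intro _ rfl, lt_of_lt_of_le ?_ hsum⟩
  have hq : (0 : ℝ) < (Nat.card W₁ : ℝ) := by exact_mod_cast Nat.card_pos
  have h1 : (k : ℝ) ≤ ((cen M U).relIndex U : ℝ) := by exact_mod_cast hku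
  have h2 : (Nat.card W₁ : ℝ) < ((cen M U).relIndex U : ℝ) := by exact_mod_cast hqu
  push_cast
  nlinarith [mul_le_mul_of_nonneg_left h1 (mul_nonneg hq.le hq.le),
    mul_lt_mul_of_pos_left h2 (mul_pos hq (hq.trans h2))]

omit hcol in
/-- The array of `α` is constant along the rows, and `p < q`. -/
theorem row_const :
    (∀ φ ψ, IsP φ → IsQ ψ →
        coef (tau M (muCol M μ 1 - ζ)) (η (φ * ψ)) = coef (tau M (muCol M μ 1 - ζ)) (η φ)) ∧
      Nat.card W₂ < Nat.card W₁ :=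
  (alpha_cases s hμ hη hζ).resolve_right fun h => no_column s hμ hη hζ h

end Facts

end Cfsg.Agent.Lib.OddOrder.PF11.Column
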