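import Cfsg.Agent.Lib.OddOrder.PF11.Tau
import Cfsg.Agent.Lib.OddOrder.PF11.Abelian
import Cfsg.Agent.Lib.Isometry.InducedSystem
import Cfsg.Agent.S1492
import Cfsg.Agent.S1513

/-!
# Peterfalvi §11: `S(HC)`, the columns `μ_ψ`, the array of `α = τ (μ₁ - ζ)` and the error term `G`

For `ζ ∈ S(HC)` the array of `α` is constant along the rows (then `|W₂| < |W₁|`) or is the principal
column.  `τ (μ (φψ) - μ φ - m ζ) = G + η (φψ) - η φ` with one symmetric `G`, `u = q m + 1`.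
-/

set_option autoImplicit false
set_option linter.style.haveILetI false
set_option linter.unusedSectionVars false

namespace Cfsg.Agent.Lib.OddOrder.PF11.Eta

open scoped ComplexConjugate Classical
open Subgroup
open Cfsg.Agent.Lib
open Cfsg.Agent.Lib.CyclicTI (IsP IsQ)
open Cfsg.Agent.Lib.OddOrder.PF11.Group (Ctx)
open Cfsg.Agent.Lib.OddOrder.PF11.Bound
open Cfsg.Agent.Lib.OddOrder.PF11.Chars
open Cfsg.Agent.Lib.OddOrder.PF11.Tau
open Cfsg.Agent.Lib.OddOrder.Interface.PF11 (derivedIn tau Setup)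
open Cfsg.Agent.Lib.Isometry.InducedSystem (above theta mem_theta)
open Cfsg.Agent.Lib.Isometry.Inner (gen_of_irr gen_add gen_sub gen_classFun gen_intCast_smul gen_sum)
open Cfsg.Agent.Lib.Induced.Basic (classInner_add_left classInner_add_right classInner_sub_left
  classInner_sub_right classInner_smul_left classInner_smul_right classInner_conj_symm)
open Cfsg.Agent.Lib.Characters.Basic (classInner_sum_left classInner_sum_right)

universe u

variable {G : Type u} [_root_.Group G] [Fintype G] {M W₁ U W₂ : Subgroup G}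

/-- A degree bound from an abelian section: `m |C| ≤ |X|`. -/
theorem deg_le {X : Type u} [_root_.Group X] [Finite X] {θ : X → ℂ} (hθ : Cfsg.IsIrrCharacter X θ)
    {m : ℕ} (hm : θ 1 = (m : ℂ)) (B C : Subgroup X) (hBC : B ≤ C)
    (hBn : ∀ c ∈ C, ∀ b ∈ B, c * b * c⁻¹ ∈ B)
    (hab : ∀ d ∈ C, ∀ c ∈ C, d * c * d⁻¹ * c⁻¹ ∈ B) (hker : ∀ b ∈ B, θ b = θ 1) :
    m * Nat.card C ≤ Nat.card X := by
  have h := Cfsg.Agent.S1492.result θ hθ B C C hBC le_rfl hBn hab hker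
  rw [hm, Complex.norm_natCast] at h
  have h' : (m * Nat.card C) ^ 2 ≤ Nat.card X ^ 2 := by
    have : (((m * Nat.card C) ^ 2 : ℕ) : ℝ) ≤ ((Nat.card X ^ 2 : ℕ) : ℝ) := by
      push_cast
      nlinarith
    exact_mod_cast this
  exact Nat.pow_le_pow_iff_left two_ne_zero |>.1 h'

/-- `HC` inside `M`. -/
abbrev hcM (M U : Subgroup G) : Subgroup ↥M := (hc M U).subgroupOf M

/-! ### Linearity of coefficients -/

section Coef

theorem coef_add {f g χ : G → ℂ} (hf : Cfsg.IsGeneralizedCharacter G f)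
    (hg : Cfsg.IsGeneralizedCharacter G g) (hχ : Cfsg.IsGeneralizedCharacter G χ) :
    coef (f + g) χ = coef f χ + coef g χ :=
  coef_eq (by rw [classInner_add_left, coef_spec hf hχ, coef_spec hg hχ]; push_cast; rfl)

theorem coef_sub {f g χ : G → ℂ} (hf : Cfsg.IsGeneralizedCharacter G f)
    (hg : Cfsg.IsGeneralizedCharacter G g) (hχ : Cfsg.IsGeneralizedCharacter G χ) :
    coef (f - g) χ = coef f χ - coef g χ :=
  coef_eq (by rw [classInner_sub_left, coef_spec hf hχ, coef_spec hg hχ]; push_cast; rfl)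

theorem coef_smul {f χ : G → ℂ} (hf : Cfsg.IsGeneralizedCharacter G f)
    (hχ : Cfsg.IsGeneralizedCharacter G χ) (n : ℤ) : coef ((n : ℂ) • f) χ = n * coef f χ :=
  coef_eq (by rw [classInner_smul_left, coef_spec hf hχ]; push_cast; rfl)

theorem tau_one_eq (x : G) : tau M (0 : ↥M → ℂ) x = 0 := by
  simp [Cfsg.dadeIsometry]

end Coef

/-- The column `μ_ψ` on `M`. -/
noncomputable def muCol (M : Subgroup G) [Fintype ↥M] {W₁ W₂ : Subgroup G}
    (μ : (↥(W₁ ⊔ W₂) →* ℂˣ) → ↥M → ℂ) (ψ : ↥(W₁ ⊔ W₂) →* ℂˣ) : ↥M → ℂ :=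
  Cfsg.indFun (derivedIn M) fun k : ↥(derivedIn M) => μ ψ k

/-- The column of the family on `G`. -/
noncomputable def etaCol (η : (↥(W₁ ⊔ W₂) →* ℂˣ) → (G → ℂ)) (ψ : ↥(W₁ ⊔ W₂) →* ℂˣ) : G → ℂ :=
  ∑ φ ∈ rows W₁ W₂, η (φ * ψ)

theorem hom_mul_one (a : ↥(W₁ ⊔ W₂) →* ℂˣ) : a * 1 = a := MonoidHom.ext fun w => by simp

theorem hom_one_mul (a : ↥(W₁ ⊔ W₂) →* ℂˣ) : (1 : ↥(W₁ ⊔ W₂) →* ℂˣ) * a = a :=
  MonoidHom.ext fun w => by simp

theorem hom_mul_inv (a b : ↥(W₁ ⊔ W₂) →* ℂˣ) : (a * b)⁻¹ = a⁻¹ * b⁻¹ :=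
  MonoidHom.ext fun w => by simp [mul_comm]

theorem isP_inv {φ : ↥(W₁ ⊔ W₂) →* ℂˣ} (h : IsP φ) : IsP φ⁻¹ := fun w hw => by
  rw [MonoidHom.inv_apply, h w hw, inv_one]

theorem isQ_inv {φ : ↥(W₁ ⊔ W₂) →* ℂˣ} (h : IsQ φ) : IsQ φ⁻¹ := fun w hw => by
  rw [MonoidHom.inv_apply, h w hw, inv_one]

theorem inv_ne {φ : ↥(W₁ ⊔ W₂) →* ℂˣ} (h : φ ≠ 1) : φ⁻¹ ≠ 1 :=
  (inv_ne_one (α := ↥(W₁ ⊔ W₂) →* ℂˣ)).2 h

section Facts
variable [Fintype ↥M] (s : Setup M W₁ U W₂)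

include s

theorem u_ne_q : (cen M U).relIndex U ≠ Nat.card W₁ := by
  have h := (u_facts s).2.2
  have := (ctx_of_setup s).three_le_q
  omega

theorem exists_m : ∃ m : ℕ, (cen M U).relIndex U = Nat.card W₁ * m + 1 ∧ 0 < m := by
  obtain ⟨h, -, hle⟩ := u_facts s
  obtain ⟨m, hm⟩ := (Nat.modEq_iff_dvd' (by omega)).1 h.symm
  refine ⟨m, by omega, Nat.pos_of_ne_zero fun h0 => ?_⟩
  rw [h0, mul_zero] at hm
  have := (ctx_of_setup s).three_le_q
  omega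

theorem not_mem_K (w : ↥(W₁ ⊔ W₂)) (h₂ : (w : G) ∉ W₂) :
    (w : G) ∉ ⁅M, M⁆ := by
  intro hm
  have c := ctx_of_setup s
  haveI := c.cyclic_W
  have hn : W₁ ≤ normalizer (W₂ : Set G) := fun a ha => Subgroup.centralizer_le_normalizer _
    (mem_centralizer_iff.2 fun b hb => congrArg Subtype.val
      ((IsCyclic.commGroup (α := ↥(W₁ ⊔ W₂))).mul_comm ⟨b, mem_sup_right hb⟩ ⟨a, mem_sup_left ha⟩))
  obtain ⟨a, ha, b, hb, e⟩ := Coprime.exists_mul_of_mem_sup hn w.2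
  have hbD : b ∈ ⁅M, M⁆ := c.H_le_D (c.W₂_le_H hb)
  have haD : a ∈ ⁅M, M⁆ := by
    have : a = (w : G) * b⁻¹ := by rw [e]; group
    rw [this]
    exact mul_mem hm (inv_mem hbD)
  have : a ∈ ⁅M, M⁆ ⊓ W₁ := ⟨haD, ha⟩
  rw [c.D_inf_W₁, mem_bot] at this
  rw [this, one_mul] at e
  exact h₂ (e ▸ hb)

theorem mem_S {A : Subgroup ↥M} {χ : ↥M → ℂ} (h : χ ∈ above (derivedIn M) A) : χ ∈ S (⊥ : Subgroup ↥M) := by
  show χ ∈ Cfsg.inducedIrrAbove (derivedIn M) ⊥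
  rw [← Isometry.InducedSystem.coe_above]
  exact Finset.mem_coe.2 (Isometry.InducedSystem.above_anti _ bot_le h)

/-- The members of `S(HC)`. -/
theorem mem_hc {χ : ↥M → ℂ} (h : χ ∈ above (derivedIn M) (hcM M U)) :
    Cfsg.IsIrrCharacter ↥M χ ∧ χ 1 = (Nat.card W₁ : ℂ) ∧ (∀ x ∉ derivedIn M, χ x = 0) := by
  have c := ctx_of_setup s
  haveI hKn := K_normal c
  haveI := normal_in (hc_normal c)
  obtain ⟨θ, hθ, rfl⟩ := Finset.mem_image.1 h
  obtain ⟨h1, h2, h3⟩ := (mem_theta (derivedIn M)).1 hθ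
  obtain ⟨m, hm0, hm⟩ := Characters.Basic.exists_degree_pos ⟨θ, h1⟩
  change θ 1 = (m : ℂ) at hm
  have hcom : ∀ d c' : ↥(derivedIn M), d * c' * d⁻¹ * c'⁻¹ ∈ (hcM M U).subgroupOf (derivedIn M) := by
    intro d c'
    show ((d * c' * d⁻¹ * c'⁻¹ : ↥(derivedIn M)) : ↥M).1 ∈ hc M U
    rw [← derived_two_eq s]
    have := commutator_mem_commutator (H₁ := ⁅M, M⁆) (H₂ := ⁅M, M⁆) d.2 c'.2
    rw [commutatorElement_def] at this
    exact this
  have hle := deg_le h1 hm ((hcM M U).subgroupOf (derivedIn M)) ⊤ le_top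
    (fun x _ b hb => (inferInstance : ((hcM M U).subgroupOf (derivedIn M)).Normal).conj_mem b hb x)
    (fun d _ c' _ => hcom d c') (fun b hb => h3 b hb)
  rw [card_top] at hle
  have hm1 : m = 1 := by
    have : 0 < Nat.card ↥(derivedIn M) := Nat.card_pos
    nlinarith
  subst hm1
  have hp := Theta.pLike s
  obtain ⟨hirr, -, -⟩ := Cfsg.Agent.S1513.result (derivedIn M) (W₁.subgroupOf M) (W₂.subgroupOf M)
    hp.inf_eq hp.sup_eq hp.ne₁ hp.cyclic₁ hp.hall hp.ne₂ hp.cyclic₂ hp.le hp.cent hp.odd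
  refine ⟨hirr θ h1 ?_, ?_, fun x hx => Induced.Basic.indFun_eq_zero_of_not_mem_normal _ _ hx⟩
  · by_contra hcon
    push Not at hcon
    have hinv : Theta.Invariant M W₁ θ := fun x hx => hcon x hx
    have := (Theta.invariant_facts s h1 h2 hinv).1
    rw [hm] at this
    have h5 : (1 : ℕ) = (cen M U).relIndex U := by exact_mod_cast this
    have := two_le_u c
    omega
  · rw [Induced.Basic.indFun_one, hm, K_index c, Nat.cast_one, mul_one]

variable {μ : (↥(W₁ ⊔ W₂) →* ℂˣ) → ↥M → ℂ} (hμ : Mu μ U)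

include hμ

theorem mu_ne_hc (ω : ↥(W₁ ⊔ W₂) →* ℂˣ) {χ : ↥M → ℂ} (h : χ ∈ above (derivedIn M) (hcM M U)) :
    μ ω ≠ χ := by
  intro e
  obtain ⟨φ, ψ, hφ, hψ, rfl⟩ := CyclicTI.exists_decomp s.typeP.selfNormalizing ω
  have h1 := congrFun e 1
  rw [(mem_hc s h).2.1] at h1
  by_cases hψ1 : ψ = 1
  · rw [hψ1, hom_mul_one, mu_row_one s hμ hφ] at h1
    have h2 : (1 : ℕ) = Nat.card W₁ := by exact_mod_cast h1
    have := (ctx_of_setup s).three_le_q
    omega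
  · rw [mu_deg s hμ hφ hψ hψ1] at h1
    exact u_ne_q s (by exact_mod_cast h1)

theorem mu_hc (ω : ↥(W₁ ⊔ W₂) →* ℂˣ) {χ : ↥M → ℂ} (h : χ ∈ above (derivedIn M) (hcM M U)) :
    Cfsg.classInner (μ ω) χ = 0 := by
  rw [Isometry.Inner.classInner_irr_eq (hμ.irr ω) (mem_hc s h).1, if_neg (mu_ne_hc s hμ ω h)]

omit s in
theorem muCol_eq (ψ : ↥(W₁ ⊔ W₂) →* ℂˣ) : muCol M μ ψ = ∑ φ ∈ rows W₁ W₂, μ (φ * ψ) := hμ.column ψ

omit s in
theorem muCol_one_eq : muCol M μ 1 = Cfsg.indFun (derivedIn M) (fun _ => 1) := by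
  rw [muCol, hμ.one]

theorem muCol_hc (ψ : ↥(W₁ ⊔ W₂) →* ℂˣ) {χ : ↥M → ℂ} (h : χ ∈ above (derivedIn M) (hcM M U)) :
    Cfsg.classInner (muCol M μ ψ) χ = 0 := by
  rw [muCol_eq hμ, classInner_sum_left]
  exact Finset.sum_eq_zero fun φ _ => mu_hc s hμ _ h

theorem hc_muCol (ψ : ↥(W₁ ⊔ W₂) →* ℂˣ) {χ : ↥M → ℂ} (h : χ ∈ above (derivedIn M) (hcM M U)) :
    Cfsg.classInner χ (muCol M μ ψ) = 0 := by
  rw [← classInner_conj_symm, muCol_hc s hμ ψ h, map_zero]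

theorem mu_muCol {φ ψ ψ' : ↥(W₁ ⊔ W₂) →* ℂˣ} (hφ : IsP φ) (hψ : IsQ ψ) (hψ' : IsQ ψ') :
    Cfsg.classInner (μ (φ * ψ)) (muCol M μ ψ') = if ψ = ψ' then 1 else 0 := by
  rw [muCol_eq hμ, classInner_sum_right, Finset.sum_eq_single φ]
  · rw [Isometry.Inner.classInner_irr_eq (hμ.irr _) (hμ.irr _)]
    by_cases e : ψ = ψ'
    · rw [if_pos e, if_pos (by rw [e])]
    · rw [if_neg e, if_neg fun e' => e (CyclicTI.pair_inj hφ hφ hψ hψ' (hμ.inj e')).2]
  · intro a ha hne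
    rw [Isometry.Inner.classInner_irr_eq (hμ.irr _) (hμ.irr _), if_neg fun e' =>
      hne (CyclicTI.pair_inj hφ (mem_rows.1 ha) hψ hψ' (hμ.inj e')).1.symm]
  · exact fun hh => absurd (mem_rows.2 hφ) hh

theorem muCol_inner {ψ ψ' : ↥(W₁ ⊔ W₂) →* ℂˣ} (hψ : IsQ ψ) (hψ' : IsQ ψ') :
    Cfsg.classInner (muCol M μ ψ) (muCol M μ ψ') = if ψ = ψ' then (Nat.card W₁ : ℂ) else 0 := by
  rw [muCol_eq hμ ψ, classInner_sum_left,
    Finset.sum_congr rfl fun φ hφ => mu_muCol s hμ (mem_rows.1 hφ) hψ hψ', Finset.sum_const,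
    card_rows s.typeP.selfNormalizing]
  split_ifs <;> simp

theorem muCol_gen (ψ : ↥(W₁ ⊔ W₂) →* ℂˣ) : Cfsg.IsGeneralizedCharacter ↥M (muCol M μ ψ) := by
  rw [muCol_eq hμ]
  exact gen_sum _ fun φ _ => mu_gen s hμ _

omit hμ in
theorem muCol_off (ψ : ↥(W₁ ⊔ W₂) →* ℂˣ) {x : ↥M} (hx : x ∉ derivedIn M) : muCol M μ ψ x = 0 := by
  haveI := K_normal (ctx_of_setup s)
  exact Induced.Basic.indFun_eq_zero_of_not_mem_normal _ _ hx

theorem muCol_apply_one {ψ : ↥(W₁ ⊔ W₂) →* ℂˣ} (hψ : IsQ ψ) (h : ψ ≠ 1) :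
    muCol M μ ψ 1 = ((Nat.card W₁ * (cen M U).relIndex U : ℕ) : ℂ) := by
  rw [muCol, Induced.Basic.indFun_one, K_index (ctx_of_setup s)]
  show (Nat.card W₁ : ℂ) * μ ψ 1 = _
  rw [hμ.degree ψ hψ h]
  push_cast
  rfl

theorem muCol_one_apply_one : muCol M μ 1 1 = (Nat.card W₁ : ℂ) := by
  rw [muCol_one_eq hμ, Induced.Basic.indFun_one, K_index (ctx_of_setup s), mul_one]

theorem muCol_conj (ψ : ↥(W₁ ⊔ W₂) →* ℂˣ) : Cfsg.conjFun (muCol M μ ψ) = muCol M μ ψ⁻¹ := by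
  funext x
  show conj (Cfsg.indFun _ _ x) = _
  rw [Induced.Basic.indFun_conj_fun, muCol, ← hμ.conj ψ]
  rfl

variable {η : (↥(W₁ ⊔ W₂) →* ℂˣ) → (G → ℂ)} (hη : Cfsg.IsCyclicTIFamily W₁ W₂ η)

include hη

omit hμ in
theorem etaCol_gen (ψ : ↥(W₁ ⊔ W₂) →* ℂˣ) : Cfsg.IsGeneralizedCharacter G (etaCol η ψ) :=
  gen_sum _ fun φ _ => eta_gen hη _

omit hμ in
theorem etaCol_coef {a b ψ : ↥(W₁ ⊔ W₂) →* ℂˣ} (ha : IsP a) (hb : IsQ b) (hψ : IsQ ψ) :
    coef (etaCol η ψ) (η (a * b)) = if b = ψ then 1 else 0 := by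
  refine coef_eq ?_
  rw [etaCol, classInner_sum_left, Finset.sum_eq_single a]
  · rw [hη.orthonormal]
    by_cases e : b = ψ
    · rw [if_pos e, if_pos (by rw [e])]; norm_num
    · rw [if_neg e, if_neg fun e' => e (CyclicTI.pair_inj ha ha hψ hb e').2.symm]; norm_num
  · intro c' hc' hne
    rw [hη.orthonormal, if_neg fun e' => hne (CyclicTI.pair_inj (mem_rows.1 hc') ha hψ hb e').1]
  · exact fun hh => absurd (mem_rows.2 ha) hh

omit hμ in
theorem etaCol_inner {ψ ψ' : ↥(W₁ ⊔ W₂) →* ℂˣ} (hψ : IsQ ψ) (hψ' : IsQ ψ') :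
    Cfsg.classInner (etaCol η ψ) (etaCol η ψ') = if ψ = ψ' then (Nat.card W₁ : ℂ) else 0 := by
  have h : ∀ φ ∈ rows W₁ W₂, Cfsg.classInner (etaCol η ψ) (η (φ * ψ')) = if ψ = ψ' then 1 else 0 := by
    intro φ hφ
    rw [coef_spec (etaCol_gen s hη ψ) (eta_gen hη _), etaCol_coef s hη (mem_rows.1 hφ) hψ' hψ]
    by_cases e : ψ' = ψ
    · rw [if_pos e, if_pos e.symm, Int.cast_one]
    · rw [if_neg e, if_neg (Ne.symm e), Int.cast_zero]
  rw [show Cfsg.classInner (etaCol η ψ) (etaCol η ψ') = _ from classInner_sum_right _ _ _,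
    Finset.sum_congr rfl h, Finset.sum_const,
    card_rows s.typeP.selfNormalizing]
  split_ifs <;> simp

omit hμ in
/-- Small differences vanishing off `M'` are orthogonal to the family. -/
theorem perp_small {f : ↥M → ℂ} (hf : Cfsg.IsGeneralizedCharacter ↥M f) (h1 : f 1 = 0)
    (hK : ∀ x ∉ derivedIn M, f x = 0) {n : ℤ} (hn : Cfsg.classInner f f = (n : ℂ)) (hn2 : n ≤ 2)
    (ω : ↥(W₁ ⊔ W₂) →* ℂˣ) : Cfsg.classInner (tau M f) (η ω) = 0 := by
  have c := ctx_of_setup s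
  have hs := supp_of_K s h1 hK
  have hcl := gen_classFun hf
  refine orth_small hη s.typeP.selfNormalizing c.three_le_q c.three_le_p (tau_gen s hf hs)
    (fun w h₁ h₂ => ?_) (n := n) ?_ hn2 ω
  · rw [tau_V s hcl w h₁ h₂ (W_le s w.2)]
    exact hK _ (not_mem_K s w h₂)
  · rw [tau_inner s hcl hs hcl, hn]

omit hμ in
theorem diff_facts {χ χ' : ↥M → ℂ} (h : χ ∈ above (derivedIn M) (hcM M U))
    (h' : χ' ∈ above (derivedIn M) (hcM M U)) :
    Cfsg.IsGeneralizedCharacter ↥M (χ - χ') ∧ Supp M (χ - χ') ∧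
      ∀ ω, Cfsg.classInner (tau M (χ - χ')) (η ω) = 0 := by
  obtain ⟨i, d, o⟩ := mem_hc s h
  obtain ⟨i', d', o'⟩ := mem_hc s h'
  have hg := gen_sub (gen_of_irr i) (gen_of_irr i')
  have h1 : (χ - χ') 1 = 0 := by rw [Pi.sub_apply, d, d', sub_self]
  have hK : ∀ x ∉ derivedIn M, (χ - χ') x = 0 := fun x hx => by
    rw [Pi.sub_apply, o x hx, o' x hx, sub_self]
  refine ⟨hg, supp_of_K s h1 hK, fun ω => ?_⟩
  refine perp_small s hη hg h1 hK (n := if χ = χ' then 0 else 2) ?_ (by split_ifs <;> norm_num) ω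
  by_cases e : χ = χ'
  · rw [if_pos e, e, sub_self]
    simp [Cfsg.classInner]
  · rw [if_neg e, classInner_sub_left, classInner_sub_right, classInner_sub_right,
      Isometry.Inner.classInner_irr_eq i i, Isometry.Inner.classInner_irr_eq i i',
      Isometry.Inner.classInner_irr_eq i' i, Isometry.Inner.classInner_irr_eq i' i',
      if_pos rfl, if_pos rfl, if_neg e, if_neg (Ne.symm e)]
    norm_num

omit hη in
theorem diff_inner {χ χ' ζ ζ' : ↥M → ℂ} (h : χ ∈ above (derivedIn M) (hcM M U))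
    (h' : χ' ∈ above (derivedIn M) (hcM M U)) (k : ζ ∈ above (derivedIn M) (hcM M U))
    (k' : ζ' ∈ above (derivedIn M) (hcM M U)) :
    Cfsg.classInner (χ - χ') (ζ - ζ') = (if χ = ζ then 1 else 0) - (if χ = ζ' then 1 else 0) -
      ((if χ' = ζ then 1 else 0) - (if χ' = ζ' then 1 else 0)) := by
  rw [classInner_sub_left, classInner_sub_right, classInner_sub_right,
      Isometry.Inner.classInner_irr_eq (mem_hc s h).1 (mem_hc s k).1,
      Isometry.Inner.classInner_irr_eq (mem_hc s h).1 (mem_hc s k').1,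
      Isometry.Inner.classInner_irr_eq (mem_hc s h').1 (mem_hc s k).1,
      Isometry.Inner.classInner_irr_eq (mem_hc s h').1 (mem_hc s k').1]

variable {ζ : ↥M → ℂ} (hζ : ζ ∈ above (derivedIn M) (hcM M U))

include hζ

omit hη in
theorem alpha_facts : Cfsg.IsGeneralizedCharacter ↥M (muCol M μ 1 - ζ) ∧
    Supp M (muCol M μ 1 - ζ) := by
  obtain ⟨i, d, o⟩ := mem_hc s hζ
  refine ⟨gen_sub (muCol_gen s hμ 1) (gen_of_irr i), supp_of_K s ?_ fun x hx => ?_⟩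
  · rw [Pi.sub_apply, muCol_one_apply_one s hμ, d, sub_self]
  · rw [Pi.sub_apply, muCol_off s 1 hx, o x hx, sub_self]

omit hη in
/-- Inner products of `μ₁ - ζ` with differences in `S(HC)`. -/
theorem alpha_diff {χ χ' : ↥M → ℂ} (h : χ ∈ above (derivedIn M) (hcM M U))
    (h' : χ' ∈ above (derivedIn M) (hcM M U)) :
    Cfsg.classInner (muCol M μ 1 - ζ) (χ - χ') =
      (if ζ = χ' then 1 else 0) - (if ζ = χ then 1 else 0) := by
  rw [classInner_sub_left, classInner_sub_right, classInner_sub_right, muCol_hc s hμ 1 h,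
    muCol_hc s hμ 1 h', Isometry.Inner.classInner_irr_eq (mem_hc s hζ).1 (mem_hc s h).1,
    Isometry.Inner.classInner_irr_eq (mem_hc s hζ).1 (mem_hc s h').1]
  ring

omit hη in
theorem alpha_norm :
    Cfsg.classInner (muCol M μ 1 - ζ) (muCol M μ 1 - ζ) = ((Nat.card W₁ + 1 : ℤ) : ℂ) := by
  rw [classInner_sub_left, classInner_sub_right, classInner_sub_right, muCol_hc s hμ 1 hζ,
    hc_muCol s hμ 1 hζ, muCol_inner s hμ CyclicTI.isQ_one CyclicTI.isQ_one,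
    Isometry.Inner.classInner_irr_eq (mem_hc s hζ).1 (mem_hc s hζ).1, if_pos rfl, if_pos rfl]
  push_cast
  ring

omit hη in
theorem alpha_principal :
    Cfsg.classInner (tau M (muCol M μ 1 - ζ)) (fun _ => (1 : ℂ)) = 1 := by
  obtain ⟨hg, hs⟩ := alpha_facts s hμ hζ
  rw [tau_inner_one s (gen_classFun hg) hs, ← hμ.one, classInner_sub_left,
    ← classInner_conj_symm (μ 1) (muCol M μ 1), ← classInner_conj_symm (μ 1) ζ, mu_hc s hμ 1 hζ,
    map_zero, sub_zero]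
  have := mu_muCol s hμ (φ := 1) (ψ := 1) (ψ' := 1) CyclicTI.isP_one CyclicTI.isQ_one CyclicTI.isQ_one
  rw [hom_one_mul, if_pos rfl] at this
  rw [this, map_one]

/-- The array of `α`: constant along the rows (and then `p < q`), or the principal column. -/
theorem alpha_cases :
    ((∀ φ ψ, IsP φ → IsQ ψ →
        coef (tau M (muCol M μ 1 - ζ)) (η (φ * ψ)) = coef (tau M (muCol M μ 1 - ζ)) (η φ)) ∧
      Nat.card W₂ < Nat.card W₁) ∨
    ∀ φ ψ, IsP φ → IsQ ψ →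
      coef (tau M (muCol M μ 1 - ζ)) (η (φ * ψ)) = if ψ = 1 then 1 else 0 := by
  have c := ctx_of_setup s
  have hW := s.typeP.selfNormalizing
  obtain ⟨hg, hs⟩ := alpha_facts s hμ hζ
  obtain ⟨R, hS⟩ := s.system
  have hζc : Cfsg.conjFun ζ ∈ above (derivedIn M) (hcM M U) :=
    Isometry.InducedSystem.conj_mem _ hζ
  have hcne : Cfsg.conjFun ζ ≠ ζ := hS.conj_ne ζ (mem_S s hζ)
  obtain ⟨hDg, hDs, hDperp⟩ := diff_facts s hη hζ hζc
  have hcl := gen_classFun hg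
  set α := tau M (muCol M μ 1 - ζ) with hα
  set D₀ := tau M (ζ - Cfsg.conjFun ζ) with hD₀
  have hαg : Cfsg.IsGeneralizedCharacter G α := tau_gen s hg hs
  have hD₀g : Cfsg.IsGeneralizedCharacter G D₀ := tau_gen s hDg hDs
  have e1 : Cfsg.classInner α D₀ = -1 := by
    rw [hα, hD₀, tau_inner s hcl hs (gen_classFun hDg), alpha_diff s hμ hζ hζ hζc, if_pos rfl,
      if_neg (Ne.symm hcne), zero_sub]
  have e2 : Cfsg.classInner D₀ D₀ = 2 := by
    rw [hD₀, tau_inner s (gen_classFun hDg) hDs (gen_classFun hDg),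
      diff_inner s hμ hζ hζc hζ hζc, if_pos rfl, if_pos rfl, if_neg hcne, if_neg (Ne.symm hcne)]
    norm_num
  have e3 : Cfsg.classInner α α = ((Nat.card W₁ + 1 : ℤ) : ℂ) := by
    rw [hα, tau_inner s hcl hs hcl, alpha_norm s hμ hζ]
  have hvg : Cfsg.IsGeneralizedCharacter G (((2 : ℤ) : ℂ) • α + D₀) :=
    gen_add (gen_intCast_smul hαg 2) hD₀g
  have hvn : Cfsg.classInner (((2 : ℤ) : ℂ) • α + D₀) (((2 : ℤ) : ℂ) • α + D₀) =
      ((4 * (Nat.card W₁ : ℤ) + 2 : ℤ) : ℂ) := by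
    rw [classInner_add_left, classInner_add_right, classInner_add_right, classInner_smul_left,
      classInner_smul_right, classInner_smul_left, classInner_smul_right, e3, e1, e2,
      ← classInner_conj_symm α D₀, e1]
    simp only [map_intCast, map_neg, map_one]
    push_cast
    ring
  have hb := (bessel_family hη hvg hvn).1
  have hcoef : ∀ φ ψ, coef (((2 : ℤ) : ℂ) • α + D₀) (η (φ * ψ)) = 2 * coef α (η (φ * ψ)) := by
    intro φ ψ
    rw [coef_add (gen_intCast_smul hαg 2) hD₀g (eta_gen hη _), coef_smul hαg (eta_gen hη _),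
      coef_eq (f := D₀) (n := 0) (by rw [hDperp, Int.cast_zero]), add_zero]
  simp only [hcoef, mul_pow, ← Finset.mul_sum] at hb
  have hle : (∑ φ ∈ rows W₁ W₂, ∑ ψ ∈ cols W₁ W₂, coef α (η (φ * ψ)) ^ 2) ≤ (Nat.card W₁ : ℤ) := by
    omega
  have hαV : ∀ w : ↥(W₁ ⊔ W₂), (w : G) ∉ W₁ → (w : G) ∉ W₂ → α w = 0 := by
    intro w h₁ h₂
    rw [hα, tau_V s hcl w h₁ h₂ (W_le s w.2)]
    have hwK : (⟨(w : G), W_le s w.2⟩ : ↥M) ∉ derivedIn M := not_mem_K s w h₂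
    rw [Pi.sub_apply, muCol_off s 1 hwK, (mem_hc s hζ).2.2 _ hwK, sub_self]
  set x : ↥(rows W₁ W₂) → ℤ := fun a => coef α (η a.1) - coef α (η 1) with hx
  set y : ↥(cols W₁ W₂) → ℤ := fun b => coef α (η b.1) with hy
  have hgr : ∀ (a : ↥(rows W₁ W₂)) (b : ↥(cols W₁ W₂)), coef α (η (a.1 * b.1)) = x a + y b :=
    fun a b => grid hη hW hαg hαV (mem_rows.1 a.2) (mem_cols.1 b.2)
  have hsum : ∑ a, ∑ b, (x a + y b) ^ 2 ≤ (Fintype.card ↥(rows W₁ W₂) : ℤ) := by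
    rw [Fintype.card_coe, card_rows hW]
    refine le_of_eq_of_le ?_ hle
    rw [← Finset.sum_coe_sort (rows W₁ W₂)]
    refine Finset.sum_congr rfl fun a _ => ?_
    rw [← Finset.sum_coe_sort (cols W₁ W₂)]
    exact Finset.sum_congr rfl fun b _ => by rw [hgr a b]
  have hκ : 3 ≤ Fintype.card ↥(cols W₁ W₂) := by
    rw [Fintype.card_coe, card_cols hW]; exact c.three_le_p
  let i1 : ↥(rows W₁ W₂) := ⟨1, mem_rows.2 CyclicTI.isP_one⟩
  let j1 : ↥(cols W₁ W₂) := ⟨1, mem_cols.2 CyclicTI.isQ_one⟩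
  have h11 : x i1 + y j1 = 1 := by
    rw [← hgr i1 j1]
    refine coef_eq ?_
    show Cfsg.classInner α (η (1 * 1)) = _
    rw [hom_one_mul, hη.map_one, hα, alpha_principal s hμ hζ, Int.cast_one]
  rcases Grid.small_cases x y hκ hsum with hy' | ⟨l₀, e, he, hform⟩
  · refine Or.inl ⟨fun φ ψ hφ hψ => ?_, ?_⟩
    · have h1 := hgr ⟨φ, mem_rows.2 hφ⟩ ⟨ψ, mem_cols.2 hψ⟩
      have h2 := hgr ⟨φ, mem_rows.2 hφ⟩ j1
      simp only [j1, hom_mul_one] at h2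
      rw [h1, h2, hy' ⟨ψ, mem_cols.2 hψ⟩ j1]
    · have h1 : ∀ b, x i1 + y b = 1 := fun b => by rw [hy' b j1, h11]
      have h2 : (Fintype.card ↥(cols W₁ W₂) : ℤ) ≤ Fintype.card ↥(rows W₁ W₂) := by
        refine le_trans ?_ hsum
        refine le_of_eq_of_le ?_ (Finset.single_le_sum (f := fun a => ∑ b, (x a + y b) ^ 2)
          (fun a _ => Finset.sum_nonneg fun b _ => sq_nonneg _) (Finset.mem_univ i1))
        simp [h1]
      rw [Fintype.card_coe, Fintype.card_coe, card_cols hW, card_rows hW] at h2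
      have := c.p_ne_q
      omega
  · refine Or.inr fun φ ψ hφ hψ => ?_
    have h1 := hgr ⟨φ, mem_rows.2 hφ⟩ ⟨ψ, mem_cols.2 hψ⟩
    have hl : l₀ = j1 ∧ e = 1 := by
      have := hform i1 j1
      rw [h11] at this
      split_ifs at this with hl
      · exact ⟨hl.symm, this.symm⟩
      · omega
    rw [h1, hform, hl.1, hl.2]
    by_cases e1 : ψ = 1
    · rw [if_pos e1, if_pos (Subtype.ext e1)]
    · rw [if_neg e1, if_neg fun e' => e1 (congrArg Subtype.val e')]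

end Facts

end Cfsg.Agent.Lib.OddOrder.PF11.Eta
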