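import Cfsg.Agent.Lib.OddOrder.PF11.NonGalois
import Cfsg.Agent.Lib.BlocksChars5.GagolaQuot.ClassTwo
import Cfsg.Agent.S1502
import Cfsg.Agent.S1519
import Cfsg.Agent.S1521

/-!
# Peterfalvi §11: `U` is cyclic and fixed-point-free on `H` (end of (11.9))

`U` being irreducible on `H`, the group `U / C` is cyclic and semiregular.  If `C ≠ 1` then `S(H C')` is
coherent, hence so is `S(C)`, contrary to (11.3).
-/

set_option autoImplicit false
set_option linter.style.haveILetI false
set_option linter.unusedSectionVars false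

namespace Cfsg.Agent.Lib.OddOrder.PF11.Galois

open Subgroup
open Cfsg.Agent.Lib
open Cfsg.Agent.Lib.OddOrder.Basic
open Cfsg.Agent.Lib.OddOrder.PF11.Group (Ctx)
open Cfsg.Agent.Lib.OddOrder.PF11.Bound
open Cfsg.Agent.Lib.OddOrder.PF11.Structure (conj_mem_of_normalizes conj_commutator_mem)
open Cfsg.Agent.Lib.OddOrder.Interface.PF11 (derivedIn tau Setup)
open scoped commutatorElement

universe u

variable {G : Type u} [_root_.Group G] [Fintype G] {M W₁ U W₂ : Subgroup G}

local notation "H" => Cfsg.fittingHallOf M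

local notation "D" => ⁅M, M⁆

/-- The action of `U` on `H`. -/
noncomputable def act (c : Ctx M W₁ U W₂) : ↥U →* MulAut ↥(Cfsg.fittingHallOf M) :=
  (Cfsg.fittingHallOf M).normalizerMonoidHom.comp (inclusion (c.U_le.trans c.H_normal))

theorem act_apply (c : Ctx M W₁ U W₂) (a : ↥U) (x : ↥(Cfsg.fittingHallOf M)) :
    ((act c a x : ↥(Cfsg.fittingHallOf M)) : G) = (a : G) * x * (a : G)⁻¹ := rfl

theorem act_ker (c : Ctx M W₁ U W₂) : (act c).ker = (cen M U).subgroupOf U := by
  ext a
  simp only [MonoidHom.mem_ker, mem_subgroupOf, mem_inf, SetLike.coe_mem, true_and]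
  constructor
  · intro h
    refine mem_centralizer_iff.2 fun x hx => ?_
    have e : (a : G) * x * (a : G)⁻¹ = x :=
      congrArg Subtype.val (DFunLike.congr_fun h (⟨x, hx⟩ : ↥(Cfsg.fittingHallOf M)))
    calc x * (a : G) = (a : G) * x * (a : G)⁻¹ * a := by rw [e]
      _ = (a : G) * x := by group
  · intro h
    ext x
    show (a : G) * x * (a : G)⁻¹ = x
    rw [← mem_centralizer_iff.1 h x x.2, mul_inv_cancel_right]

/-- A subgroup of `U` normalized by `W₁` has order `1` modulo `q`. -/
theorem card_modEq_one (c : Ctx M W₁ U W₂) {X : Subgroup G} (hXU : X ≤ U)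
    (hW : W₁ ≤ normalizer (X : Set G)) : Nat.card X ≡ 1 [MOD Nat.card W₁] := by
  haveI : Fact (Nat.card W₁).Prime := ⟨c.q_prime⟩
  letI : MulAction ↥W₁ ↥X := MulAction.compHom ↥X (X.normalizerMonoidHom.comp (inclusion hW))
  have hP : IsPGroup (Nat.card W₁) ↥W₁ := IsPGroup.of_card (n := 1) (pow_one _).symm
  have hsmul : ∀ (w : ↥W₁) (x : ↥X), ((w • x : ↥X) : G) = (w : G) * x * (w : G)⁻¹ := fun _ _ => rfl
  have hfix : MulAction.fixedPoints ↥W₁ ↥X = {1} := by
    ext x
    rw [MulAction.mem_fixedPoints, Set.mem_singleton_iff]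
    refine ⟨fun h => ?_, fun h w => Subtype.ext (by rw [hsmul, h]; simp)⟩
    obtain ⟨w, hw, hw1⟩ : ∃ w ∈ W₁, w ≠ 1 := by
      by_contra hall
      push Not at hall
      exact c.W₁_ne (eq_bot_iff.2 fun w hw => mem_bot.2 (hall w hw))
    have e := congrArg Subtype.val (h ⟨w, hw⟩)
    rw [hsmul, mul_inv_eq_iff_eq_mul] at e
    exact Subtype.ext (c.fpf hw hw1 (hXU x.2) e)
  have h := hP.card_modEq_card_fixedPoints ↥X
  rw [hfix] at h
  simpa using h

section Facts
variable [Fintype ↥M] (s : Setup M W₁ U W₂)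

include s

/-- `U` is irreducible on `H`. -/
theorem irreducible {X : Subgroup G} (hX : X ≤ H) (hXU : U ≤ normalizer (X : Set G)) :
    X = ⊥ ∨ X = H := by
  obtain ⟨μ, hμ⟩ := Chars.exists_mu s
  have c := ctx_of_setup s
  obtain ⟨η, hη⟩ := Cfsg.Agent.S1502.result W₁ W₂ s.typeP.selfNormalizing (c.odd_card _)
  exact NonGalois.irreducible s hμ hη hX hXU

/-- Outside `C`, elements of `U` fix only `1` in `H`. -/
theorem free_mod {x : G} (hx : x ∈ U) (hxC : x ∉ cen M U) : H ⊓ centralizer ({x} : Set G) = ⊥ := by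
  have c := ctx_of_setup s
  refine (irreducible s (X := H ⊓ centralizer ({x} : Set G)) inf_le_left ?_).resolve_right fun h => ?_
  · rw [Subgroup.le_normalizer_iff]
    intro b hb y hy
    refine ⟨conj_mem_of_normalizes (c.U_le.trans c.H_normal) hb hy.1,
      mem_centralizer_singleton_iff.2 ?_⟩
    have hc0 : x⁻¹ * (b⁻¹ * x * b) ∈ cen M U := by
      rw [Structure.cen_eq s]
      have := commutator_mem_commutator (inv_mem hx) (inv_mem hb)
      rw [commutatorElement_def] at this
      simpa [mul_assoc] using this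
    have h1 : y * x = x * y := mem_centralizer_singleton_iff.1 hy.2
    have h2 := mem_centralizer_iff.1 hc0.2 y hy.1
    have key : y * (b⁻¹ * x * b) = (b⁻¹ * x * b) * y := by
      calc y * (b⁻¹ * x * b) = (y * x) * (x⁻¹ * (b⁻¹ * x * b)) := by group
        _ = x * (y * (x⁻¹ * (b⁻¹ * x * b))) := by rw [h1]; group
        _ = (b⁻¹ * x * b) * y := by rw [h2]; group
    calc b * y * b⁻¹ * x = b * (y * (b⁻¹ * x * b)) * b⁻¹ := by group
      _ = x * (b * y * b⁻¹) := by rw [key]; group
  · exact hxC ⟨hx, mem_centralizer_iff.2 fun y hy =>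
      mem_centralizer_singleton_iff.1 (h.ge hy).2⟩

/-- `U / C` is cyclic. -/
theorem cyclic_range : IsCyclic ↥(act (ctx_of_setup s)).range := by
  classical
  have c := ctx_of_setup s
  letI : CommGroup ↥(H : Subgroup G) := { (inferInstance : _root_.Group ↥(H : Subgroup G)) with
    mul_comm := fun a b => Subtype.ext (Abelian.H_comm s a.2 b.2) }
  haveI : Nontrivial ↥(H : Subgroup G) := by
    refine Finite.one_lt_card_iff_nontrivial.1 ?_
    rw [Abelian.H_card s]
    exact Nat.one_lt_pow c.q_prime.ne_zero c.p_prime.one_lt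
  letI : MulDistribMulAction ↥(act c).range ↥(H : Subgroup G) :=
    MulDistribMulAction.compHom _ (act c).range.subtype
  refine BlocksChars5.GagolaQuot.isCyclic_of_fixedPointFree (V := ↥(H : Subgroup G)) (fun x y => ?_)
    fun g v hv hgv => ?_
  · obtain ⟨_, a, rfl⟩ := x
    obtain ⟨_, b, rfl⟩ := y
    refine Subtype.ext ?_
    show act c a * act c b = act c b * act c a
    rw [← commutatorElement_eq_one_iff_mul_comm, ← map_commutatorElement, ← MonoidHom.mem_ker,
      act_ker, mem_subgroupOf, Structure.cen_eq s]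
    exact commutator_mem_commutator a.2 b.2
  · obtain ⟨_, a, rfl⟩ := g
    refine Subtype.ext ?_
    show act c a = 1
    rw [← MonoidHom.mem_ker, act_ker]
    show (a : G) ∈ cen M U
    by_contra ha
    refine hv (Subtype.ext ?_)
    have e : (a : G) * v * (a : G)⁻¹ = v := congrArg Subtype.val hgv
    have h : (v : G) ∈ H ⊓ centralizer ({(a : G)} : Set G) :=
      ⟨v.2, mem_centralizer_singleton_iff.2 (mul_inv_eq_iff_eq_mul.1 e).symm⟩
    rw [free_mod s a.2 ha, mem_bot] at h
    exact h

theorem card_range : Nat.card ↥(act (ctx_of_setup s)).range = (cen M U).relIndex U := by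
  rw [← Subgroup.index_ker, act_ker]
  rfl

/-- Without a normal subgroup strictly between `H C` and `M'`, the order of `U / C` is prime. -/
theorem u_prime
    (hno : ¬ ∃ N : Subgroup ↥M, N.Normal ∧ (hc M U).subgroupOf M < N ∧ N < derivedIn M) :
    ((cen M U).relIndex U).Prime := by
  classical
  have c := ctx_of_setup s
  haveI := K_normal c
  haveI := normal_in (hc_normal c)
  obtain ⟨r, hr, hrd⟩ := Nat.exists_prime_and_dvd
    (fun h : (cen M U).relIndex U = 1 => by have := two_le_u c; omega)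
  haveI : Fact r.Prime := ⟨hr⟩
  haveI := cyclic_range s
  set f := act c with hf
  have hker : ∀ a : ↥U, f a = 1 ↔ (a : G) ∈ cen M U := fun a => by
    rw [← MonoidHom.mem_ker, hf, act_ker, mem_subgroupOf]
  have hhcU : ∀ a : G, a ∈ U → a ∈ hc M U → a ∈ cen M U := by
    intro a ha hahc
    have hcH : cen M U ≤ normalizer ((H : Subgroup G) : Set G) := (Bound.cen_le c).trans c.H_normal
    rw [hc, sup_comm] at hahc
    obtain ⟨b, hb, h, hh, e⟩ := Coprime.exists_mul_of_mem_sup hcH hahc
    have h1 : h ∈ H ⊓ U := ⟨hh, by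
      rw [eq_inv_mul_of_mul_eq e.symm]; exact U.mul_mem (U.inv_mem hb.1) ha⟩
    rw [c.H_inf_U, mem_bot] at h1
    rw [e, h1, mul_one]; exact hb
  set q₀ := QuotientGroup.mk' ((hc M U).subgroupOf M) with hq₀
  have hcomm : ∀ x ∈ derivedIn M, ∀ y ∈ derivedIn M, Commute (q₀ x) (q₀ y) := fun x hx y hy => by
    show q₀ x * q₀ y = q₀ y * q₀ x
    rw [← commutatorElement_eq_one_iff_mul_comm, ← map_commutatorElement]
    refine (QuotientGroup.eq_one_iff _).2 ?_
    show (((⁅x, y⁆ : ↥M)) : G) ∈ hc M U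
    rw [← derived_two_eq s]
    simpa [commutatorElement_def] using commutator_mem_commutator (H₁ := D) (H₂ := D) hx hy
  let N : Subgroup ↥M :=
    { carrier := {x | x ∈ derivedIn M ∧ x ^ r ∈ (hc M U).subgroupOf M}
      one_mem' := ⟨one_mem _, by rw [one_pow]; exact one_mem _⟩
      mul_mem' := fun {x y} hx hy => ⟨mul_mem hx.1 hy.1, (QuotientGroup.eq_one_iff _).1 (by
        show q₀ ((x * y) ^ r) = 1
        rw [map_pow, map_mul, (hcomm x hx.1 y hy.1).mul_pow, ← map_pow, ← map_pow,
          show q₀ (x ^ r) = 1 from (QuotientGroup.eq_one_iff _).2 hx.2,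
          show q₀ (y ^ r) = 1 from (QuotientGroup.eq_one_iff _).2 hy.2, one_mul])⟩
      inv_mem' := fun {x} hx => ⟨inv_mem hx.1, by rw [inv_pow]; exact inv_mem hx.2⟩ }
  haveI hN : N.Normal := ⟨fun x hx g => ⟨Subgroup.Normal.conj_mem inferInstance x hx.1 g, by
    rw [conj_pow]; exact Subgroup.Normal.conj_mem inferInstance _ hx.2 g⟩⟩
  obtain ⟨⟨_, a, rfl⟩, ha⟩ := exists_prime_orderOf_dvd_card' (G := ↥f.range) r
    (by rw [card_range s]; exact hrd)
  have har : (f a) ^ r = 1 := by
    have := congrArg Subtype.val (ha ▸ pow_orderOf_eq_one (⟨f a, a, rfl⟩ : ↥f.range) :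
      (⟨f a, a, rfl⟩ : ↥f.range) ^ r = 1)
    simpa using this
  have haC : (a : G) ∉ cen M U := fun h => by
    have e : (⟨f a, a, rfl⟩ : ↥f.range) = 1 := Subtype.ext ((hker a).2 h)
    rw [e, orderOf_one] at ha
    exact hr.one_lt.ne ha
  let aM : ↥M := ⟨a, c.U_le a.2⟩
  have haN : aM ∈ N := ⟨c.U_le_D a.2, by
    show (a : G) ^ r ∈ hc M U
    have h := (hker (a ^ r)).1 (by rw [map_pow]; exact har)
    exact mem_sup_right (by simpa using h)⟩
  have hlt : (hc M U).subgroupOf M < N := lt_of_le_of_ne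
    (fun x hx => ⟨(hc_lt_K c).le hx, pow_mem hx _⟩)
    fun e => haC (hhcU a a.2 (e.ge haN))
  have hNK : N = derivedIn M := by
    by_contra hne
    exact hno ⟨N, hN, hlt, lt_of_le_of_ne (fun x hx => hx.1) hne⟩
  obtain ⟨⟨_, g, rfl⟩, hg⟩ := IsCyclic.exists_generator (α := ↥f.range)
  have hgN : (⟨(g : G), c.U_le g.2⟩ : ↥M) ∈ N := hNK.ge (c.U_le_D g.2)
  have hgr : (⟨f g, g, rfl⟩ : ↥f.range) ^ r = 1 := by
    refine Subtype.ext ?_
    show f g ^ r = 1
    rw [← map_pow, hker]
    exact hhcU _ (by simpa using pow_mem g.2 r) (show (g : G) ^ r ∈ hc M U from hgN.2)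
  have hdvd := orderOf_dvd_of_pow_eq_one hgr
  rw [orderOf_eq_card_of_forall_mem_zpowers hg, card_range s] at hdvd
  rw [Nat.dvd_antisymm hdvd hrd]
  exact hr

/-- `C_U(H) = 1`. -/
theorem cen_eq_bot : cen M U = ⊥ := by
  classical
  by_contra hne
  have c := ctx_of_setup s
  obtain ⟨R, hS⟩ := s.system
  haveI := K_normal c
  haveI := normal_in (hc_normal c)
  haveI := normal_in c.C_normal
  set C := cen M U with hC
  set C' : Subgroup G := ⁅C, C⁆ with hC'
  have hC'le : C' ≤ C := TypeP.derived_le C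
  have hC'n : M ≤ normalizer (C' : Set G) := (Subgroup.le_normalizer_iff).2 fun m hm =>
    conj_commutator_mem (fun x hx => conj_mem_of_normalizes c.C_normal hm hx)
      (fun x hx => conj_mem_of_normalizes c.C_normal hm hx)
  have hC'lt : C' < C := by
    refine lt_of_le_of_ne hC'le fun e => ?_
    haveI : Group.IsSolvable ↥C := by
      haveI := c.U_solvable
      exact Group.isSolvable_of_isSolvable_injective (f := inclusion (inf_le_left : C ≤ U)) (inclusion_injective _)
    haveI : Nontrivial ↥C := (nontrivial_iff_ne_bot C).2 hne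
    have h := Group.IsSolvable.commutator_lt_top_of_nontrivial (G := ↥C)
    refine h.ne (map_injective C.subtype_injective ?_)
    rw [_root_.commutator_def, Subgroup.map_commutator, ← MonoidHom.range_eq_map, range_subtype]
    exact e
  have hUC : C' ≤ U := hC'le.trans inf_le_left
  set c' := C'.relIndex C with hc'
  have hc'q : 2 * Nat.card W₁ + 1 ≤ c' := by
    have h1 := card_modEq_one c hUC (c.W₁_le.trans hC'n)
    have h2 := card_modEq_one c (inf_le_left : C ≤ U) (c.W₁_le.trans c.C_normal)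
    have h3 := relIndex_mul_relIndex (⊥ : Subgroup G) C' C bot_le hC'le
    rw [relIndex_bot_left, relIndex_bot_left] at h3
    refine Isometry.Layers.two_mul_add_one_le ((c.odd_card C).of_dvd_nat (index_dvd_card _))
      (c.odd_card W₁) (fun h => hC'lt.not_ge (relIndex_eq_one.1 h)) ?_
    have h4 := h1.mul_right c'
    rw [one_mul, h3] at h4
    exact h4.symm.trans h2
  set N : Subgroup G := H ⊔ C' with hN
  have hNn : M ≤ normalizer (N : Set G) := Coprime.le_normalizer_sup c.H_normal hC'n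
  have hNhc : N ≤ hc M U := sup_le_sup_left hC'le _
  haveI := normal_in hNn
  have hcardN : Nat.card N = Nat.card H * Nat.card C' := by
    rw [hN, sup_comm, Coprime.card_sup_of_disjoint ((hUC.trans c.U_le).trans c.H_normal)
      (disjoint_iff.2 ?_), mul_comm]
    rw [eq_bot_iff, ← c.H_inf_U]
    exact fun x hx => ⟨hx.2, hUC hx.1⟩
  have hNidx : N.relIndex (hc M U) = c' := by
    have h1 := relIndex_mul_relIndex (⊥ : Subgroup G) _ _ bot_le hNhc
    have h3 := relIndex_mul_relIndex (⊥ : Subgroup G) C' C bot_le hC'le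
    rw [relIndex_bot_left, relIndex_bot_left] at h1 h3
    rw [hcardN, card_sup_cen c le_rfl, ← h3, mul_assoc] at h1
    exact Nat.eq_of_mul_eq_mul_left Nat.card_pos (Nat.eq_of_mul_eq_mul_left Nat.card_pos h1)
  have hNK : N.subgroupOf M ≤ derivedIn M :=
    Bound.subgroupOf_mono M (hNhc.trans (hc_le_D c))
  have hrel : (N.subgroupOf M).relIndex (derivedIn M) = c' * (cen M U).relIndex U := by
    rw [relIndex_subgroupOf c.D_le, ← relIndex_mul_relIndex _ _ _ hNhc (hc_le_D c), hNidx,
      relIndex_hc c]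
  have hH₁ : (hc M U).subgroupOf M = ⁅derivedIn M, derivedIn M⁆ ⊔ N.subgroupOf M := by
    rw [commutator_K c, derived_two_eq s, sup_eq_left.2 (Bound.subgroupOf_mono M hNhc)]
  haveI : ((N.subgroupOf M).subgroupOf (derivedIn M)).Normal := inferInstance
  have hnil : Group.IsNilpotent (↥(derivedIn M) ⧸ (N.subgroupOf M).subgroupOf (derivedIn M)) := by
    haveI := c.typeP.U_nilpotent
    let j : ↥U →* ↥(derivedIn M) :=
      MonoidHom.mk' (fun a => ⟨⟨a, c.U_le a.2⟩, c.U_le_D a.2⟩) fun _ _ => rfl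
    refine Group.nilpotent_of_surjective ((QuotientGroup.mk' _).comp j) fun y => ?_
    obtain ⟨k, rfl⟩ := QuotientGroup.mk'_surjective _ y
    obtain ⟨h, hh, a, ha, e⟩ := c.typeP.U_compl.2.2.2 (Theta.val k) k.2
    refine ⟨⟨a, ha⟩, ?_⟩
    show QuotientGroup.mk' _ (j ⟨a, ha⟩) = QuotientGroup.mk' _ k
    refine QuotientGroup.eq.2 ?_
    show a⁻¹ * Theta.val k ∈ N
    rw [e]
    have : a⁻¹ * h * a ∈ H := by
      have := conj_mem_of_normalizes (c.U_le.trans c.H_normal) (inv_mem ha) hh
      simpa using this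
    simpa [mul_assoc] using mem_sup_left (T := C') this
  -- `S (H C')` is coherent
  have hcoh : Cfsg.IsCoherent (S (N.subgroupOf M)) {1}ᶜ (tau M) := by
    refine Cfsg.Agent.S1521.result (derivedIn M) (K_solvable c) (tau M) R hS (c.odd_card M)
      (N.subgroupOf M) hNK hnil ((hc M U).subgroupOf M) hH₁ (hc_lt_K c) (K_lt_top c)
      (frob c (hc_normal c) (derived_two_eq s).le (hc_le_D c)) ?_
    by_cases hno : ∃ N' : Subgroup ↥M, N'.Normal ∧ (hc M U).subgroupOf M < N' ∧ N' < derivedIn M
    · exact Or.inl hno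
    refine Or.inr (Or.inr ?_)
    by_cases hpp : ∃ p m : ℕ, p.Prime ∧ (N.subgroupOf M).relIndex (derivedIn M) = p ^ m
    swap
    · exact Or.inl hpp
    refine Or.inr (Or.inr ?_)
    obtain ⟨p, m, hp, hpm⟩ := hpp
    have hu := u_prime s hno
    have hpu : (cen M U).relIndex U = p :=
      (Nat.prime_dvd_prime_iff_eq hu hp).1
        (hu.dvd_of_dvd_pow (n := m) (hpm ▸ hrel ▸ dvd_mul_left _ _))
    refine ⟨p, m, hp, hpm, ?_⟩
    rw [K_index c, ← hpu]
    exact (Nat.modEq_iff_dvd' (by have := two_le_u c; omega)).1 (u_facts s).1.symm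
  -- hence `S (C')` is
  haveI := normal_in hC'n
  have hsub : C'.subgroupOf M ≤ (hc M U).subgroupOf M :=
    Bound.subgroupOf_mono M (hC'le.trans le_sup_right)
  have hcoh' := Cfsg.Agent.S1519.result (derivedIn M) (K_solvable c) (tau M) R hS (N.subgroupOf M)
    (C'.subgroupOf M) ((hc M U).subgroupOf M) ((hc M U).subgroupOf M)
    ((Bound.subgroupOf_mono M hNhc).trans_lt (hc_lt_K c)) (hsub.trans_lt (hc_lt_K c)) hsub le_rfl
    (hc_lt_K c).le ?_ hcoh ?_
  · refine Abelian.incoherent_cen s ?_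
    have hlt : (cen M U).subgroupOf M < derivedIn M :=
      (Bound.subgroupOf_mono M le_sup_right).trans_lt (hc_lt_K c)
    refine Isometry.InducedSystem.coherent_mono hcoh' ?_ ?_
    · intro x hx
      rw [S, ← Isometry.InducedSystem.coe_above] at hx
      rw [← Isometry.InducedSystem.coe_above]
      exact Finset.mem_coe.2 (Isometry.InducedSystem.above_anti _
        (Bound.subgroupOf_mono M hC'le) (Finset.mem_coe.1 hx))
    · rw [S, ← Isometry.InducedSystem.coe_above]
      exact Isometry.InducedSystem.exists_ne_zero (derivedIn M) hS subset_rfl (K_solvable c) _ hlt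
  · intro x hx y hy
    show ((x * y * x⁻¹ * y⁻¹ : ↥M) : G) ∈ C'
    have hn : C ≤ normalizer ((H : Subgroup G) : Set G) := (Bound.cen_le c).trans c.H_normal
    have hx' : (x : G) ∈ C ⊔ H := by rw [sup_comm]; exact hx
    have hy' : (y : G) ∈ C ⊔ H := by rw [sup_comm]; exact hy
    obtain ⟨a, ha, h, hh, ex⟩ := Coprime.exists_mul_of_mem_sup hn hx'
    obtain ⟨b, hb, k, hk, ey⟩ := Coprime.exists_mul_of_mem_sup hn hy'
    push_cast
    rw [ex, ey]
    have c1 : h * b = b * h := mem_centralizer_iff.1 hb.2 h hh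
    have c2 : k * a = a * k := mem_centralizer_iff.1 ha.2 k hk
    have c3 : h * k = k * h := Abelian.H_comm s hh hk
    have e1 : a * h * (b * k) = a * b * (h * k) := by
      rw [mul_assoc a h, ← mul_assoc h b k, c1]; group
    have e2 : b * k * (a * h) = b * a * (h * k) := by
      rw [mul_assoc b k, ← mul_assoc k a h, c2, c3]; group
    have e : a * h * (b * k) * (a * h)⁻¹ * (b * k)⁻¹ = ⁅a, b⁆ := by
      calc a * h * (b * k) * (a * h)⁻¹ * (b * k)⁻¹ =
          (a * h * (b * k)) * (b * k * (a * h))⁻¹ := by group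
        _ = (a * b * (h * k)) * (b * a * (h * k))⁻¹ := by rw [e1, e2]
        _ = ⁅a, b⁆ := by rw [commutatorElement_def]; group
    rw [e]
    exact commutator_mem_commutator ha hb
  · have hidx : ((hc M U).subgroupOf M).index = Nat.card W₁ * (cen M U).relIndex U := by
      rw [← K_index c, ← relIndex_hc c, ← relIndex_subgroupOf c.D_le, mul_comm,
        relIndex_mul_index (hc_lt_K c).le]
    rw [hidx, hrel, relIndex_self, mul_one,
      show 4 * (Nat.card W₁ * (cen M U).relIndex U) ^ 2 =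
        (2 * Nat.card W₁ * (cen M U).relIndex U) ^ 2 by ring]
    refine Nat.pow_lt_pow_left ?_ two_ne_zero
    have h1 := Nat.mul_le_mul_right ((cen M U).relIndex U) hc'q
    rw [add_mul, one_mul] at h1
    have := two_le_u c
    omega

/-- `U` is cyclic. -/
theorem U_cyclic : IsCyclic U := by
  haveI := cyclic_range s
  refine isCyclic_of_injective (act (ctx_of_setup s)).rangeRestrict ?_
  intro a b h
  have h' : act (ctx_of_setup s) a = act (ctx_of_setup s) b := congrArg Subtype.val h
  have : a * b⁻¹ ∈ (act (ctx_of_setup s)).ker := by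
    rw [MonoidHom.mem_ker, map_mul, map_inv, h', mul_inv_cancel]
  rw [act_ker, cen_eq_bot s, bot_subgroupOf, mem_bot] at this
  exact mul_inv_eq_one.1 this

/-- `U` is fixed-point-free on `H`. -/
theorem U_free {x : G} (hx : x ∈ U) (hx1 : x ≠ 1) : H ⊓ centralizer ({x} : Set G) = ⊥ :=
  free_mod s hx fun h => hx1 (by rwa [cen_eq_bot s, mem_bot] at h)

theorem derived_two : ⁅D, D⁆ = H := by
  rw [derived_two_eq s, hc, cen_eq_bot s, sup_bot_eq]

end Facts

end Cfsg.Agent.Lib.OddOrder.PF11.Galois
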