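import Cfsg.Agent.Lib.OddOrder.TypeP
import Cfsg.Agent.Lib.Coprime.Commutator
import Cfsg.Agent.S1545

/-!
# Peterfalvi §11: group-theoretical preliminaries

`H = M_F`, `D = M'`, `C = C_U(H)`, `N = C_H(U)`.  Without any character theory: `U W₁` is a Frobenius
group, `H C = F(M)`, `H' ≤ N`, `N` is normal in `M`, `|H : N| = p ^ q` and `W₂ ∩ N = 1`.
-/

set_option autoImplicit false
set_option linter.style.haveILetI false

namespace Cfsg.Agent.Lib.OddOrder.PF11.Group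

open Subgroup
open Cfsg.Agent.Lib.OddOrder.Basic
open scoped commutatorElement

universe u

variable {G : Type u} [_root_.Group G] [Finite G]

/-- The group-theoretical hypotheses of §11. -/
structure Ctx (M W₁ U W₂ : Subgroup G) : Prop where
  odd : Odd (Nat.card G)
  typeP : Cfsg.IsTypePWith M W₁ U W₂
  solvable : Group.IsSolvable ↥M
  U_ne : U ≠ ⊥
  q_prime : (Nat.card W₁).Prime
  p_prime : (Nat.card W₂).Prime

theorem commutator_le_frattini_of_nilpotent {X : Type u} [_root_.Group X] [Finite X]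
    [Group.IsNilpotent X] : commutator X ≤ frattini X := by
  refine le_iInf fun K => le_iInf fun hK => ?_
  haveI : K.Normal := NormalizerCondition.normal_of_coatom K Group.normalizerCondition_of_isNilpotent hK
  obtain ⟨x, hx⟩ : ∃ x, x ∉ K := by
    by_contra hcon
    push Not at hcon
    exact hK.1 (eq_top_iff.2 fun y _ => hcon y)
  have hgen : ∀ y : X ⧸ K, ∃ n : ℤ, y = (x : X ⧸ K) ^ n := by
    intro y
    have htop : K ⊔ zpowers x = ⊤ := hK.2 _ (lt_of_le_of_ne le_sup_left fun e =>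
      hx (e ▸ mem_sup_right (mem_zpowers x)))
    obtain ⟨y, rfl⟩ := QuotientGroup.mk_surjective y
    obtain ⟨k, hk, z, ⟨n, rfl⟩, rfl⟩ := mem_sup_of_normal_left.1 (htop ▸ mem_top y)
    exact ⟨n, by rw [QuotientGroup.mk_mul, (QuotientGroup.eq_one_iff k).2 hk, one_mul]; rfl⟩
  rw [commutator_def, Subgroup.commutator_le]
  intro a _ b _
  obtain ⟨i, hi⟩ := hgen a
  obtain ⟨j, hj⟩ := hgen b
  rw [← QuotientGroup.eq_one_iff, commutatorElement_def, QuotientGroup.mk_mul, QuotientGroup.mk_mul,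
    QuotientGroup.mk_mul, QuotientGroup.mk_inv, QuotientGroup.mk_inv, hi, hj]
  group

variable {M W₁ U W₂ : Subgroup G}

local notation "H" => Cfsg.fittingHallOf M

local notation "D" => ⁅M, M⁆

theorem Ctx.W₁_le (c : Ctx M W₁ U W₂) : W₁ ≤ M := c.typeP.W₁_compl.2.1

theorem Ctx.D_le (_c : Ctx M W₁ U W₂) : D ≤ M := TypeP.derived_le M

theorem Ctx.H_le_D (c : Ctx M W₁ U W₂) : H ≤ D := c.typeP.U_compl.1

theorem Ctx.H_le (c : Ctx M W₁ U W₂) : H ≤ M := c.H_le_D.trans c.D_le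

theorem Ctx.U_le_D (c : Ctx M W₁ U W₂) : U ≤ D := c.typeP.U_compl.2.1

theorem Ctx.U_le (c : Ctx M W₁ U W₂) : U ≤ M := c.U_le_D.trans c.D_le

theorem Ctx.D_normal (_c : Ctx M W₁ U W₂) : M ≤ normalizer ((D : Subgroup G) : Set G) :=
  (Subgroup.le_normalizer_iff).2 fun m hm x hx => by
    have hmap : (⁅M, M⁆ : Subgroup G).map (MulAut.conj m).toMonoidHom ≤ ⁅M, M⁆ := by
      rw [Subgroup.map_commutator]
      refine Subgroup.commutator_mono ?_ ?_ <;>
        · rintro _ ⟨y, hy, rfl⟩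
          exact mul_mem (mul_mem hm hy) (inv_mem hm)
    exact hmap (mem_map_of_mem _ hx)

theorem Ctx.H_normal (_c : Ctx M W₁ U W₂) : M ≤ normalizer ((H : Subgroup G) : Set G) :=
  fittingHallOf_normal M

theorem Ctx.W₂_le_H (c : Ctx M W₁ U W₂) : W₂ ≤ H := c.typeP.W₂_le.trans inf_le_left

theorem Ctx.W₂_le_derived_two (c : Ctx M W₁ U W₂) : W₂ ≤ ⁅D, D⁆ := c.typeP.W₂_le.trans inf_le_right

theorem Ctx.W₁_ne (c : Ctx M W₁ U W₂) : W₁ ≠ ⊥ := c.typeP.W₁_ne

theorem Ctx.odd_card (c : Ctx M W₁ U W₂) (X : Subgroup G) : Odd (Nat.card X) :=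
  c.odd.of_dvd_nat (card_subgroup_dvd_card X)

theorem Ctx.three_le_q (c : Ctx M W₁ U W₂) : 3 ≤ Nat.card W₁ := by
  have h1 := c.q_prime.two_le
  obtain ⟨k, hk⟩ := c.odd_card W₁
  omega

theorem Ctx.three_le_p (c : Ctx M W₁ U W₂) : 3 ≤ Nat.card W₂ := by
  have h1 := c.p_prime.two_le
  obtain ⟨k, hk⟩ := c.odd_card W₂
  omega

theorem Ctx.cyclic_W (c : Ctx M W₁ U W₂) : IsCyclic ↥(W₁ ⊔ W₂) :=
  c.typeP.selfNormalizing.2.2.2.2.1

theorem Ctx.W_inf (c : Ctx M W₁ U W₂) : W₁ ⊓ W₂ = ⊥ := c.typeP.selfNormalizing.2.2.1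

theorem Ctx.p_ne_q (c : Ctx M W₁ U W₂) : Nat.card W₂ ≠ Nat.card W₁ := by
  classical
  intro h
  haveI := c.cyclic_W
  haveI := Fintype.ofFinite ↥(W₁ ⊔ W₂)
  set S : Set ↥(W₁ ⊔ W₂) := {x | x ^ Nat.card W₁ = 1} with hS
  have hle : S.ncard ≤ Nat.card W₁ := by
    have h1 := IsCyclic.card_pow_eq_one_le (α := ↥(W₁ ⊔ W₂)) (n := Nat.card W₁) Nat.card_pos
    simpa [hS, Set.ncard_eq_toFinset_card'] using h1
  have hsub : ∀ X : Subgroup G, X ≤ W₁ ⊔ W₂ → Nat.card X = Nat.card W₁ →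
      (X.subgroupOf (W₁ ⊔ W₂) : Set ↥(W₁ ⊔ W₂)) = S := by
    intro X hX hXc
    refine Set.eq_of_subset_of_ncard_le (fun x hx => ?_) ?_
    · show x ^ Nat.card W₁ = 1
      apply Subtype.ext
      rw [← hXc]
      push_cast
      exact orderOf_dvd_iff_pow_eq_one.1 (X.orderOf_dvd_natCard hx)
    · rw [← Nat.card_coe_set_eq (X.subgroupOf (W₁ ⊔ W₂) : Set ↥(W₁ ⊔ W₂))]
      exact le_of_le_of_eq hle (hXc.symm.trans (Nat.card_congr (subgroupOfEquivOfLe hX).toEquiv).symm)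
  have he := (hsub W₁ le_sup_left rfl).trans (hsub W₂ le_sup_right h).symm
  have : W₁ ≤ W₁ ⊓ W₂ := fun x hx => ⟨hx, by
    have h3 : (⟨x, mem_sup_left hx⟩ : ↥(W₁ ⊔ W₂)) ∈
        (W₂.subgroupOf (W₁ ⊔ W₂) : Set ↥(W₁ ⊔ W₂)) := by rw [← he]; exact hx
    exact h3⟩
  rw [c.W_inf, le_bot_iff] at this
  exact c.W₁_ne this

theorem Ctx.coprime_H_U (c : Ctx M W₁ U W₂) : (Nat.card H).Coprime (Nat.card U) :=
  TypeP.coprime_H_U c.typeP

theorem Ctx.H_inf_U (c : Ctx M W₁ U W₂) : H ⊓ U = ⊥ := c.typeP.U_compl.2.2.1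

theorem Ctx.D_inf_W₁ (c : Ctx M W₁ U W₂) : D ⊓ W₁ = ⊥ := c.typeP.W₁_compl.2.2.1

theorem Ctx.card_D (c : Ctx M W₁ U W₂) : Nat.card ↥(D : Subgroup G) = Nat.card H * Nat.card U :=
  (isComplIn_card c.typeP.U_compl).symm

theorem Ctx.card_M (c : Ctx M W₁ U W₂) : Nat.card M = Nat.card ↥(D : Subgroup G) * Nat.card W₁ :=
  (isComplIn_card c.typeP.W₁_compl).symm

theorem Ctx.coprime_D_W₁ (c : Ctx M W₁ U W₂) : (Nat.card ↥(D : Subgroup G)).Coprime (Nat.card W₁) := by
  have h := c.typeP.W₁_hall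
  rw [isComplIn_relIndex (isComplIn_symm c.typeP.W₁_compl)] at h
  exact h.symm

theorem Ctx.coprime_U_W₁ (c : Ctx M W₁ U W₂) : (Nat.card U).Coprime (Nat.card W₁) :=
  c.coprime_D_W₁.coprime_dvd_left (card_dvd_of_le c.U_le_D)

theorem Ctx.coprime_H_W₁ (c : Ctx M W₁ U W₂) : (Nat.card H).Coprime (Nat.card W₁) :=
  c.coprime_D_W₁.coprime_dvd_left (card_dvd_of_le c.H_le_D)

theorem Ctx.U_inf_W₁ (c : Ctx M W₁ U W₂) : U ⊓ W₁ = ⊥ :=
  Basic.inf_eq_bot_of_coprime c.coprime_U_W₁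

/-- `W₁` acts fixed-point-freely on `U`. -/
theorem Ctx.fpf (c : Ctx M W₁ U W₂) {w : G} (hw : w ∈ W₁) (hw1 : w ≠ 1) {a : G} (ha : a ∈ U)
    (h : w * a = a * w) : a = 1 := by
  have h1 : a ∈ W₂ := by
    rw [← c.typeP.W₂_centralizer w hw hw1]
    exact ⟨c.U_le_D ha, mem_centralizer_singleton_iff.2 h.symm⟩
  have h2 : a ∈ H ⊓ U := ⟨c.W₂_le_H h1, ha⟩
  rwa [c.H_inf_U, mem_bot] at h2

/-- The centraliser of `W₁` in `M'` is `W₂`. -/
theorem Ctx.fixed_W₁ (c : Ctx M W₁ U W₂) : D ⊓ centralizer (W₁ : Set G) = W₂ := by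
  refine le_antisymm (fun x hx => ?_) (le_inf (c.W₂_le_H.trans c.H_le_D) fun x hx => ?_)
  · obtain ⟨w, hw, hw1⟩ := W₁.bot_or_exists_ne_one.resolve_left c.W₁_ne
    rw [← c.typeP.W₂_centralizer w hw hw1]
    exact ⟨hx.1, mem_centralizer_singleton_iff.2 (mem_centralizer_iff.1 hx.2 w hw).symm⟩
  · exact mem_centralizer_iff.2 fun w hw => c.typeP.selfNormalizing.2.2.2.1 w hw x hx

theorem Ctx.fixed_H (c : Ctx M W₁ U W₂) : H ⊓ centralizer (W₁ : Set G) = W₂ :=
  le_antisymm ((inf_le_inf_right _ c.H_le_D).trans c.fixed_W₁.le)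
    (le_inf c.W₂_le_H (c.fixed_W₁.symm.le.trans inf_le_right))

/-- The fixed point formula for `U W₁` on an invariant subgroup of `H`. -/
theorem Ctx.formula (c : Ctx M W₁ U W₂) {X : Subgroup G} (hX : X ≤ H)
    (hUX : U ≤ normalizer (X : Set G)) (hWX : W₁ ≤ normalizer (X : Set G)) :
    Nat.card ↥(X ⊓ centralizer ((U ⊔ W₁ : Subgroup G) : Set G)) ^ Nat.card W₁ * Nat.card X =
      Nat.card ↥(X ⊓ centralizer (W₁ : Set G)) ^ Nat.card W₁ *
        Nat.card ↥(X ⊓ centralizer (U : Set G)) := by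
  have hn : U ⊔ W₁ ≤ normalizer (X : Set G) := sup_le hUX hWX
  have hcard : Nat.card ↥(U ⊔ W₁) = Nat.card U * Nat.card W₁ := by
    rw [sup_comm, Coprime.card_sup_of_disjoint c.typeP.U_normal
      (disjoint_iff.2 ((inf_comm _ _).trans c.U_inf_W₁)),
      mul_comm]
  have hcop : (Nat.card X).Coprime (Nat.card ↥(U ⊔ W₁)) := by
    rw [hcard]
    exact (c.coprime_H_U.mul_right c.coprime_H_W₁).coprime_dvd_left (card_dvd_of_le hX)
  exact Cfsg.Agent.S1545.result U W₁ X c.U_ne c.W₁_ne c.U_inf_W₁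
    (fun e he a ha => ((mem_normalizer_iff.1 (c.typeP.U_normal he)) a).1 ha)
    (fun e he he1 a ha h => c.fpf he he1 ha h)
    (fun x hx a ha => ((mem_normalizer_iff.1 (hn hx)) a).1 ha)
    (Basic.inf_eq_bot_of_coprime hcop)
    (by
      haveI := c.solvable
      exact Group.isSolvable_of_isSolvable_injective (inclusion_injective (hX.trans c.H_le)))
    hcop

theorem Ctx.U_solvable (c : Ctx M W₁ U W₂) : Group.IsSolvable U := by
  haveI := c.solvable
  exact Group.isSolvable_of_isSolvable_injective (inclusion_injective c.U_le)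

theorem Ctx.U_not_centralizes (c : Ctx M W₁ U W₂) : ¬ U ≤ centralizer ((H : Subgroup G) : Set G) :=
  fun h => c.U_ne (TypeP.U_eq_bot_of_centralizes c.typeP h)

/-- `N = C_H(U)` contains `H'`, is normalised by `M`, has index `p ^ q` and meets `W₂` trivially. -/
theorem Ctx.N_facts (c : Ctx M W₁ U W₂) :
    ⁅H, H⁆ ≤ H ⊓ centralizer (U : Set G) ∧
      M ≤ normalizer ((H ⊓ centralizer (U : Set G) : Subgroup G) : Set G) ∧
      (H ⊓ centralizer (U : Set G)).relIndex H = Nat.card W₂ ^ Nat.card W₁ ∧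
      W₂ ⊓ (H ⊓ centralizer (U : Set G)) = ⊥ := by
  set N₀ := ⁅H, H⁆ ⊔ (H ⊓ centralizer (U : Set G)) with hN₀
  have hder : ⁅H, H⁆ ≤ H := TypeP.derived_le _
  have hN₀H : N₀ ≤ H := sup_le hder inf_le_left
  have hMder : M ≤ normalizer ((⁅H, H⁆ : Subgroup G) : Set G) :=
    (Subgroup.le_normalizer_iff).2 fun m hm x hx => by
      have hmap : (⁅H, H⁆ : Subgroup G).map (MulAut.conj m).toMonoidHom ≤ ⁅H, H⁆ := by
        rw [Subgroup.map_commutator]
        refine Subgroup.commutator_mono ?_ ?_ <;>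
          · rintro _ ⟨y, hy, rfl⟩
            exact ((mem_normalizer_iff.1 (c.H_normal hm)) y).1 hy
      exact hmap (mem_map_of_mem _ hx)
  have hMN₀ : M ≤ normalizer (N₀ : Set G) := by
    rw [Subgroup.le_normalizer_iff]
    intro m hm
    suffices N₀ ≤ N₀.comap (MulAut.conj m).toMonoidHom from fun x hx => this hx
    refine sup_le (fun x hx => mem_sup_left (((mem_normalizer_iff.1 (hMder hm)) x).1 hx)) ?_
    intro x hx
    obtain ⟨t, ht, w, hw, rfl⟩ := c.typeP.W₁_compl.2.2.2 m hm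
    obtain ⟨h, hh, a, ha, rfl⟩ := c.typeP.U_compl.2.2.2 t ht
    show h * a * w * x * (h * a * w)⁻¹ ∈ N₀
    have hy : a * (w * x * w⁻¹) * a⁻¹ ∈ H ⊓ centralizer (U : Set G) := by
      refine ⟨((mem_normalizer_iff.1 (c.H_normal (c.U_le ha))) _).1
        (((mem_normalizer_iff.1 (c.H_normal (c.W₁_le hw))) x).1 hx.1), ?_⟩
      have hwx : w * x * w⁻¹ ∈ centralizer (U : Set G) := by
        rw [mem_centralizer_iff]
        intro b hb
        have hb' : w⁻¹ * b * w ∈ U := by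
          have := ((mem_normalizer_iff.1 (c.typeP.U_normal (inv_mem hw))) b).1 hb
          simpa using this
        have h1 := mem_centralizer_iff.1 hx.2 _ hb'
        calc b * (w * x * w⁻¹) = w * ((w⁻¹ * b * w) * x) * w⁻¹ := by group
          _ = (w * x * w⁻¹) * b := by rw [h1]; group
      rwa [mem_centralizer_iff.1 hwx a ha, mul_inv_cancel_right]
    set y := a * (w * x * w⁻¹) * a⁻¹ with hydef
    rw [show h * a * w * x * (h * a * w)⁻¹ = ⁅h, y⁆ * y by
      rw [commutatorElement_def, hydef]; group]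
    exact mul_mem (mem_sup_left (commutator_mem_commutator hh hy.1)) (mem_sup_right hy)
  have hne : ¬ H ≤ N₀ := by
    intro hle
    apply c.U_not_centralizes
    haveI : Group.IsNilpotent ↥H := fittingHallOf_isNilpotent M
    have htop : (H ⊓ centralizer (U : Set G)).subgroupOf H ⊔ frattini ↥H = ⊤ := by
      rw [eq_top_iff]
      intro x _
      have hx : (x : G) ∈ N₀ := hle x.2
      have hmap : (commutator ↥H).map (Subgroup.subtype _) = ⁅H, H⁆ := by
        rw [commutator_def, Subgroup.map_commutator, ← MonoidHom.range_eq_map, range_subtype]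
      have hN : N₀ ≤ (((H ⊓ centralizer (U : Set G)).subgroupOf H ⊔ frattini ↥H)).map
          (Subgroup.subtype _) := by
        refine sup_le ?_ ?_
        · rw [← hmap]
          exact map_mono (commutator_le_frattini_of_nilpotent.trans le_sup_right)
        · intro y hy
          exact ⟨⟨y, hy.1⟩, mem_sup_left hy, rfl⟩
      obtain ⟨y, hy, hyx⟩ := hN hx
      rwa [← Subtype.ext hyx]
    have hall : H ≤ centralizer (U : Set G) := fun x hx => by
      have h1 : (⟨x, hx⟩ : ↥H) ∈ (H ⊓ centralizer (U : Set G)).subgroupOf H :=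
        frattini_nongenerating htop ▸ mem_top _
      exact h1.2
    exact le_centralizer_iff.1 hall
  have hfixU : H ⊓ centralizer (U : Set G) ≤ N₀ := le_sup_right
  have hCU : H ⊓ centralizer (U : Set G) = N₀ ⊓ centralizer (U : Set G) :=
    le_antisymm (le_inf hfixU inf_le_right) (inf_le_inf_right _ hN₀H)
  have hCUW : H ⊓ centralizer ((U ⊔ W₁ : Subgroup G) : Set G) =
      N₀ ⊓ centralizer ((U ⊔ W₁ : Subgroup G) : Set G) :=
    le_antisymm (le_inf (fun x hx => hfixU ⟨hx.1, centralizer_le (SetLike.coe_subset_coe.2 le_sup_left) hx.2⟩) inf_le_right)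
      (inf_le_inf_right _ hN₀H)
  have h1 := c.formula le_rfl (c.U_le.trans c.H_normal) (c.W₁_le.trans c.H_normal)
  have h2 := c.formula hN₀H (c.U_le.trans hMN₀) (c.W₁_le.trans hMN₀)
  rw [c.fixed_H, hCUW, hCU] at h1
  have hle : N₀ ⊓ centralizer (W₁ : Set G) ≤ W₂ :=
    (inf_le_inf_right _ hN₀H).trans c.fixed_H.le
  have hrel : N₀.relIndex H * Nat.card N₀ = Nat.card H := by
    have := relIndex_mul_relIndex (⊥ : Subgroup G) N₀ H bot_le hN₀H
    rw [relIndex_bot_left, relIndex_bot_left] at this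
    rw [mul_comm]; exact this
  rcases (Nat.dvd_prime c.p_prime).1 (card_dvd_of_le hle) with h | h
  · have hbot : N₀ ⊓ centralizer (W₁ : Set G) = ⊥ := card_eq_one.1 h
    have hUW : N₀ ⊓ centralizer ((U ⊔ W₁ : Subgroup G) : Set G) = ⊥ :=
      le_bot_iff.1 ((inf_le_inf_left _ (centralizer_le (SetLike.coe_subset_coe.2 le_sup_right))).trans hbot.le)
    rw [hUW, Subgroup.card_bot, one_pow, one_mul] at h1 h2
    rw [h, one_pow, one_mul] at h2
    have hN : N₀ = H ⊓ centralizer (U : Set G) := by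
      rw [hCU]
      exact (eq_of_le_of_card_ge inf_le_left h2.le).symm
    rw [← hN]
    refine ⟨le_sup_left, hMN₀, ?_, ?_⟩
    · rw [← h2] at h1
      exact Nat.eq_of_mul_eq_mul_right Nat.card_pos (hrel.trans h1)
    · rw [eq_bot_iff, ← hbot]
      exact fun x hx => ⟨hx.2, (c.fixed_H.ge hx.1).2⟩
  · exfalso
    apply hne
    have hW : N₀ ⊓ centralizer (W₁ : Set G) = W₂ := eq_of_le_of_card_ge hle h.ge
    rw [hW] at h2
    have hpos : 0 < Nat.card ↥(N₀ ⊓ centralizer ((U ⊔ W₁ : Subgroup G) : Set G)) ^ Nat.card W₁ :=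
      pow_pos Nat.card_pos _
    exact (eq_of_le_of_card_ge hN₀H (Nat.eq_of_mul_eq_mul_left hpos (h1.trans h2.symm)).le).ge

theorem Ctx.C_normal (c : Ctx M W₁ U W₂) :
    M ≤ normalizer ((U ⊓ centralizer ((H : Subgroup G) : Set G) : Subgroup G) : Set G) := by
  rw [Subgroup.le_normalizer_iff]
  intro m hm x hx
  obtain ⟨t, ht, w, hw, rfl⟩ := c.typeP.W₁_compl.2.2.2 m hm
  obtain ⟨h, hh, a, ha, rfl⟩ := c.typeP.U_compl.2.2.2 t ht
  have hcent : ∀ z ∈ U ⊓ centralizer ((H : Subgroup G) : Set G), ∀ b : G,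
      b ∈ normalizer (U : Set G) → b ∈ normalizer ((H : Subgroup G) : Set G) →
      b * z * b⁻¹ ∈ U ⊓ centralizer ((H : Subgroup G) : Set G) := by
    intro z hz b hb hb'
    refine ⟨((mem_normalizer_iff.1 hb) z).1 hz.1, mem_centralizer_iff.2 fun y hy => ?_⟩
    have hy' : b⁻¹ * y * b ∈ H := by
      have := ((mem_normalizer_iff.1 (inv_mem hb')) y).1 hy
      simpa using this
    have h1 := mem_centralizer_iff.1 hz.2 _ hy'
    calc y * (b * z * b⁻¹) = b * ((b⁻¹ * y * b) * z) * b⁻¹ := by group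
      _ = (b * z * b⁻¹) * y := by rw [h1]; group
  have h1 : (a * w) * x * (a * w)⁻¹ ∈ U ⊓ centralizer ((H : Subgroup G) : Set G) :=
    hcent x hx _ (mul_mem (Subgroup.le_normalizer ha) (c.typeP.U_normal hw))
      (mul_mem (c.H_normal (c.U_le ha)) (c.H_normal (c.W₁_le hw)))
  rw [show h * a * w * x * (h * a * w)⁻¹ = h * ((a * w) * x * (a * w)⁻¹) * h⁻¹ by group,
    mem_centralizer_iff.1 h1.2 h hh, mul_inv_cancel_right]
  exact h1

end Cfsg.Agent.Lib.OddOrder.PF11.Group
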