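import Cfsg.Agent.Lib.OddOrder.PF11.Abelian
import Cfsg.Agent.Lib.OddOrder.PF11.Linear
import Cfsg.Agent.Lib.OddOrder.PF11.Theta
import Cfsg.Agent.Lib.Isometry.InducedSystem
import Cfsg.Agent.S1513

/-!
# Peterfalvi §11: the characters of `M'` attached to a line of a reducible `H`

If `U` is reducible on `H`, take a line `L`, its invariant complement `Z`, `T = C_U(L)` and
`a = |U : T|`.  The characters of `M'` trivial on `B = Z C` and not on `H` have degree `a`, are induced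
from `F = H T`, and induce irreducibly and injectively to `M`.
-/

set_option autoImplicit false
set_option linter.style.haveILetI false
set_option linter.unusedSectionVars false

namespace Cfsg.Agent.Lib.OddOrder.PF11.NonGaloisGroup

open Subgroup
open Cfsg.Agent.Lib
open Cfsg.Agent.Lib.OddOrder.Basic
open Cfsg.Agent.Lib.OddOrder.PF11.Group (Ctx)
open Cfsg.Agent.Lib.OddOrder.PF11.Bound
open Cfsg.Agent.Lib.OddOrder.PF11.Structure (conj_mem_of_normalizes)
open Cfsg.Agent.Lib.OddOrder.PF11.Theta (val hcK)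
open Cfsg.Agent.Lib.OddOrder.Interface.PF11 (derivedIn tau Setup)

universe u

variable {G : Type u} [_root_.Group G] [Fintype G] {M W₁ U W₂ : Subgroup G}

local notation "H" => Cfsg.fittingHallOf M

local notation "D" => ⁅M, M⁆

/-- A line of `H` with an invariant complement containing its other conjugates. -/
structure Line (M W₁ U W₂ L Z : Subgroup G) : Prop where
  L_le : L ≤ Cfsg.fittingHallOf M
  L_inv : U ≤ normalizer (L : Set G)
  L_card : Nat.card L = Nat.card W₂
  gen : ∀ Y : Subgroup G, (∀ w ∈ W₁, ∀ x ∈ L, w * x * w⁻¹ ∈ Y) → Cfsg.fittingHallOf M ≤ Y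
  Z_le : Z ≤ Cfsg.fittingHallOf M
  Z_inv : U ≤ normalizer (Z : Set G)
  Z_index : Z.relIndex (Cfsg.fittingHallOf M) = Nat.card W₂
  conj_le : ∀ w ∈ W₁, w ≠ 1 → ∀ x ∈ L, w * x * w⁻¹ ∈ Z
  inf_eq : Z ⊓ L = ⊥

theorem exists_line [Fintype ↥M] (s : Setup M W₁ U W₂) {X : Subgroup G} (hX1 : X ≠ ⊥) (hX2 : X < H)
    (hXU : U ≤ normalizer (X : Set G)) : ∃ L Z, Line M W₁ U W₂ L Z := by
  have hfix := Abelian.fix_eq_bot s
  obtain ⟨L, -, h2, h3, h4, h5, Z, -, h7, h8, h9, h10, h11⟩ :=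
    Structure.lines s (X := X) (by rw [hfix]; exact bot_lt_iff_ne_bot.2 hX1) hX2 hXU
  rw [hfix, relIndex_bot_left] at h4
  rw [hfix] at h11
  exact ⟨L, Z, h2, h3, h4, fun Y hY => h5 Y (by rw [hfix]; exact bot_le) hY, h7, h8, h9, h10, h11⟩

/-- `C_U(L)`. -/
abbrev cenL (U L : Subgroup G) : Subgroup G := U ⊓ centralizer (L : Set G)

/-- `F = H C_U(L)`. -/
abbrev bigF (M U L : Subgroup G) : Subgroup G := Cfsg.fittingHallOf M ⊔ cenL U L

/-- `B = Z C`. -/
abbrev smallB (M U Z : Subgroup G) : Subgroup G := Z ⊔ cen M U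

/-- `F` inside `M'`. -/
abbrev bigFK (M U L : Subgroup G) : Subgroup ↥(derivedIn M) :=
  ((bigF M U L).subgroupOf M).subgroupOf (derivedIn M)

/-- `B` inside `M'`. -/
abbrev smallBK (M U Z : Subgroup G) : Subgroup ↥(derivedIn M) :=
  ((smallB M U Z).subgroupOf M).subgroupOf (derivedIn M)

theorem normal_val {X : Subgroup G} (h : D ≤ normalizer (X : Set G)) :
    ((X.subgroupOf M).subgroupOf (derivedIn M)).Normal :=
  ⟨fun x hx g => by
    show val (g * x * g⁻¹) ∈ X
    exact conj_mem_of_normalizes h g.2 hx⟩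

theorem card_val {X : Subgroup G} (h : X ≤ D) :
    Nat.card ((X.subgroupOf M).subgroupOf (derivedIn M)) = Nat.card X := by
  rw [Nat.card_congr (subgroupOfEquivOfLe (Bound.subgroupOf_mono M h)).toEquiv,
    Nat.card_congr (subgroupOfEquivOfLe (h.trans (TypeP.derived_le M))).toEquiv]

section Facts
variable [Fintype ↥M] (s : Setup M W₁ U W₂) {L Z : Subgroup G} (hl : Line M W₁ U W₂ L Z)

include s hl

theorem D_normalizes {X : Subgroup G} (hH : H ≤ normalizer (X : Set G))
    (hU : U ≤ normalizer (X : Set G)) : D ≤ normalizer (X : Set G) := by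
  intro x hx
  obtain ⟨h, hh, a, ha, rfl⟩ := (ctx_of_setup s).typeP.U_compl.2.2.2 x hx
  exact mul_mem (hH hh) (hU ha)

theorem T_inv : U ≤ normalizer ((cenL U L : Subgroup G) : Set G) := by
  rw [Subgroup.le_normalizer_iff]
  intro a ha t ht
  refine ⟨U.mul_mem (U.mul_mem ha ht.1) (U.inv_mem ha), mem_centralizer_iff.2 fun x hx => ?_⟩
  have hy : a⁻¹ * x * a ∈ L := by
    have := conj_mem_of_normalizes hl.L_inv (inv_mem ha) hx
    simpa using this
  have h := mem_centralizer_iff.1 ht.2 _ hy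
  calc x * (a * t * a⁻¹) = a * ((a⁻¹ * x * a) * t) * a⁻¹ := by group
    _ = a * (t * (a⁻¹ * x * a)) * a⁻¹ := by rw [h]
    _ = a * t * a⁻¹ * x := by group

theorem cen_le_T : cen M U ≤ cenL U L :=
  le_inf inf_le_left (inf_le_right.trans (centralizer_le (SetLike.coe_subset_coe.2 hl.L_le)))

theorem bigF_le : bigF M U L ≤ D :=
  sup_le (ctx_of_setup s).H_le_D (inf_le_left.trans (ctx_of_setup s).U_le_D)

theorem smallB_le : smallB M U Z ≤ D :=
  sup_le (hl.Z_le.trans (ctx_of_setup s).H_le_D) (inf_le_left.trans (ctx_of_setup s).U_le_D)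

theorem H_normalizes_Z : H ≤ normalizer (Z : Set G) := by
  rw [Subgroup.le_normalizer_iff]
  intro h hh z hz
  rwa [Abelian.H_comm s hh (hl.Z_le hz), mul_inv_cancel_right]

theorem D_normalizes_Z : D ≤ normalizer (Z : Set G) :=
  D_normalizes s hl (H_normalizes_Z s hl) hl.Z_inv

theorem bigF_normal : D ≤ normalizer ((bigF M U L : Subgroup G) : Set G) := by
  have c := ctx_of_setup s
  refine D_normalizes s hl ((le_sup_left : H ≤ bigF M U L).trans le_normalizer) ?_
  exact Coprime.le_normalizer_sup (c.U_le.trans c.H_normal) (T_inv s hl)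

theorem smallB_normal : D ≤ normalizer ((smallB M U Z : Subgroup G) : Set G) := by
  have c := ctx_of_setup s
  refine D_normalizes s hl (Coprime.le_normalizer_sup (H_normalizes_Z s hl) ?_)
    (Coprime.le_normalizer_sup hl.Z_inv (c.U_le.trans c.C_normal))
  intro h hh
  refine Subgroup.centralizer_le_normalizer _ (mem_centralizer_iff.2 fun a ha => ?_)
  exact (mem_centralizer_iff.1 ha.2 h hh).symm

theorem smallB_le_hc : smallB M U Z ≤ hc M U := sup_le_sup_right hl.Z_le _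

theorem hc_le_bigF : hc M U ≤ bigF M U L := sup_le_sup_left (cen_le_T s hl) _

theorem card_bigF : Nat.card (bigF M U L) = Nat.card H * Nat.card (cenL U L) := by
  have c := ctx_of_setup s
  rw [bigF, sup_comm, Coprime.card_sup_of_disjoint
    (inf_le_left.trans (c.U_le.trans c.H_normal)) (disjoint_iff.2 ?_), mul_comm]
  rw [eq_bot_iff, ← c.H_inf_U]
  exact fun x hx => ⟨hx.2, hx.1.1⟩

theorem index_bigF : (bigFK M U L).index = (cenL U L).relIndex U := by
  have c := ctx_of_setup s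
  have h1 := (bigFK M U L).card_mul_index
  rw [card_val (bigF_le s hl), card_bigF s hl,
    show Nat.card ↥(derivedIn M) = Nat.card ↥(D : Subgroup G) from Nat.card_congr (subgroupOfEquivOfLe c.D_le).toEquiv,
    c.card_D] at h1
  have h2 := relIndex_mul_relIndex (⊥ : Subgroup G) _ _ bot_le (inf_le_left : cenL U L ≤ U)
  rw [relIndex_bot_left, relIndex_bot_left] at h2
  rw [← h2, mul_assoc] at h1
  exact Nat.eq_of_mul_eq_mul_left Nat.card_pos (Nat.eq_of_mul_eq_mul_left Nat.card_pos h1)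

theorem index_smallB : (smallBK M U Z).index = Nat.card W₂ * (cen M U).relIndex U := by
  have c := ctx_of_setup s
  have h0 : (smallBK M U Z).index = (smallB M U Z).relIndex D := by
    show ((smallB M U Z).subgroupOf M).relIndex (derivedIn M) = _
    exact relIndex_subgroupOf c.D_le
  rw [h0, ← relIndex_mul_relIndex _ _ _ (smallB_le_hc s hl) (hc_le_D c), relIndex_hc c]
  congr 1
  have h1 := relIndex_mul_relIndex (⊥ : Subgroup G) _ _ bot_le (smallB_le_hc s hl)
  have h2 := relIndex_mul_relIndex (⊥ : Subgroup G) Z H bot_le hl.Z_le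
  rw [relIndex_bot_left, relIndex_bot_left] at h1 h2
  rw [hl.Z_index] at h2
  rw [card_sup_cen c hl.Z_le, card_sup_cen c le_rfl, ← h2] at h1
  have h3 : Nat.card Z * Nat.card (cen M U) * (smallB M U Z).relIndex (hc M U) =
      Nat.card Z * Nat.card (cen M U) * Nat.card W₂ := by rw [h1]; ring
  exact Nat.eq_of_mul_eq_mul_left (Nat.mul_pos Nat.card_pos Nat.card_pos) h3

theorem one_lt_a : (cenL U L).relIndex U ≠ 1 := by
  intro h
  have c := ctx_of_setup s
  have hle : U ≤ centralizer (L : Set G) := fun x hx => (relIndex_eq_one.1 h hx).2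
  have h1 : H ≤ H ⊓ centralizer (U : Set G) := by
    refine hl.gen _ fun w hw x hx => ⟨?_, mem_centralizer_iff.2 fun a ha => ?_⟩
    · exact conj_mem_of_normalizes c.H_normal (c.W₁_le hw) (hl.L_le hx)
    · have hb : w⁻¹ * a * w ∈ U := by
        have := conj_mem_of_normalizes c.typeP.U_normal (inv_mem hw) ha
        simpa using this
      have e := mem_centralizer_iff.1 (hle hb) x hx
      calc a * (w * x * w⁻¹) = w * ((w⁻¹ * a * w) * x) * w⁻¹ := by group
        _ = w * (x * (w⁻¹ * a * w)) * w⁻¹ := by rw [← e]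
        _ = w * x * w⁻¹ * a := by group
  rw [show H ⊓ centralizer (U : Set G) = ⊥ from Abelian.fix_eq_bot s, le_bot_iff] at h1
  have h2 := Abelian.H_card s
  rw [h1, Subgroup.card_bot] at h2
  exact (Nat.one_lt_pow c.q_prime.ne_zero c.p_prime.one_lt).ne h2

theorem a_dvd : (cenL U L).relIndex U ∣ Nat.card W₂ - 1 := by
  have c := ctx_of_setup s
  haveI : Fact (Nat.card W₂).Prime := ⟨c.p_prime⟩
  haveI : IsCyclic ↥L := isCyclic_of_prime_card hl.L_card
  let f : ↥U →* MulAut ↥L := L.normalizerMonoidHom.comp (inclusion hl.L_inv)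
  have hker : f.ker = (cenL U L).subgroupOf U := by
    ext a
    simp only [MonoidHom.mem_ker, mem_subgroupOf, mem_inf, SetLike.coe_mem, true_and]
    constructor
    · intro h
      refine mem_centralizer_iff.2 fun x hx => ?_
      have e : (a : G) * x * (a : G)⁻¹ = x :=
        congrArg Subtype.val (DFunLike.congr_fun h (⟨x, hx⟩ : L))
      calc x * (a : G) = (a : G) * x * (a : G)⁻¹ * a := by rw [e]
        _ = (a : G) * x := by group
    · intro h
      ext x
      show (a : G) * x * (a : G)⁻¹ = x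
      rw [← mem_centralizer_iff.1 h x x.2, mul_inv_cancel_right]
  have h1 : (cenL U L).relIndex U = Nat.card f.range := by
    rw [← Subgroup.index_ker f, hker]; rfl
  have h2 : Nat.card (MulAut ↥L) = Nat.card W₂ - 1 := by
    rw [IsCyclic.card_mulAut ↥L, hl.L_card, Nat.totient_prime c.p_prime]
  rw [h1, ← h2]
  exact card_subgroup_dvd_card _

theorem a_facts : 3 ≤ (cenL U L).relIndex U ∧ 2 * (cenL U L).relIndex U < Nat.card W₂ := by
  have c := ctx_of_setup s
  have h0 : (cenL U L).relIndex U ≠ 0 := index_ne_zero_of_finite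
  have h1 := one_lt_a s hl
  obtain ⟨k, hk⟩ := (c.odd_card U).of_dvd_nat
    (index_dvd_card ((cenL U L).subgroupOf U) : (cenL U L).relIndex U ∣ Nat.card U)
  change (cenL U L).relIndex U = 2 * k + 1 at hk
  refine ⟨by omega, ?_⟩
  obtain ⟨j, hj⟩ := a_dvd s hl
  obtain ⟨i, hi⟩ := c.odd_card W₂
  have hp := c.three_le_p
  have hj2 : 2 ≤ j := by
    rcases j with _ | _ | j
    · omega
    · omega
    · omega
  have := Nat.mul_le_mul_left ((cenL U L).relIndex U) hj2
  omega

theorem T_mul_a : (cen M U).relIndex (cenL U L) * (cenL U L).relIndex U = (cen M U).relIndex U :=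
  relIndex_mul_relIndex _ _ _ (cen_le_T s hl) inf_le_left

theorem sup_line : H ≤ L ⊔ Z := by
  refine hl.gen _ fun w hw x hx => ?_
  by_cases h : w = 1
  · subst h
    simpa using mem_sup_left hx
  · exact mem_sup_right (hl.conj_le w hw h x hx)

theorem exists_LZ {h : G} (hh : h ∈ H) : ∃ l ∈ L, ∃ z ∈ Z, h = l * z := by
  refine Coprime.exists_mul_of_mem_sup (hl.L_le.trans (H_normalizes_Z s hl)) (sup_line s hl hh)

/-- `F / B` is abelian. -/
theorem F_comm {x y : G} (hx : x ∈ bigF M U L) (hy : y ∈ bigF M U L) :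
    x * y * x⁻¹ * y⁻¹ ∈ smallB M U Z := by
  have c := ctx_of_setup s
  have hn : cenL U L ≤ normalizer ((H : Subgroup G) : Set G) :=
    inf_le_left.trans (c.U_le.trans c.H_normal)
  have hBn : H ≤ normalizer ((smallB M U Z : Subgroup G) : Set G) :=
    c.H_le_D.trans (smallB_normal s hl)
  rw [bigF, sup_comm] at hx hy
  obtain ⟨t, ht, h, hh, rfl⟩ := Coprime.exists_mul_of_mem_sup hn hx
  obtain ⟨t', ht', h', hh', rfl⟩ := Coprime.exists_mul_of_mem_sup hn hy
  have key : ∀ t ∈ cenL U L, ∀ k ∈ H, t * k * t⁻¹ * k⁻¹ ∈ smallB M U Z := by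
    intro t ht k hk
    obtain ⟨l, hlL, z, hz, rfl⟩ := exists_LZ s hl hk
    have e : t * (l * z) * t⁻¹ * (l * z)⁻¹ = l * ((t * z * t⁻¹) * z⁻¹) * l⁻¹ := by
      have el : t * l = l * t := (mem_centralizer_iff.1 ht.2 l hlL).symm
      rw [← mul_assoc t l z, el]
      group
    rw [e]
    exact conj_mem_of_normalizes hBn (hl.L_le hlL)
      (mem_sup_left (mul_mem (conj_mem_of_normalizes hl.Z_inv ht.1 hz) (inv_mem hz)))
  have key2 : t * t' * t⁻¹ * t'⁻¹ ∈ smallB M U Z := by
    refine mem_sup_right ?_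
    rw [Structure.cen_eq s]
    have := commutator_mem_commutator ht.1 ht'.1
    rwa [commutatorElement_def] at this
  -- rewrite `t h` as `h₁ t`
  set h₁ := t * h * t⁻¹ with hh₁
  set h₁' := t' * h' * t'⁻¹ with hh₁'
  have m1 : h₁ ∈ H := conj_mem_of_normalizes (c.U_le.trans c.H_normal) ht.1 hh
  have m1' : h₁' ∈ H := conj_mem_of_normalizes (c.U_le.trans c.H_normal) ht'.1 hh'
  have hcm : h₁' * h₁ = h₁ * h₁' := Abelian.H_comm s m1' m1
  rw [show t * h = h₁ * t by rw [hh₁]; group, show t' * h' = h₁' * t' by rw [hh₁']; group]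
  have e : h₁ * t * (h₁' * t') * (h₁ * t)⁻¹ * (h₁' * t')⁻¹ =
      h₁ * (t * h₁' * t⁻¹ * h₁'⁻¹) * h₁⁻¹ * (h₁ * h₁' * (t * t' * t⁻¹ * t'⁻¹) * (h₁ * h₁')⁻¹) *
        (h₁ * h₁' * (t' * h₁⁻¹ * t'⁻¹ * h₁⁻¹⁻¹) * (h₁' * h₁)⁻¹) := by group
  rw [e]
  refine mul_mem (mul_mem (conj_mem_of_normalizes hBn m1 (key t ht _ m1'))
    (conj_mem_of_normalizes hBn (mul_mem m1 m1') key2)) ?_
  rw [hcm]
  exact conj_mem_of_normalizes hBn (mul_mem m1 m1') (key t' ht' _ (inv_mem m1))

/-- A conjugate of `Z` by a non-trivial element of `W₁` spans `H` with `Z`. -/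
theorem Z_conj {w : G} (hw : w ∈ W₁) (hw1 : w ≠ 1) :
    H ≤ Z ⊔ Z.map (MulAut.conj w).toMonoidHom := by
  have c := ctx_of_setup s
  set Y := Z ⊔ Z.map (MulAut.conj w).toMonoidHom with hY
  have hYH : Y ≤ H := sup_le hl.Z_le fun x hx => by
    obtain ⟨z, hz, rfl⟩ := hx
    exact conj_mem_of_normalizes c.H_normal (c.W₁_le hw) (hl.Z_le hz)
  have h1 := relIndex_mul_relIndex Z Y H le_sup_left hYH
  rw [hl.Z_index] at h1
  rcases (Nat.dvd_prime c.p_prime).1 ⟨_, h1.symm⟩ with h | h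
  · exfalso
    have hle : Z.map (MulAut.conj w).toMonoidHom ≤ Z :=
      le_sup_right.trans (relIndex_eq_one.1 h)
    have hLZ : L ≤ Z := fun x hx => by
      have hz := hl.conj_le w⁻¹ (inv_mem hw) (fun e => hw1 (inv_eq_one.1 e)) x hx
      have := hle ⟨_, hz, rfl⟩
      simpa [mul_assoc] using this
    have := hl.inf_eq
    rw [inf_eq_right.2 hLZ] at this
    have h2 := hl.L_card
    rw [this, Subgroup.card_bot] at h2
    exact c.p_prime.one_lt.ne h2
  · rw [h] at h1
    exact relIndex_eq_one.1 ((Nat.mul_eq_left c.p_prime.ne_zero).1 h1)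

/-- The characters: trivial on `B`, not on `H C`. -/
theorem theta_facts [Fintype ↥(derivedIn M)] {θ : ↥(derivedIn M) → ℂ} (hθ : Cfsg.IsIrrCharacter ↥(derivedIn M) θ)
    (hB : ∀ g ∈ smallBK M U Z, θ g = θ 1) (hH : ∃ g ∈ hcK M U, θ g ≠ θ 1) :
    θ 1 = ((cenL U L).relIndex U : ℂ) ∧ ∃ l : ↥(bigFK M U L) →* ℂˣ,
      Cfsg.indFun (bigFK M U L) (fun f => (l f : ℂ)) = θ ∧
      (∀ f : ↥(bigFK M U L), val (f : ↥(derivedIn M)) ∈ smallB M U Z → l f = 1) ∧
      ¬ ∀ f : ↥(bigFK M U L), val (f : ↥(derivedIn M)) ∈ H → l f = 1 := by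
  classical
  have c := ctx_of_setup s
  haveI := K_normal c
  haveI hFn : (bigFK M U L).Normal := normal_val (bigF_normal s hl)
  haveI hBn : (smallBK M U Z).Normal := normal_val (smallB_normal s hl)
  haveI hhn : (hcK M U).Normal := normal_val (c.D_le.trans (hc_normal c))
  have hBF : smallB M U Z ≤ bigF M U L := (smallB_le_hc s hl).trans (hc_le_bigF s hl)
  have hc := Characters.Basic.IsCharacter_of_isIrrCharacter hθ
  obtain ⟨n, hn0, hn⟩ := Characters.Basic.exists_degree_pos ⟨θ, hθ⟩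
  change θ 1 = (n : ℂ) at hn
  obtain ⟨l, hlB, hne⟩ := Linear.exists_constituent (F := bigFK M U L) hc
    (by rw [hn]; exact Nat.cast_ne_zero.2 hn0.ne') ((smallBK M U Z).subgroupOf (bigFK M U L))
    (fun x y => F_comm s hl (x := val (x : ↥(derivedIn M))) (y := val (y : ↥(derivedIn M))) x.2 y.2)
    (fun b hb => hB _ hb)
  have hlB' : ∀ f : ↥(bigFK M U L), val (f : ↥(derivedIn M)) ∈ smallB M U Z → l f = 1 :=
    fun f hf => hlB f hf
  have hind : Cfsg.IsCharacter ↥(derivedIn M) (Cfsg.indFun (bigFK M U L) fun f => (l f : ℂ)) :=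
    Induced.Character.isCharacter_indFun _ (Induced.Character.isCharacter_hom l)
  have hnH : ¬ ∀ f : ↥(bigFK M U L), val (f : ↥(derivedIn M)) ∈ H → l f = 1 := by
    intro hall
    have hhc : ∀ f : ↥(bigFK M U L), (f : ↥(derivedIn M)) ∈ hcK M U → l f = 1 := by
      intro f hf
      have hcH : cen M U ≤ normalizer ((H : Subgroup G) : Set G) :=
        (Bound.cen_le c).trans c.H_normal
      have hf' : val (f : ↥(derivedIn M)) ∈ cen M U ⊔ H := by rw [sup_comm]; exact hf
      obtain ⟨a, ha, h, hh, e⟩ := Coprime.exists_mul_of_mem_sup hcH hf'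
      have haD : a ∈ D := c.U_le_D ha.1
      let fa : ↥(bigFK M U L) := ⟨⟨⟨a, c.D_le haD⟩, haD⟩,
        (mem_sup_right (cen_le_T s hl ha) : a ∈ bigF M U L)⟩
      let fh : ↥(bigFK M U L) := ⟨⟨⟨h, c.H_le hh⟩, c.H_le_D hh⟩,
        (mem_sup_left hh : h ∈ bigF M U L)⟩
      rw [show f = fa * fh from Subtype.ext (Subtype.ext (Subtype.ext e)), map_mul,
        hlB' fa (mem_sup_right ha), hall fh hh, one_mul]
    obtain ⟨g, hg, hg'⟩ := hH
    refine hg' (Linear.constituent_trivial hind hθ hne ?_)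
    exact Linear.ind_kernel l hhc (fun x hx => hc_le_bigF s hl hx) hg
  obtain ⟨hirr, hdeg⟩ := Linear.ind_irr (F := bigFK M U L) l fun g hg => by
    obtain ⟨h₀, hh₀, a, ha, e⟩ := c.typeP.U_compl.2.2.2 (val g) g.2
    suffices hT : a ∈ cenL U L by
      show val g ∈ bigF M U L
      rw [e]; exact mul_mem (mem_sup_left hh₀) (mem_sup_right hT)
    have hLF : ∀ x ∈ L, x ∈ bigF M U L := fun x hx => mem_sup_left (hl.L_le hx)
    let j : ↥L →* ↥(bigFK M U L) := MonoidHom.mk'
      (fun x => ⟨⟨⟨x, c.H_le (hl.L_le x.2)⟩, c.H_le_D (hl.L_le x.2)⟩, hLF x x.2⟩)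
      fun _ _ => rfl
    have hlL : ∃ x, l (j x) ≠ 1 := by
      by_contra hall
      push Not at hall
      refine hnH fun f hf => ?_
      obtain ⟨x, hx, z, hz, e'⟩ := exists_LZ s hl hf
      have hzD : z ∈ D := c.H_le_D (hl.Z_le hz)
      let fz : ↥(bigFK M U L) := ⟨⟨⟨z, c.D_le hzD⟩, hzD⟩,
        (mem_sup_left (hl.Z_le hz) : z ∈ bigF M U L)⟩
      rw [show f = j ⟨x, hx⟩ * fz from Subtype.ext (Subtype.ext (Subtype.ext e')), map_mul,
        hlB' fz (mem_sup_left hz), hall ⟨x, hx⟩, one_mul]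
    have hinj : Function.Injective (l.comp j) := by
      rw [← MonoidHom.ker_eq_bot_iff]
      rcases (Nat.dvd_prime c.p_prime).1
        (hl.L_card ▸ card_subgroup_dvd_card (l.comp j).ker) with h | h
      · exact card_eq_one.1 h
      · exfalso
        have htop : (l.comp j).ker = ⊤ := eq_top_of_card_eq _ (h.trans hl.L_card.symm)
        obtain ⟨x, hx⟩ := hlL
        exact hx ((htop.ge (mem_top x) : x ∈ (l.comp j).ker))
    refine ⟨ha, mem_centralizer_iff.2 fun x hx => ?_⟩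
    have hy : a * x * a⁻¹ ∈ L := conj_mem_of_normalizes hl.L_inv ha hx
    have hconj : val g * x * (val g)⁻¹ = a * x * a⁻¹ := by
      rw [e, show h₀ * a * x * (h₀ * a)⁻¹ = h₀ * (a * x * a⁻¹) * h₀⁻¹ by group,
        Abelian.H_comm s hh₀ (hl.L_le hy), mul_inv_cancel_right]
    have h1 : (l.comp j) ⟨a * x * a⁻¹, hy⟩ = (l.comp j) ⟨x, hx⟩ := by
      show l (j ⟨a * x * a⁻¹, hy⟩) = l (j ⟨x, hx⟩)
      rw [← hg (j ⟨x, hx⟩)]
      congr 1
      exact Subtype.ext (Subtype.ext (Subtype.ext hconj.symm))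
    have h2 : a * x * a⁻¹ = x := congrArg Subtype.val (hinj h1)
    calc x * a = a * x * a⁻¹ * a := by rw [h2]
      _ = a * x := by group
  have heq : Cfsg.indFun (bigFK M U L) (fun f => (l f : ℂ)) = θ := by
    rw [Isometry.Inner.classInner_irr_eq hirr hθ] at hne
    exact of_not_not fun h => hne (if_neg h)
  refine ⟨?_, l, heq, hlB', hnH⟩
  rw [← heq, hdeg, index_bigF s hl]

/-- They induce irreducibly to `M`. -/
theorem ind_facts {θ : ↥(derivedIn M) → ℂ} (hθ : Cfsg.IsIrrCharacter ↥(derivedIn M) θ)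
    (hB : ∀ g ∈ smallBK M U Z, θ g = θ 1) (hH : ∃ g ∈ hcK M U, θ g ≠ θ 1)
    (hau : (cenL U L).relIndex U ≠ (cen M U).relIndex U) :
    Cfsg.IsIrrCharacter ↥M (Cfsg.indFun (derivedIn M) θ) ∧
      Cfsg.indFun (derivedIn M) θ 1 = ((Nat.card W₁ * (cenL U L).relIndex U : ℕ) : ℂ) ∧
      θ ≠ fun _ => 1 := by
  have c := ctx_of_setup s
  haveI := K_normal c
  haveI : Fintype ↥(derivedIn M) := Fintype.ofFinite _
  have hd := (theta_facts s hl hθ hB hH).1
  have hne : θ ≠ fun _ => 1 := by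
    obtain ⟨g, -, hg⟩ := hH
    intro h
    exact hg (by rw [h])
  have hp := Theta.pLike s
  obtain ⟨hirr, -, -⟩ := Cfsg.Agent.S1513.result (derivedIn M) (W₁.subgroupOf M) (W₂.subgroupOf M)
    hp.inf_eq hp.sup_eq hp.ne₁ hp.cyclic₁ hp.hall hp.ne₂ hp.cyclic₂ hp.le hp.cent hp.odd
  refine ⟨hirr θ hθ ?_, ?_, hne⟩
  · by_contra hcon
    push Not at hcon
    have hinv : Theta.Invariant M W₁ θ := fun x hx => hcon x hx
    have := (Theta.invariant_facts s hθ hne hinv).1
    rw [hd] at this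
    exact hau (by exact_mod_cast this)
  · rw [Induced.Basic.indFun_one, hd, K_index c]
    push_cast
    rfl

/-- Induction to `M` is injective on them. -/
theorem ind_inj {θ θ' : ↥(derivedIn M) → ℂ} (hθ : Cfsg.IsIrrCharacter ↥(derivedIn M) θ)
    (hB : ∀ g ∈ smallBK M U Z, θ g = θ 1) (hH : ∃ g ∈ hcK M U, θ g ≠ θ 1)
    (hθ' : Cfsg.IsIrrCharacter ↥(derivedIn M) θ') (hB' : ∀ g ∈ smallBK M U Z, θ' g = θ' 1)
    (e : Cfsg.indFun (derivedIn M) θ = Cfsg.indFun (derivedIn M) θ') : θ = θ' := by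
  classical
  have c := ctx_of_setup s
  haveI := K_normal c
  haveI : Fintype ↥(derivedIn M) := Fintype.ofFinite _
  have hcl := Induced.Basic.isClassFunction_indFun (derivedIn M) θ'
  obtain ⟨x, hx⟩ := Isometry.InducedSystem.constituent_eq (derivedIn M) hθ hθ' (by
    rw [e]
    intro h0
    have h1 := Induced.Basic.frobenius_reciprocity' (derivedIn M) θ' hcl
    have h2 := congrFun (Isometry.Inner.eq_zero_of_classInner_self (h1.trans (by convert h0))) 1
    rw [Induced.Basic.indFun_one] at h2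
    obtain ⟨n, hn0, hn⟩ := Characters.Basic.exists_degree_pos ⟨θ', hθ'⟩
    rw [show θ' 1 = (n : ℂ) from hn, Pi.zero_apply] at h2
    have h3 : (derivedIn M).index * n = 0 := by exact_mod_cast h2
    exact hn0.ne' ((Nat.mul_eq_zero.1 h3).resolve_left index_ne_zero_of_finite))
  have hn : W₁ ≤ normalizer ((D : Subgroup G) : Set G) := c.W₁_le.trans c.D_normal
  obtain ⟨w, hw, d, hd, exd⟩ := Coprime.exists_mul_of_mem_sup hn
    (show (x : G) ∈ W₁ ⊔ D by rw [sup_comm, isComplIn_sup c.typeP.W₁_compl]; exact x.2)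
  by_cases hw1 : w = 1
  · subst hw1
    rw [hx, Clifford.Basic.conjC_of_mem (derivedIn M)
      (Characters.Basic.isClassFunction_irr ⟨θ, hθ⟩) (show x ∈ derivedIn M by
        show (x : G) ∈ D
        rw [exd, one_mul]; exact hd)]
  exfalso
  obtain ⟨-, l, hlθ, hlB, hnH⟩ := theta_facts s hl hθ hB hH
  refine hnH fun f hf => ?_
  -- the elements of `H` where `l` is trivial form a subgroup
  let P : Subgroup G :=
    { carrier := {g | ∃ f : ↥(bigFK M U L), val (f : ↥(derivedIn M)) = g ∧ l f = 1}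
      mul_mem' := by
        rintro _ _ ⟨f, rfl, hf⟩ ⟨f', rfl, hf'⟩
        exact ⟨f * f', rfl, by rw [map_mul, hf, hf', one_mul]⟩
      one_mem' := ⟨1, rfl, map_one l⟩
      inv_mem' := by
        rintro _ ⟨f, rfl, hf⟩
        exact ⟨f⁻¹, rfl, by rw [map_inv, hf, inv_one]⟩ }
  have hP : Z ⊔ Z.map (MulAut.conj w).toMonoidHom ≤ P := by
    refine sup_le (fun z hz => ?_) ?_
    · exact ⟨⟨⟨⟨z, c.H_le (hl.Z_le hz)⟩, c.H_le_D (hl.Z_le hz)⟩,
        (mem_sup_left (hl.Z_le hz) : z ∈ bigF M U L)⟩, rfl, hlB _ (mem_sup_left hz)⟩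
    rintro _ ⟨z, hz, rfl⟩
    have hwz : w * z * w⁻¹ ∈ H := conj_mem_of_normalizes c.H_normal (c.W₁_le hw) (hl.Z_le hz)
    refine ⟨⟨⟨⟨w * z * w⁻¹, c.H_le hwz⟩, c.H_le_D hwz⟩, (mem_sup_left hwz : _ ∈ bigF M U L)⟩,
      by simp, Linear.of_ind_kernel l ?_⟩
    rw [hlθ]
    have hz' : d⁻¹ * z * d ∈ Z := by
      have := conj_mem_of_normalizes (D_normalizes_Z s hl) (inv_mem hd) hz
      simpa using this
    have h1 := hB' ⟨⟨d⁻¹ * z * d, c.H_le (hl.Z_le hz')⟩, c.H_le_D (hl.Z_le hz')⟩ (mem_sup_left hz')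
    rw [hx] at h1
    simp only [Clifford.Basic.conjC] at h1
    convert h1 using 2
    · exact Subtype.ext (Subtype.ext (by simp [exd, mul_assoc]))
    · exact Subtype.ext (Subtype.ext (by simp))
  obtain ⟨f', hf', hlf⟩ := hP (Z_conj s hl hw hw1 hf)
  rwa [show f = f' from Subtype.ext (Subtype.ext (Subtype.ext hf'.symm))]

end Facts

end Cfsg.Agent.Lib.OddOrder.PF11.NonGaloisGroup
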