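import Cfsg.Agent.Lib.OddOrder.PF11.Column
import Cfsg.Agent.Lib.OddOrder.PF11.NonGaloisGroup
import Cfsg.Agent.Lib.Isometry.EqualDegree

/-!
# Peterfalvi §11: `U` is irreducible on `H` ((11.9))

Otherwise the coherent family of the `Ind θ` of `NonGaloisGroup`, compared with the `μ_ψ` and with
`ζ ∈ S(HC)`, gives too many large coefficients of `τ (a ζ - ξ)` on the cyclic TI family.
-/

set_option autoImplicit false
set_option linter.style.haveILetI false
set_option linter.unusedSectionVars false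

namespace Cfsg.Agent.Lib.OddOrder.PF11.NonGalois

open scoped ComplexConjugate Classical
open Subgroup
open Cfsg.Agent.Lib
open Cfsg.Agent.Lib.CyclicTI (IsP IsQ)
open Cfsg.Agent.Lib.OddOrder.PF11.Group (Ctx)
open Cfsg.Agent.Lib.OddOrder.PF11.Bound
open Cfsg.Agent.Lib.OddOrder.PF11.Chars
open Cfsg.Agent.Lib.OddOrder.PF11.Tau
open Cfsg.Agent.Lib.OddOrder.PF11.Eta
open Cfsg.Agent.Lib.OddOrder.PF11.NonGaloisGroup
open Cfsg.Agent.Lib.OddOrder.PF11.Theta (val hcK)
open Cfsg.Agent.Lib.OddOrder.Interface.PF11 (derivedIn tau Setup)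
open Cfsg.Agent.Lib.Isometry.InducedSystem (above theta mem_theta)
open Cfsg.Agent.Lib.Isometry.Inner (gen_of_irr gen_add gen_sub gen_classFun gen_intCast_smul gen_sum)
open Cfsg.Agent.Lib.Induced.Basic (classInner_add_left classInner_add_right classInner_sub_left
  classInner_sub_right classInner_smul_left classInner_smul_right classInner_conj_symm)
open Cfsg.Agent.Lib.Characters.Basic (classInner_sum_left classInner_sum_right)

universe u

variable {G : Type u} [_root_.Group G] [Fintype G] {M W₁ U W₂ : Subgroup G}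

section Facts
variable [Fintype ↥M] (s : Setup M W₁ U W₂)

include s

theorem hc_nonempty : (above (derivedIn M) (hcM M U)).Nonempty := by
  obtain ⟨m, hm, hm0⟩ := exists_m s
  exact Finset.card_pos.1 (by rw [Column.card_hc s hm]; exact hm0)

/-- A family of characters of degree `q a` attached to a line. -/
theorem exists_family {L Z : Subgroup G} (hl : Line M W₁ U W₂ L Z)
    (hau : (cenL U L).relIndex U ≠ (cen M U).relIndex U) :
    ∃ Ξ : Finset (↥M → ℂ),
      (∀ ξ ∈ Ξ, Cfsg.IsIrrCharacter ↥M ξ ∧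
        ξ 1 = ((Nat.card W₁ * (cenL U L).relIndex U : ℕ) : ℂ) ∧ (∀ x ∉ derivedIn M, ξ x = 0) ∧
        ξ ∈ S (⊥ : Subgroup ↥M)) ∧
      (∀ ξ ∈ Ξ, Cfsg.conjFun ξ ∈ Ξ) ∧
      Ξ.card * (cenL U L).relIndex U ^ 2 = (Nat.card W₂ - 1) * (cen M U).relIndex U := by
  have c := ctx_of_setup s
  haveI := K_normal c
  haveI : Fintype ↥(derivedIn M) := Fintype.ofFinite _
  haveI : (smallBK M U Z).Normal := normal_val (smallB_normal s hl)
  haveI : (hcK M U).Normal := normal_val (c.D_le.trans (hc_normal c))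
  set Θ := Isometry.Inflate.layer (hcK M U) (smallBK M U Z) with hΘ
  have hmem : ∀ θ ∈ Θ, Cfsg.IsIrrCharacter ↥(derivedIn M) θ ∧
      (∀ g ∈ smallBK M U Z, θ g = θ 1) ∧ ∃ g ∈ hcK M U, θ g ≠ θ 1 := fun θ h =>
    Isometry.Inflate.mem_layer.1 h
  have hBh : smallBK M U Z ≤ hcK M U := fun x hx => smallB_le_hc s hl hx
  have hcard : Θ.card * (cenL U L).relIndex U ^ 2 = (Nat.card W₂ - 1) * (cen M U).relIndex U := by
    have h := Isometry.Inflate.sum_sq_layer hBh
    rw [Finset.sum_congr rfl (fun θ hθ => by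
      rw [(theta_facts s hl (hmem θ hθ).1 (hmem θ hθ).2.1 (hmem θ hθ).2.2).1]),
      Finset.sum_const, index_smallB s hl, Theta.u_eq_index s, nsmul_eq_mul] at h
    have h' : (Θ.card * (cenL U L).relIndex U ^ 2 + (cen M U).relIndex U : ℕ) =
        Nat.card W₂ * (cen M U).relIndex U := by
      apply Nat.cast_injective (R := ℂ)
      push_cast at h ⊢
      rw [sq]
      linear_combination h
    rw [Nat.sub_mul, one_mul]
    omega
  refine ⟨Θ.image (Cfsg.indFun (derivedIn M)), fun ξ hξ => ?_, fun ξ hξ => ?_, ?_⟩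
  · obtain ⟨θ, hθ, rfl⟩ := Finset.mem_image.1 hξ
    obtain ⟨h1, h2, h3⟩ := hmem θ hθ
    obtain ⟨i, d, hne⟩ := ind_facts s hl h1 h2 h3 hau
    refine ⟨i, d, fun x hx => Induced.Basic.indFun_eq_zero_of_not_mem_normal _ _ hx,
      θ, h1, hne, fun k hk => ?_, rfl⟩
    rw [show k = 1 from Subtype.ext (mem_bot.1 hk)]
  · obtain ⟨θ, hθ, rfl⟩ := Finset.mem_image.1 hξ
    obtain ⟨h1, h2, g, hg, h3⟩ := hmem θ hθ
    refine Finset.mem_image.2 ⟨Cfsg.conjFun θ, Isometry.Inflate.mem_layer.2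
      ⟨Isometry.Inner.conjFun_irr h1, fun x hx => congrArg (starRingEnd ℂ) (h2 x hx), g, hg,
        fun e => h3 ((starRingEnd ℂ).injective e)⟩, ?_⟩
    funext x
    exact (Induced.Basic.indFun_conj_fun (derivedIn M) θ x).symm
  · rw [Finset.card_image_of_injOn fun θ hθ θ' hθ' e =>
      ind_inj s hl (hmem θ hθ).1 (hmem θ hθ).2.1 (hmem θ hθ).2.2 (hmem θ' hθ').1 (hmem θ' hθ').2.1 e]
    exact hcard

variable {μ : (↥(W₁ ⊔ W₂) →* ℂˣ) → ↥M → ℂ} (hμ : Mu μ U)
  {η : (↥(W₁ ⊔ W₂) →* ℂˣ) → (G → ℂ)} (hη : Cfsg.IsCyclicTIFamily W₁ W₂ η)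

include hμ hη

/-- No proper non-trivial subgroup of `H` is normalized by `U`. -/
theorem irreducible {X : Subgroup G} (hX : X ≤ Cfsg.fittingHallOf M)
    (hXU : U ≤ normalizer (X : Set G)) : X = ⊥ ∨ X = Cfsg.fittingHallOf M := by
  have c := ctx_of_setup s
  have hW := s.typeP.selfNormalizing
  haveI := K_normal c
  by_contra hcon
  push Not at hcon
  obtain ⟨L, Z, hl⟩ := exists_line s hcon.1 (lt_of_le_of_ne hX hcon.2) hXU
  obtain ⟨ζ, hζ⟩ := hc_nonempty s
  obtain ⟨hrow, hpq⟩ := Column.row_const s hμ hη hζ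
  obtain ⟨iζ, dζ, oζ⟩ := mem_hc s hζ
  obtain ⟨ha3, ha2⟩ := a_facts s hl
  have hTa := T_mul_a s hl
  obtain ⟨-, -, huq⟩ := u_facts s
  have hau : (cenL U L).relIndex U ≠ (cen M U).relIndex U := by omega
  obtain ⟨Ξ, hΞ, hΞc, hΞcard⟩ := exists_family s hl hau
  obtain ⟨m, hm, hm0⟩ := exists_m s
  set a := (cenL U L).relIndex U with ha
  set k := (cen M U).relIndex (cenL U L) with hk
  set u := (cen M U).relIndex U with hu
  -- the number of members
  have hN : 2 * k ≤ Ξ.card := by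
    refine Nat.le_of_mul_le_mul_right (c := a ^ 2) ?_ (by positivity)
    rw [hΞcard, ← hTa]
    calc 2 * k * a ^ 2 = (2 * a) * (k * a) := by ring
      _ ≤ (Nat.card W₂ - 1) * (k * a) := Nat.mul_le_mul_right _ (by omega)
  have hk0 : 0 < k := Nat.pos_of_ne_zero index_ne_zero_of_finite
  obtain ⟨ξ, hξ⟩ : Ξ.Nonempty := Finset.card_pos.1 (by omega)
  obtain ⟨iξ, dξ, oξ, hξS⟩ := hΞ ξ hξ
  -- coherence
  obtain ⟨R₀, hS⟩ := s.system
  have hsys := Isometry.Iterate.sys_mono hS (U := (↑Ξ : Set (↥M → ℂ))) (fun x hx => (hΞ x hx).2.2.2)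
    ⟨ξ, hξ⟩ hΞc
  obtain ⟨-, T, hT, hag⟩ := Isometry.EqualDegree.coherent_of_equal_degree hsys
    (fun x hx y hy => by rw [(hΞ x hx).2.1, (hΞ y hy).2.1])
  have hsub : ∀ {x}, x ∈ Ξ → x ∈ Cfsg.zspan (↑Ξ : Set (↥M → ℂ)) := fun h =>
    Isometry.Inner.subset_zspan _ h
  have hTg : ∀ x ∈ Ξ, Cfsg.IsGeneralizedCharacter G (T x) := fun x hx => hT.2.2.2 x (hsub hx)
  have hTi : ∀ x ∈ Ξ, ∀ y ∈ Ξ, Cfsg.classInner (T x) (T y) = if x = y then 1 else 0 :=
    fun x hx y hy => by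
      rw [hT.2.2.1 x (hsub hx) y (hsub hy),
        Isometry.Inner.classInner_irr_eq (hΞ x hx).1 (hΞ y hy).1]
  have hdg : ∀ x ∈ Ξ, ∀ y ∈ Ξ, Cfsg.IsGeneralizedCharacter ↥M (x - y) ∧ Supp M (x - y) ∧
      (x - y) 1 = 0 ∧ ∀ z ∉ derivedIn M, (x - y) z = 0 := by
    intro x hx y hy
    have h1 : (x - y) 1 = 0 := by rw [Pi.sub_apply, (hΞ x hx).2.1, (hΞ y hy).2.1, sub_self]
    have h2 : ∀ z ∉ derivedIn M, (x - y) z = 0 := fun z hz => by
      rw [Pi.sub_apply, (hΞ x hx).2.2.1 z hz, (hΞ y hy).2.2.1 z hz, sub_self]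
    exact ⟨gen_sub (gen_of_irr (hΞ x hx).1) (gen_of_irr (hΞ y hy).1), supp_of_K s h1 h2, h1, h2⟩
  have hTd : ∀ x ∈ Ξ, ∀ y ∈ Ξ, tau M (x - y) = T x - T y := by
    intro x hx y hy
    have hmem : x - y ∈ Cfsg.zspanOn (↑Ξ : Set (↥M → ℂ)) {1}ᶜ := Isometry.Inner.mem_zspanOn_one.2
      ⟨Isometry.Coherence.zspan_sub (hsub hx) (hsub hy), (hdg x hx y hy).2.2.1⟩
    rw [← hag _ hmem]
    have h := hT.1 (x - y) hmem.1 y (hsub hy)
    rw [sub_add_cancel] at h
    rw [h, add_sub_cancel_right]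
  obtain ⟨ξ', hξ', hξne⟩ : ∃ x ∈ Ξ, x ≠ ξ := ⟨_, hΞc ξ hξ, hS.conj_ne ξ hξS⟩
  have hTperp : ∀ x ∈ Ξ, ∀ ω, Cfsg.classInner (T x) (η ω) = 0 := by
    intro x hx ω
    have hsame : ∀ y ∈ Ξ, Cfsg.classInner (η ω) (T y) = Cfsg.classInner (η ω) (T ξ) := by
      intro y hy
      obtain ⟨g, -, g1, g2⟩ := hdg y hy ξ hξ
      have hn : ∃ n : ℤ, Cfsg.classInner (y - ξ) (y - ξ) = (n : ℂ) ∧ n ≤ 2 := by
        refine ⟨if y = ξ then 0 else 2, ?_, by split_ifs <;> norm_num⟩
        rw [classInner_sub_left, classInner_sub_right, classInner_sub_right,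
          Isometry.Inner.classInner_irr_eq (hΞ y hy).1 (hΞ y hy).1,
          Isometry.Inner.classInner_irr_eq (hΞ y hy).1 iξ,
          Isometry.Inner.classInner_irr_eq iξ (hΞ y hy).1, Isometry.Inner.classInner_irr_eq iξ iξ]
        by_cases e : y = ξ
        · simp [e]
        · simp [e, Ne.symm e]; norm_num
      obtain ⟨n, hn, hn2⟩ := hn
      have h := perp_small s hη g g1 g2 hn hn2 ω
      rw [hTd y hy ξ hξ, classInner_sub_left, sub_eq_zero] at h
      rw [← classInner_conj_symm (η ω), ← classInner_conj_symm (η ω)] at h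
      exact (starRingEnd ℂ).injective h
    have hcξ := coef_spec (eta_gen hη ω) (hTg ξ hξ)
    have hb := (bessel_int ({ξ, ξ'} : Finset (↥M → ℂ)) T (fun _ => coef (η ω) (T ξ)) (v := η ω) (n := 1)
      (fun i hi j hj hne => by
        rw [hTi i ?_ j ?_, if_neg hne] <;>
          simp only [Finset.mem_insert, Finset.mem_singleton] at hi hj <;>
          [rcases hi with rfl | rfl; rcases hj with rfl | rfl] <;> assumption)
      (fun i hi => by
        rw [hTi i ?_ i ?_, if_pos rfl] <;>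
          simp only [Finset.mem_insert, Finset.mem_singleton] at hi <;>
          rcases hi with rfl | rfl <;> assumption)
      (fun i hi => by
        rw [hsame i ?_, hcξ]
        simp only [Finset.mem_insert, Finset.mem_singleton] at hi
        rcases hi with rfl | rfl <;> assumption)
      (by rw [hη.orthonormal, if_pos rfl, Int.cast_one])).1
    rw [Finset.sum_pair (Ne.symm hξne)] at hb
    have h0 : coef (η ω) (T ξ) = 0 := sq_eq_zero_iff.1 (by
      have := sq_nonneg (coef (η ω) (T ξ))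
      omega)
    rw [← classInner_conj_symm, hsame x hx, hcξ, h0]
    simp
  have hmuξ : ∀ ω, μ ω ≠ ξ := by
    intro ω e
    obtain ⟨φ, ψ, hφ, hψ, rfl⟩ := CyclicTI.exists_decomp hW ω
    have h1 := congrFun e 1
    rw [dξ] at h1
    have hq3 := c.three_le_q
    by_cases hψ1 : ψ = 1
    · rw [hψ1, hom_mul_one, mu_row_one s hμ hφ] at h1
      have h2 : 1 = Nat.card W₁ * a := by exact_mod_cast h1
      have := Nat.le_mul_of_pos_right (Nat.card W₁) (show 0 < a by omega)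
      omega
    · rw [mu_deg s hμ hφ hψ hψ1] at h1
      have h2 : u = Nat.card W₁ * a := by exact_mod_cast h1
      have h3 : Nat.card W₁ ∣ 1 := (Nat.dvd_add_right (dvd_mul_right _ m)).1 (hm ▸ h2 ▸ dvd_mul_right _ a)
      have := Nat.le_of_dvd one_pos h3
      omega
  have hcolξ : ∀ ψ, Cfsg.classInner (muCol M μ ψ) ξ = 0 ∧ Cfsg.classInner ξ (muCol M μ ψ) = 0 := by
    intro ψ
    have h : Cfsg.classInner (muCol M μ ψ) ξ = 0 := by
      rw [muCol_eq hμ, classInner_sum_left]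
      exact Finset.sum_eq_zero fun φ _ => by
        rw [Isometry.Inner.classInner_irr_eq (hμ.irr _) iξ, if_neg (hmuξ _)]
    exact ⟨h, by rw [← classInner_conj_symm, h, map_zero]⟩
  set b : (↥(W₁ ⊔ W₂) →* ℂˣ) → ↥M → ℂ := fun ψ => muCol M μ ψ - ((k : ℤ) : ℂ) • ξ with hb
  have hbg : ∀ ψ, Cfsg.IsGeneralizedCharacter ↥M (b ψ) := fun ψ =>
    gen_sub (muCol_gen s hμ ψ) (gen_intCast_smul (gen_of_irr iξ) _)
  have hboff : ∀ ψ, ∀ x ∉ derivedIn M, b ψ x = 0 := fun ψ x hx => by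
    simp only [hb, Pi.sub_apply, Pi.smul_apply, muCol_off s ψ hx, oξ x hx, smul_zero, sub_zero]
  have hbs : ∀ ψ, IsQ ψ → ψ ≠ 1 → Supp M (b ψ) := fun ψ hψ hψ1 => supp_of_K s (by
    simp only [hb, Pi.sub_apply, Pi.smul_apply, muCol_apply_one s hμ hψ hψ1, dξ, smul_eq_mul, ← hu,
      ← hTa]
    push_cast
    ring) (hboff ψ)
  set R : (↥(W₁ ⊔ W₂) →* ℂˣ) → (↥(W₁ ⊔ W₂) →* ℂˣ) → (↥(W₁ ⊔ W₂) →* ℂˣ) → ℤ :=
    fun ψ x y => coef (tau M (b ψ)) (η (x * y)) with hR
  -- norm of the array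
  have hRq : ∀ ψ, IsQ ψ → ψ ≠ 1 →
      ∑ x ∈ rows W₁ W₂, ∑ y ∈ cols W₁ W₂, R ψ x y ^ 2 ≤ (Nat.card W₁ : ℤ) := by
    intro ψ hψ hψ1
    have hvg := tau_gen s (hbg ψ) (hbs ψ hψ hψ1)
    have hn : Cfsg.classInner (tau M (b ψ)) (tau M (b ψ)) =
        (((Nat.card W₁ : ℤ) + (k : ℤ) ^ 2 : ℤ) : ℂ) := by
      rw [tau_inner s (gen_classFun (hbg ψ)) (hbs ψ hψ hψ1) (gen_classFun (hbg ψ))]
      simp only [hb, classInner_sub_left, classInner_sub_right, classInner_smul_left,
        classInner_smul_right, (hcolξ ψ).1, (hcolξ ψ).2, muCol_inner s hμ hψ hψ,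
        Isometry.Inner.classInner_irr_eq iξ iξ, if_true, map_intCast]
      push_cast
      ring
    set e := coef (tau M (b ψ)) (T ξ') with he
    have hcoef : ∀ x ∈ Ξ, Cfsg.classInner (tau M (b ψ)) (T x) =
        ((e - if x = ξ then (k : ℤ) else 0 : ℤ) : ℂ) := by
      intro x hx
      obtain ⟨g, gs, -, -⟩ := hdg x hx ξ' hξ'
      have h := tau_inner s (gen_classFun (hbg ψ)) (hbs ψ hψ hψ1) (gen_classFun g)
      rw [hTd x hx ξ' hξ', classInner_sub_right, coef_spec hvg (hTg ξ' hξ'), ← he] at h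
      simp only [hb, classInner_sub_left, classInner_sub_right, classInner_smul_left] at h
      have hμx : ∀ y ∈ Ξ, Cfsg.classInner (muCol M μ ψ) y = 0 := by
        intro y hy
        rw [muCol_eq hμ, classInner_sum_left]
        refine Finset.sum_eq_zero fun φ _ => ?_
        rw [Isometry.Inner.classInner_irr_eq (hμ.irr _) (hΞ y hy).1, if_neg]
        intro e1
        have e2 := congrFun e1 1
        rw [(hΞ y hy).2.1, ← dξ] at e2
        obtain ⟨φ', ψ', hφ', hψ', e3⟩ := CyclicTI.exists_decomp hW (φ * ψ)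
        rw [e3, dξ] at e2
        by_cases h1 : ψ' = 1
        · rw [h1, hom_mul_one, mu_row_one s hμ hφ'] at e2
          have h2 : 1 = Nat.card W₁ * a := by exact_mod_cast e2
          have := Nat.le_mul_of_pos_right (Nat.card W₁) (show 0 < a by omega)
          have := c.three_le_q
          omega
        · rw [mu_deg s hμ hφ' hψ' h1] at e2
          have h2 : u = Nat.card W₁ * a := by exact_mod_cast e2
          have h3 : Nat.card W₁ ∣ 1 :=
            (Nat.dvd_add_right (dvd_mul_right _ m)).1 (hm ▸ h2 ▸ dvd_mul_right _ a)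
          have := Nat.le_of_dvd one_pos h3
          have := c.three_le_q
          omega
      rw [hμx x hx, hμx ξ' hξ', Isometry.Inner.classInner_irr_eq iξ (hΞ x hx).1,
        Isometry.Inner.classInner_irr_eq iξ (hΞ ξ' hξ').1, if_neg (Ne.symm hξne),
        sub_eq_iff_eq_add] at h
      rw [h]
      by_cases e1 : x = ξ
      · rw [if_pos e1, if_pos e1.symm]; push_cast; ring
      · rw [if_neg e1, if_neg (Ne.symm e1)]; push_cast; ring
    have hle := (bessel_grid hη Ξ T _ hvg (fun i hi j hj hne => by rw [hTi i hi j hj, if_neg hne])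
      (fun i hi => by rw [hTi i hi i hi, if_pos rfl]) hTperp hcoef hn).1
    have hsum : ∑ x ∈ Ξ, (e - if x = ξ then (k : ℤ) else 0) ^ 2 =
        (Ξ.card : ℤ) * e ^ 2 - 2 * k * e + (k : ℤ) ^ 2 := by
      rw [Finset.sum_congr rfl
        (g := fun x => e ^ 2 + if x = ξ then (k : ℤ) ^ 2 - 2 * k * e else 0)
        fun x _ => by split_ifs <;> ring, Finset.sum_add_distrib, Finset.sum_ite_eq', if_pos hξ,
        Finset.sum_const, nsmul_eq_mul]
      ring
    rw [hsum] at hle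
    have hN' : (2 : ℤ) * k ≤ (Ξ.card : ℤ) := by exact_mod_cast hN
    have hnn : 0 ≤ e * ((Ξ.card : ℤ) * e - 2 * k) := by
      rcases le_or_gt e 0 with h | h
      · exact mul_nonneg_of_nonpos_of_nonpos h (by nlinarith)
      · exact mul_nonneg h.le (by nlinarith)
    nlinarith
  have hgrid : ∀ ψ, IsQ ψ → ψ ≠ 1 → ∀ x y, IsP x → IsQ y →
      R ψ x y = (coef (tau M (b ψ)) (η x) - coef (tau M (b ψ)) (η 1)) + coef (tau M (b ψ)) (η y) := by
    intro ψ hψ hψ1 x y hx hy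
    refine grid hη hW (tau_gen s (hbg ψ) (hbs ψ hψ hψ1)) (fun w h₁ h₂ => ?_) hx hy
    rw [tau_V s (gen_classFun (hbg ψ)) w h₁ h₂ (W_le s w.2)]
    exact hboff ψ _ (not_mem_K s w h₂)
  have hdiff : ∀ j l, IsQ j → IsQ l → j ≠ 1 → l ≠ 1 → ∀ x y, IsP x → IsQ y →
      R j x y - R l x y = (if y = j then 1 else 0) - (if y = l then 1 else 0) := by
    intro j l hj hl' hj1 hl1 x y hx hy
    have e1 : b j = b l + ∑ φ ∈ rows W₁ W₂, (μ (φ * j) - μ (φ * l)) := by
      simp only [hb, muCol_eq hμ, Finset.sum_sub_distrib]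
      abel
    have e2 : tau M (b j) = tau M (b l) + (etaCol η j - etaCol η l) := by
      rw [e1, tau_add, tau_sum,
        Finset.sum_congr rfl fun φ hφ => gamma s hμ hη (mem_rows.1 hφ) hj hl' hj1 hl1,
        Finset.sum_sub_distrib]
      rfl
    simp only [hR]
    rw [e2, coef_add (tau_gen s (hbg l) (hbs l hl' hl1))
      (gen_sub (etaCol_gen s hη j) (etaCol_gen s hη l)) (eta_gen hη _),
      coef_sub (etaCol_gen s hη j) (etaCol_gen s hη l) (eta_gen hη _),
      etaCol_coef s hη hx hy hj, etaCol_coef s hη hx hy hl']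
    ring
  have h11 : ∀ ψ, IsQ ψ → ψ ≠ 1 → R ψ 1 1 = 0 := by
    intro ψ hψ hψ1
    refine coef_eq ?_
    rw [hom_mul_one, hη.map_one, tau_inner_one s (gen_classFun (hbg ψ)) (hbs ψ hψ hψ1), ← hμ.one]
    simp only [hb, classInner_sub_left, classInner_smul_left]
    rw [Isometry.Inner.classInner_irr_eq iξ (hμ.irr 1), if_neg (Ne.symm (hmuξ 1)),
      ← classInner_conj_symm (μ 1) (muCol M μ ψ)]
    have := mu_muCol s hμ (φ := 1) (ψ := 1) (ψ' := ψ) CyclicTI.isP_one CyclicTI.isQ_one hψ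
    rw [hom_one_mul, if_neg (Ne.symm hψ1)] at this
    rw [this]
    simp
  -- each array is a signed column
  have hp4 : 4 ≤ Nat.card W₂ := by omega
  have hother : ∀ S₀ : Finset (↥(W₁ ⊔ W₂) →* ℂˣ), S₀.card ≤ 3 → ∃ y, IsQ y ∧ y ∉ S₀ := by
    intro S₀ hS₀
    obtain ⟨y, hy, hy'⟩ := Finset.exists_mem_notMem_of_card_lt_card
      (s := S₀) (t := cols W₁ W₂) (by rw [card_cols hW]; omega)
    exact ⟨y, mem_cols.1 hy, hy'⟩
  have hκ : 3 ≤ Fintype.card ↥(cols W₁ W₂) := by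
    rw [Fintype.card_coe, card_cols hW]; exact c.three_le_p
  have hcases : ∀ ψ, IsQ ψ → ψ ≠ 1 → (∀ x y y', IsP x → IsQ y → IsQ y' → R ψ x y = R ψ x y') ∨
      ∃ l e, IsQ l ∧ (e = 1 ∨ e = -1) ∧ ∀ x y, IsP x → IsQ y → R ψ x y = if y = l then e else 0 := by
    intro ψ hψ hψ1
    rcases Grid.small_cases
      (fun x : ↥(rows W₁ W₂) => coef (tau M (b ψ)) (η x.1) - coef (tau M (b ψ)) (η 1))
      (fun y : ↥(cols W₁ W₂) => coef (tau M (b ψ)) (η y.1)) hκ (by
        rw [Fintype.card_coe, card_rows hW]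
        refine le_of_eq_of_le ?_ (hRq ψ hψ hψ1)
        rw [← Finset.sum_coe_sort (rows W₁ W₂)]
        refine Finset.sum_congr rfl fun x _ => ?_
        rw [← Finset.sum_coe_sort (cols W₁ W₂)]
        exact Finset.sum_congr rfl fun y _ => by
          rw [hgrid ψ hψ hψ1 x.1 y.1 (mem_rows.1 x.2) (mem_cols.1 y.2)])
      with h | ⟨l, e, he, hform⟩
    · refine Or.inl fun x y y' hx hy hy' => ?_
      rw [hgrid ψ hψ hψ1 x y hx hy, hgrid ψ hψ hψ1 x y' hx hy']
      exact congrArg _ (h ⟨y, mem_cols.2 hy⟩ ⟨y', mem_cols.2 hy'⟩)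
    · refine Or.inr ⟨l.1, e, mem_cols.1 l.2, he, fun x y hx hy => ?_⟩
      rw [hgrid ψ hψ hψ1 x y hx hy]
      refine (hform ⟨x, mem_rows.2 hx⟩ ⟨y, mem_cols.2 hy⟩).trans ?_
      by_cases e1 : y = l.1
      · rw [if_pos e1, if_pos (Subtype.ext e1)]
      · rw [if_neg e1, if_neg fun e2 => e1 (congrArg Subtype.val e2)]
  have hone := CyclicTI.isP_one (W₁ := W₁) (W₂ := W₂)
  have hcolumn : ∀ ψ, IsQ ψ → ψ ≠ 1 →
      ∃ l e, IsQ l ∧ (e = 1 ∨ e = -1) ∧ ∀ x y, IsP x → IsQ y → R ψ x y = if y = l then e else 0 := by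
    intro j hj hj1
    refine (hcases j hj hj1).resolve_left fun hconst => ?_
    obtain ⟨l, hlQ, hl'⟩ := hother {1, j} (le_trans (Finset.card_le_two) (by norm_num))
    simp only [Finset.mem_insert, Finset.mem_singleton, not_or] at hl'
    obtain ⟨hl1, hlj⟩ := hl'
    have hd := hdiff j l hj hlQ hj1 hl1 1
    rcases hcases l hlQ hl1 with h | ⟨o, e, hoQ, he, h⟩
    · have e1 := hd l hone hlQ
      have e2 := hd 1 hone CyclicTI.isQ_one
      rw [if_neg hlj, if_pos rfl] at e1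
      rw [if_neg (Ne.symm hj1), if_neg (Ne.symm hl1)] at e2
      have := hconst 1 l 1 hone hlQ CyclicTI.isQ_one
      have := h 1 l 1 hone hlQ CyclicTI.isQ_one
      omega
    · obtain ⟨y, hyQ, hy⟩ := hother {o, j, l} Finset.card_le_three
      simp only [Finset.mem_insert, Finset.mem_singleton, not_or] at hy
      have e0 := hd y hone hyQ
      rw [h 1 y hone hyQ, if_neg hy.1, if_neg hy.2.1, if_neg hy.2.2] at e0
      have e1 := hd j hone hj
      rw [h 1 j hone hj, if_pos rfl, if_neg (Ne.symm hlj), hconst 1 j y hone hj hyQ] at e1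
      have e2 := hd l hone hlQ
      rw [h 1 l hone hlQ, if_pos rfl, if_neg hlj, hconst 1 l y hone hlQ hyQ] at e2
      by_cases h3 : j = o
      · rw [if_pos h3] at e1
        rw [if_neg (fun e' : l = o => hlj (e'.trans h3.symm))] at e2
        omega
      · rw [if_neg h3] at e1
        omega
  have hRcol : ∀ j, IsQ j → j ≠ 1 → ∀ x y, IsP x → IsQ y → R j x y = if y = j then 1 else 0 := by
    have hpos : ∀ j, IsQ j → j ≠ 1 → ∃ e, (e = 1 ∨ e = -1) ∧
        ∀ x y, IsP x → IsQ y → R j x y = if y = j then e else 0 := by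
      intro j hj hj1
      obtain ⟨l₀, e₀, hl₀, he₀, h₀⟩ := hcolumn j hj hj1
      suffices hsuf : l₀ = j from ⟨e₀, he₀, hsuf ▸ h₀⟩
      by_contra hne
      have hkey : ∀ i, IsQ i → i ≠ 1 → i ≠ j → l₀ = i := by
        intro i hi hi1 hij
        obtain ⟨l₁, e₁, hl₁, he₁, h₁⟩ := hcolumn i hi hi1
        have d1 := hdiff j i hj hi hj1 hi1 1 j hone hj
        rw [h₀ 1 j hone hj, h₁ 1 j hone hj, if_neg (Ne.symm hne), if_pos rfl,
          if_neg (Ne.symm hij)] at d1
        have hl₁j : j = l₁ := by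
          by_contra h
          rw [if_neg h] at d1
          omega
        rw [if_pos hl₁j] at d1
        have d2 := hdiff j i hj hi hj1 hi1 1 i hone hi
        rw [h₀ 1 i hone hi, h₁ 1 i hone hi, if_neg (fun h : i = l₁ => hij (h.trans hl₁j.symm)),
          if_neg hij, if_pos rfl] at d2
        by_contra h
        rw [if_neg (Ne.symm h)] at d2
        omega
      obtain ⟨i, hiQ, hi⟩ := hother {1, j, l₀} Finset.card_le_three
      simp only [Finset.mem_insert, Finset.mem_singleton, not_or] at hi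
      exact hi.2.2 (hkey i hiQ hi.1 hi.2.1).symm
    intro j hj hj1
    obtain ⟨e, he, h⟩ := hpos j hj hj1
    obtain ⟨i, hiQ, hi⟩ := hother {1, j} (le_trans (Finset.card_le_two) (by norm_num))
    simp only [Finset.mem_insert, Finset.mem_singleton, not_or] at hi
    obtain ⟨e', -, h'⟩ := hpos i hiQ hi.1
    have d1 := hdiff j i hj hiQ hj1 hi.1 1 j hone hj
    rw [h 1 j hone hj, h' 1 j hone hj, if_pos rfl, if_neg (Ne.symm hi.2), sub_zero, if_pos rfl,
      if_neg (Ne.symm hi.2), sub_zero] at d1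
    subst d1
    exact h
  -- compare with `ζ`
  obtain ⟨Gf, hGg, -, -, hkey, -⟩ := Column.exists_G s hμ hη hζ hm
  obtain ⟨hαg, hαs⟩ := alpha_facts s hμ hζ
  set v := ((a : ℤ) : ℂ) • ζ - ξ with hv
  have hvg : Cfsg.IsGeneralizedCharacter ↥M v :=
    gen_sub (gen_intCast_smul (gen_of_irr iζ) _) (gen_of_irr iξ)
  have hvs : Supp M v := supp_of_K s
    (by rw [hv, Pi.sub_apply, Pi.smul_apply, dζ, dξ, smul_eq_mul]; push_cast; ring)
    (fun x hx => by rw [hv, Pi.sub_apply, Pi.smul_apply, oζ x hx, oξ x hx, smul_zero, sub_zero])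
  have hVg := tau_gen s hvg hvs
  obtain ⟨j, hjQ, hj⟩ := hother {1} (by simp)
  rw [Finset.mem_singleton] at hj
  have hbig : ∀ y ∈ (cols W₁ W₂).erase 1, (a : ℤ) ^ 2 ≤ coef (tau M v) (η (1 * y)) ^ 2 := by
    intro y hy
    obtain ⟨hy1, hyQ⟩ := Finset.mem_erase.1 hy
    have hyQ := mem_cols.1 hyQ
    have e1 : b j = (muCol M μ j - ((u : ℤ) : ℂ) • ζ) + ((k : ℤ) : ℂ) • v := by
      rw [hb, hv, ← hTa]
      funext x
      simp only [Pi.add_apply, Pi.sub_apply, Pi.smul_apply, smul_eq_mul]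
      push_cast
      ring
    have hbeta := Column.beta_eq s hμ hη hζ hm hkey hjQ hj
    rw [← hu] at hbeta
    have e2 : tau M (b j) = ((Nat.card W₁ : ℤ) : ℂ) • Gf + etaCol η j - etaCol η 1 +
        tau M (muCol M μ 1 - ζ) + ((k : ℤ) : ℂ) • tau M v := by
      rw [e1, tau_add, hbeta, tau_smul]
    have hαy : coef (tau M (muCol M μ 1 - ζ)) (η (1 * y)) = 1 := by
      rw [hrow 1 y hone hyQ]
      exact coef_eq (by rw [hη.map_one, alpha_principal s hμ hζ, Int.cast_one])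
    have e3 := hRcol j hjQ hj 1 y hone hyQ
    simp only [hR] at e3
    rw [e2, coef_add (gen_add (gen_sub (gen_add (gen_intCast_smul hGg _) (etaCol_gen s hη j))
        (etaCol_gen s hη 1)) (tau_gen s hαg hαs)) (gen_intCast_smul hVg _) (eta_gen hη _),
      coef_add (gen_sub (gen_add (gen_intCast_smul hGg _) (etaCol_gen s hη j))
        (etaCol_gen s hη 1)) (tau_gen s hαg hαs) (eta_gen hη _),
      coef_sub (gen_add (gen_intCast_smul hGg _) (etaCol_gen s hη j)) (etaCol_gen s hη 1) (eta_gen hη _),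
      coef_add (gen_intCast_smul hGg _) (etaCol_gen s hη j) (eta_gen hη _),
      coef_smul hGg (eta_gen hη _), coef_smul hVg (eta_gen hη _), hαy,
      etaCol_coef s hη hone hyQ hjQ, etaCol_coef s hη hone hyQ CyclicTI.isQ_one, if_neg hy1] at e3
    set g := coef Gf (η (1 * y))
    set B := coef (tau M v) (η (1 * y))
    have e4 : (Nat.card W₁ : ℤ) * g + 1 + (k : ℤ) * B = 0 := by linarith
    have hku : (k : ℤ) * a = (Nat.card W₁ : ℤ) * m + 1 := by exact_mod_cast hTa.trans hm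
    have e5 : (a : ℤ) + B = (Nat.card W₁ : ℤ) * (-((a : ℤ) * g) - m * B) := by
      linear_combination (a : ℤ) * e4 - B * hku
    by_contra hlt
    push Not at hlt
    have ha0 : (0 : ℤ) ≤ a := Nat.cast_nonneg a
    obtain ⟨h1, h2⟩ := abs_lt.1 (abs_lt_of_sq_lt_sq hlt ha0)
    have hq : 2 * (a : ℤ) < (Nat.card W₁ : ℤ) := by
      have : 2 * a < Nat.card W₁ := by omega
      exact_mod_cast this
    set z := -((a : ℤ) * g) - m * B
    rcases lt_trichotomy z 0 with hz | hz | hz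
    · nlinarith
    · rw [hz, mul_zero] at e5
      omega
    · nlinarith
  have hvn : Cfsg.classInner (tau M v) (tau M v) = (((a : ℤ) ^ 2 + 1 : ℤ) : ℂ) := by
    have hne : ζ ≠ ξ := by
      intro e
      have h1 := congrFun e 1
      rw [dζ, dξ] at h1
      have h2 : Nat.card W₁ = Nat.card W₁ * a := by exact_mod_cast h1
      have h3 : a = 1 := Nat.eq_of_mul_eq_mul_left Nat.card_pos (h2.symm.trans (mul_one _).symm)
      omega
    rw [tau_inner s (gen_classFun hvg) hvs (gen_classFun hvg), hv]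
    simp only [classInner_sub_left, classInner_sub_right, classInner_smul_left,
      classInner_smul_right, Isometry.Inner.classInner_irr_eq iζ iζ,
      Isometry.Inner.classInner_irr_eq iζ iξ, Isometry.Inner.classInner_irr_eq iξ iζ,
      Isometry.Inner.classInner_irr_eq iξ iξ, if_neg hne, if_neg hne.symm, if_true, map_intCast]
    push_cast
    ring
  have hle := (bessel_family hη hVg hvn).1
  have h1 : ∑ y ∈ cols W₁ W₂, coef (tau M v) (η (1 * y)) ^ 2 ≤
      ∑ x ∈ rows W₁ W₂, ∑ y ∈ cols W₁ W₂, coef (tau M v) (η (x * y)) ^ 2 :=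
    Finset.single_le_sum (f := fun x => ∑ y ∈ cols W₁ W₂, coef (tau M v) (η (x * y)) ^ 2)
      (fun x _ => Finset.sum_nonneg fun y _ => sq_nonneg _) (mem_rows.2 hone)
  have h2 := Finset.card_nsmul_le_sum _ _ _ hbig
  have h3 := Finset.sum_le_sum_of_subset_of_nonneg
    (f := fun y => coef (tau M v) (η (1 * y)) ^ 2) (Finset.erase_subset 1 (cols W₁ W₂))
    fun y _ _ => sq_nonneg _
  rw [Finset.card_erase_of_mem (mem_cols.2 CyclicTI.isQ_one), card_cols hW, nsmul_eq_mul] at h2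
  have h4 : (2 : ℤ) ≤ ((Nat.card W₂ - 1 : ℕ) : ℤ) := by
    have := c.three_le_p
    omega
  have h5 : (2 : ℤ) ≤ (a : ℤ) ^ 2 := by
    have h0 : (3 : ℤ) ≤ a := by exact_mod_cast ha3
    nlinarith
  nlinarith

end Facts

end Cfsg.Agent.Lib.OddOrder.PF11.NonGalois
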