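import Cfsg.Agent.Lib.CyclicTI.Invariant

/-!
# Peterfalvi §11: complements on the characters attached to a cyclic complement
-/

set_option autoImplicit false
set_option linter.style.haveILetI false
set_option linter.unusedSectionVars false

namespace Cfsg.Agent.Lib.OddOrder.PF11.PLike

open scoped ComplexConjugate
open Cfsg.Agent.Lib
open Cfsg.Agent.Lib.CyclicTI
open Cfsg.Agent.Lib.Induced.Basic Cfsg.Agent.Lib.Characters.Basic

universe u

variable {L : Type u} [_root_.Group L] [Fintype L] {K W₁ W₂ : Subgroup L} [hK : K.Normal]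
  (h : IsPLike K W₁ W₂)

/-- The characters of `L` attached to the linear characters of `W₁ W₂`, with signs. -/
structure Attached (μ : (↥(W₁ ⊔ W₂) →* ℂˣ) → (L → ℂ)) (δ : (↥(W₁ ⊔ W₂) →* ℂˣ) → ℂ) : Prop where
  inj : Function.Injective μ
  irr : ∀ ω, Cfsg.IsIrrCharacter L (μ ω)
  sign : ∀ ω, δ ω = 1 ∨ δ ω = -1
  diff : ∀ ω ω' : ↥(W₁ ⊔ W₂) →* ℂˣ, (∀ w : ↥(W₁ ⊔ W₂), (w : L) ∈ W₂ → ω w = ω' w) → δ ω = δ ω' ∧
    Cfsg.indFun (W₁ ⊔ W₂) (fun w => (ω w : ℂ) - (ω' w : ℂ)) = δ ω • (μ ω - μ ω')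
  val : ∀ ω, ∀ w : ↥(W₁ ⊔ W₂), (w : L) ∉ W₂ → μ ω w = δ ω * (ω w : ℂ)
  other : ∀ θ : L → ℂ, Cfsg.IsIrrCharacter L θ → (∀ ω, θ ≠ μ ω) →
    ∀ w : ↥(W₁ ⊔ W₂), (w : L) ∉ W₂ → θ w = 0
  cong : ∀ ω, ∃ n : ℤ, μ ω 1 - δ ω = n * (Nat.card W₁ : ℂ)

include h

theorem exists_attached : ∃ μ δ, Attached (W₁ := W₁) (W₂ := W₂) μ δ := by
  obtain ⟨μ, δ, a, b, c, d, e, f, g⟩ := h.exists_characters
  exact ⟨μ, δ, a, b, c, d, e, f, g⟩

variable {μ : (↥(W₁ ⊔ W₂) →* ℂˣ) → (L → ℂ)} {δ : (↥(W₁ ⊔ W₂) →* ℂˣ) → ℂ} (A : Attached μ δ)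

omit h in
theorem exists_ne_mem (h : IsPLike K W₁ W₂) : ∃ x : ↥(W₁ ⊔ W₂), (x : L) ∈ W₁ ∧ (x : L) ∉ W₂ := by
  obtain ⟨x, hx, hx1⟩ := W₁.bot_or_exists_ne_one.resolve_left h.ne₁
  exact ⟨⟨x, Subgroup.mem_sup_left hx⟩, hx, fun h2 => hx1 (eq_one_of_mem h.selfNormalizing hx h2)⟩

/-- A linear character is determined, sign included, by its values off `W₂`. -/
theorem unique {ω ω' : ↥(W₁ ⊔ W₂) →* ℂˣ} {c : ℂ} (hc : c = 1 ∨ c = -1)
    (he : ∀ w : ↥(W₁ ⊔ W₂), (w : L) ∉ W₂ → c * (ω w : ℂ) = (ω' w : ℂ)) : ω = ω' ∧ c = 1 := by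
  obtain ⟨x, hx1, hx2⟩ := exists_ne_mem h
  have hxx : ((x * x : ↥(W₁ ⊔ W₂)) : L) ∉ W₂ := by
    intro hm
    apply hx2
    have h1 : (x : L) * x ∈ W₁ ⊓ W₂ := ⟨mul_mem hx1 hx1, by simpa using hm⟩
    rw [h.selfNormalizing.2.2.1, Subgroup.mem_bot] at h1
    obtain ⟨k, hk⟩ := h.odd.of_dvd_nat (orderOf_dvd_natCard x)
    have hsq : x ^ 2 = 1 := by rw [sq]; exact Subtype.ext h1
    have h2 : x ^ orderOf x = 1 := pow_orderOf_eq_one x
    rw [hk, pow_add, pow_mul, hsq, one_pow, one_mul, pow_one] at h2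
    simp [h2, W₂.one_mem]
  have hc1 : c = 1 := by
    have e1 := he x hx2
    have e2 := he (x * x) hxx
    rw [map_mul, map_mul, Units.val_mul, Units.val_mul] at e2
    rcases hc with rfl | rfl
    · rfl
    · exfalso
      rw [← e1] at e2
      have hne : (ω x : ℂ) * (ω x : ℂ) ≠ 0 := mul_ne_zero (Units.ne_zero _) (Units.ne_zero _)
      apply hne
      linear_combination -(1 / 2 : ℂ) * e2
  refine ⟨?_, hc1⟩
  subst hc1
  simp only [one_mul] at he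
  refine MonoidHom.ext fun w => Units.ext ?_
  by_cases hw : (w : L) ∈ W₂
  · have hxw : ((x * w : ↥(W₁ ⊔ W₂)) : L) ∉ W₂ := fun hm => hx2 (by
      have := W₂.mul_mem (show (x : L) * w ∈ W₂ by simpa using hm) (W₂.inv_mem hw)
      simpa using this)
    have e1 := he x hx2
    have e2 := he (x * w) hxw
    rw [map_mul, map_mul, Units.val_mul, Units.val_mul, ← e1] at e2
    exact mul_left_cancel₀ (Units.ne_zero _) e2
  · exact he w hw

include A

/-- An irreducible character with unit values off `W₂` belongs to the family. -/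
theorem identify {θ : L → ℂ} (hθ : Cfsg.IsIrrCharacter L θ) {ω' : ↥(W₁ ⊔ W₂) →* ℂˣ} {c : ℂ}
    (hc : c = 1 ∨ c = -1) (hv : ∀ w : ↥(W₁ ⊔ W₂), (w : L) ∉ W₂ → θ w = c * (ω' w : ℂ)) :
    θ = μ ω' ∧ δ ω' = c := by
  obtain ⟨x, -, hx2⟩ := exists_ne_mem h
  have hc2 : c * c = 1 := by rcases hc with rfl | rfl <;> norm_num
  obtain ⟨ω, rfl⟩ : ∃ ω, θ = μ ω := by
    by_contra hne
    push Not at hne
    have h0 := A.other θ hθ hne x hx2
    rw [hv x hx2] at h0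
    rcases hc with rfl | rfl <;> simp at h0
  obtain ⟨e1, e2⟩ := unique h (c := δ ω * c) (ω := ω) (ω' := ω')
    (by rcases hc with rfl | rfl <;> rcases A.sign ω with e | e <;> simp [e])
    (fun w hw => by
      have := hv w hw
      rw [A.val ω w hw] at this
      linear_combination c * this + (ω' w : ℂ) * hc2)
  subst e1
  refine ⟨rfl, ?_⟩
  linear_combination c * e2 - (δ ω) * hc2

theorem row {φ : ↥(W₁ ⊔ W₂) →* ℂˣ} (hφ : IsP φ) :
    δ φ = 1 ∧ ∀ k ∈ K, μ φ k = 1 := by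
  obtain ⟨Φ, hΦK, hΦ⟩ := h.exists_inflation hφ
  obtain ⟨e1, e2⟩ := identify h A (θ := fun g => (Φ g : ℂ))
    (Induced.Character.isIrrCharacter_hom Φ) (Or.inl rfl)
    (ω' := φ) (fun w _ => by simp [hΦ w])
  exact ⟨e2, fun k hk => by rw [← congrFun e1 k]; simp [hΦK k hk]⟩

theorem map_one' : μ 1 = fun _ => 1 :=
  ((identify h A (θ := fun _ : L => (1 : ℂ)) (ω' := 1) (c := 1) (oneChar L).2 (Or.inl rfl)
    (fun w _ => by simp)).1).symm

theorem conj_eq (ω : ↥(W₁ ⊔ W₂) →* ℂˣ) : Cfsg.conjFun (μ ω) = μ ω⁻¹ ∧ δ ω⁻¹ = δ ω := by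
  refine identify h A (Isometry.Inner.conjFun_irr (A.irr ω)) (A.sign ω) (fun w hw => ?_)
  show conj (μ ω w) = _
  have hn : ‖(ω w : ℂ)‖ = 1 := Complex.norm_eq_one_of_pow_eq_one
    (n := orderOf w) (by rw [← Units.val_pow_eq_pow_val, ← map_pow, pow_orderOf_eq_one, map_one,
      Units.val_one]) (orderOf_pos w).ne'
  have hd : conj (δ ω) = δ ω := by rcases A.sign ω with e | e <;> simp [e]
  rw [A.val ω w hw, map_mul, hd, MonoidHom.inv_apply, Units.val_inv_eq_inv_val,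
    Complex.inv_eq_conj hn]

/-- Members with the same `ψ` agree on `K`. -/
theorem agree {φ ψ : ↥(W₁ ⊔ W₂) →* ℂˣ} (hφ : IsP φ) {k : L} (hk : k ∈ K) :
    μ (φ * ψ) k = μ ψ k := by
  obtain ⟨-, e⟩ := A.diff (φ * ψ) ψ (fun w hw => by rw [MonoidHom.mul_apply, hφ w hw, one_mul])
  have h0 : Cfsg.indFun (W₁ ⊔ W₂) (lin (φ * ψ) - lin ψ) k = 0 := by
    rw [indFun_congr (θ' := 0) (W₁ ⊔ W₂) k ?_, indFun_zero, Pi.zero_apply]
    intro x hx
    have hx2 : x⁻¹ * k * x ∈ W₂ := (h.mem_K_iff ⟨_, hx⟩).1 (by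
      simpa using hK.conj_mem k hk x⁻¹)
    simp [lin, hφ ⟨_, hx⟩ hx2]
  rw [show lin (φ * ψ) - lin ψ = fun w => ((φ * ψ) w : ℂ) - (ψ w : ℂ) from rfl, e, Pi.smul_apply,
    Pi.sub_apply, smul_eq_mul, mul_eq_zero] at h0
  refine sub_eq_zero.1 (h0.resolve_left ?_)
  rcases A.sign (φ * ψ) with a | a <;> simp [a]

theorem norm_off (ω : ↥(W₁ ⊔ W₂) →* ℂˣ) {g : L} (hg : g ∉ K) : μ ω g * conj (μ ω g) = 1 := by
  obtain ⟨x, w, hw, e⟩ := h.exists_conj_mem hg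
  have hcl : Cfsg.IsClassFunction L (μ ω) := isClassFunction_irr ⟨μ ω, A.irr ω⟩
  rw [← hcl g x, e]
  rw [A.val ω w hw]
  have hn : ‖(ω w : ℂ)‖ = 1 := Complex.norm_eq_one_of_pow_eq_one
    (n := orderOf w) (by rw [← Units.val_pow_eq_pow_val, ← map_pow, pow_orderOf_eq_one, map_one,
      Units.val_one]) (orderOf_pos w).ne'
  have hsq : (ω w : ℂ) * conj (ω w : ℂ) = 1 := by
    rw [Complex.mul_conj, Complex.normSq_eq_norm_sq, hn]
    norm_num
  rcases A.sign ω with a | a <;> simp [a, hsq]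

/-- The restrictions to `K` are irreducible. -/
theorem restrict_irr (ω : ↥(W₁ ⊔ W₂) →* ℂˣ) : Cfsg.IsIrrCharacter K fun k => μ ω k := by
  classical
  haveI := Fintype.ofFinite K
  refine isIrrCharacter_of_classInner_self
    (isCharacter_comp K.subtype (IsCharacter_of_isIrrCharacter (A.irr ω))) ?_
  have e1 := classInner_self_irr ⟨μ ω, A.irr ω⟩
  rw [Cfsg.classInner, inv_mul_eq_iff_eq_mul₀ natCard_ne_zero, mul_one] at e1
  simp only at e1
  rw [← Finset.sum_filter_add_sum_filter_not Finset.univ (fun g : L => g ∈ K),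
    Finset.sum_congr rfl (fun g hg => norm_off h A ω (Finset.mem_filter.1 hg).2),
    Finset.sum_subtype (p := fun g : L => g ∈ K) _ (fun g => by simp) ] at e1
  have hc : ((Finset.univ.filter fun g : L => g ∈ K).card : ℂ) = Nat.card K := by
    rw [Nat.card_eq_fintype_card, Fintype.card_subtype]
  have hc2 : ((Finset.univ.filter fun g : L => g ∈ K).card : ℂ) +
      ((Finset.univ.filter fun g : L => g ∉ K).card : ℂ) = Nat.card L := by
    rw [← Nat.cast_add, Finset.card_filter_add_card_filter_not, Nat.card_eq_fintype_card,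
      Finset.card_univ]
  show Cfsg.classInner (fun k : K => μ ω k) (fun k : K => μ ω k) = 1
  rw [Cfsg.classInner, inv_mul_eq_iff_eq_mul₀ (subgroup_card_ne_zero K), mul_one, ← hc]
  simp only [Finset.sum_const, nsmul_eq_mul, mul_one] at e1
  show ∑ k : K, μ ω k * conj (μ ω k) = _
  linear_combination e1 - hc2

/-- The sum over a column is induced from `K`. -/
theorem column (S : Finset (↥(W₁ ⊔ W₂) →* ℂˣ)) (hS : ∀ φ, φ ∈ S ↔ IsP φ)
    {ψ : ↥(W₁ ⊔ W₂) →* ℂˣ} :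
    Cfsg.indFun K (fun k => μ ψ k) = ∑ φ ∈ S, μ (φ * ψ) := by
  classical
  have hW := h.selfNormalizing
  haveI := finite_hom (G := L) (W₁ := W₁) (W₂ := W₂)
  haveI := Fintype.ofFinite (↥(W₁ ⊔ W₂) →* ℂˣ)
  haveI := Fintype.ofFinite K
  have hSeq : S = Finset.univ.filter fun φ => IsP φ := by ext φ; simp [hS]
  have hμcl : ∀ ω, Cfsg.IsClassFunction L (μ ω) := fun ω => isClassFunction_irr ⟨μ ω, A.irr ω⟩
  funext g
  rw [Finset.sum_apply]
  by_cases hg : g ∈ K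
  · have e : ∀ x : L, Cfsg.extendByZero K (fun k => μ ψ k) (x⁻¹ * g * x) = μ ψ g := fun x => by
      rw [extendByZero_of_mem K _ (by simpa using hK.conj_mem g hg x⁻¹)]
      simpa using hμcl ψ g x⁻¹
    simp only [Cfsg.indFun, e, Finset.sum_const, Finset.card_univ, nsmul_eq_mul]
    rw [Finset.sum_congr rfl (fun φ hφ => agree h A ((hS φ).1 hφ) hg), Finset.sum_const,
      nsmul_eq_mul, hSeq, card_isP hW, Fintype.card_eq_nat_card, ← K.card_mul_index,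
      h.index_eq, Nat.cast_mul, ← mul_assoc, ← mul_assoc,
      inv_mul_cancel₀ (subgroup_card_ne_zero K), one_mul]
  · rw [indFun_eq_zero_of_not_mem_normal K _ hg]
    obtain ⟨x, w, hw, e⟩ := h.exists_conj_mem hg
    have e' : ∀ φ ∈ S, μ (φ * ψ) g = δ ψ * (ψ w : ℂ) * (φ w : ℂ) := fun φ hφ => by
      rw [← hμcl (φ * ψ) g x, e, A.val _ w hw, (A.diff (φ * ψ) ψ
        (fun u hu => by rw [MonoidHom.mul_apply, (hS φ).1 hφ u hu, one_mul])).1]
      simp only [MonoidHom.mul_apply, Units.val_mul]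
      ring
    rw [Finset.sum_congr rfl e', ← Finset.mul_sum, hSeq, sum_isP hW w, if_neg hw, mul_zero]

end Cfsg.Agent.Lib.OddOrder.PF11.PLike
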