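import Cfsg.Agent.Lib.OddOrder.PF11.Bound

/-!
# Peterfalvi §11: the structure of `H` ((11.6))

`C = U'`, `N = H'`, `H` is a `p`-group, `H / N` is elementary abelian and irreducible under `U W₁`; if
`U` is reducible on it, it is a sum of `q` lines permuted by `W₁`.
-/

set_option autoImplicit false
set_option linter.style.haveILetI false
set_option linter.unusedSectionVars false

namespace Cfsg.Agent.Lib.OddOrder.PF11.Structure

open Subgroup
open Cfsg.Agent.Lib.OddOrder.Basic
open Cfsg.Agent.Lib.OddOrder.PF11.Group (Ctx)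
open Cfsg.Agent.Lib.OddOrder.PF11.Bound
open Cfsg.Agent.Lib.OddOrder.Interface.PF11 (derivedIn tau Setup)
open scoped commutatorElement

universe u

variable {G : Type u} [_root_.Group G] [Fintype G] {M W₁ U W₂ : Subgroup G}

local notation "H" => Cfsg.fittingHallOf M

local notation "D" => ⁅M, M⁆

theorem conj_mem_of_normalizes {X Y : Subgroup G} (h : X ≤ normalizer (Y : Set G)) {x y : G} (hx : x ∈ X)
    (hy : y ∈ Y) : x * y * x⁻¹ ∈ Y :=
  ((mem_normalizer_iff.1 (h hx)) y).1 hy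

theorem conj_commutator_mem {A B : Subgroup G} {m : G}
    (hA : ∀ x ∈ A, m * x * m⁻¹ ∈ A) (hB : ∀ x ∈ B, m * x * m⁻¹ ∈ B) :
    ∀ x ∈ ⁅A, B⁆, m * x * m⁻¹ ∈ ⁅A, B⁆ := fun x hx => by
  have hmap : (⁅A, B⁆ : Subgroup G).map (MulAut.conj m).toMonoidHom ≤ ⁅A, B⁆ := by
    rw [Subgroup.map_commutator]
    refine Subgroup.commutator_mono ?_ ?_
    · rintro _ ⟨y, hy, rfl⟩; exact hA y hy
    · rintro _ ⟨y, hy, rfl⟩; exact hB y hy
  exact hmap (mem_map_of_mem _ hx)

theorem relIndex_sup_of_normalizes {A B : Subgroup G} (h : A ≤ normalizer (B : Set G)) :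
    B.relIndex (A ⊔ B) = B.relIndex A := by
  haveI : (B.subgroupOf (normalizer (B : Set G))).Normal := normal_in_normalizer
  rw [← relIndex_subgroupOf (sup_le h le_normalizer), subgroupOf_sup h le_normalizer,
    relIndex_sup_right, relIndex_subgroupOf h]

/-! ### `C = U'` and `H ≤ H' ⁅H, U⁆` -/

theorem commutator_decomp (c : Ctx M W₁ U W₂) :
    ∀ z ∈ (⁅D, D⁆ : Subgroup G), ∃ x ∈ (⁅H, H⁆ ⊔ ⁅H, U⁆ : Subgroup G), ∃ a ∈ ⁅U, U⁆, z = x * a := by
  set X : Subgroup G := ⁅H, H⁆ ⊔ ⁅H, U⁆ with hX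
  have hUH : U ≤ normalizer ((H : Subgroup G) : Set G) := c.U_le.trans c.H_normal
  have hnU : U ≤ normalizer (X : Set G) := by
    refine Coprime.le_normalizer_sup ?_ (Coprime.right_le_normalizer_commutator _ _)
    exact (Subgroup.le_normalizer_iff).2 fun m hm =>
      conj_commutator_mem (fun x hx => conj_mem_of_normalizes hUH hm hx)
        (fun x hx => conj_mem_of_normalizes hUH hm hx)
  have hnH : (H : Subgroup G) ≤ normalizer (X : Set G) := by
    refine Coprime.le_normalizer_sup ?_ (Coprime.left_le_normalizer_commutator _ _)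
    exact (Subgroup.le_normalizer_iff).2 fun m hm =>
      conj_commutator_mem (fun x hx => mul_mem (mul_mem hm hx) (inv_mem hm))
        (fun x hx => mul_mem (mul_mem hm hx) (inv_mem hm))
  have hnU' : (⁅U, U⁆ : Subgroup G) ≤ normalizer (X : Set G) := (TypeP.derived_le U).trans hnU
  suffices hle : (⁅D, D⁆ : Subgroup G) ≤ ⁅U, U⁆ ⊔ X by
    intro z hz
    obtain ⟨a, ha, x, hx, rfl⟩ := Coprime.exists_mul_of_mem_sup hnU' (hle hz)
    exact ⟨a * x * a⁻¹, conj_mem_of_normalizes hnU' ha hx, a, ha, by group⟩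
  rw [commutator_le]
  intro s hs t ht
  obtain ⟨h, hh, a, ha, rfl⟩ := c.typeP.U_compl.2.2.2 s hs
  obtain ⟨k, hk, b, hb, rfl⟩ := c.typeP.U_compl.2.2.2 t ht
  have m1 : ⁅a, k⁆ ∈ X := mem_sup_right (by
    rw [← commutatorElement_inv]; exact inv_mem (commutator_mem_commutator hk ha))
  have m2 : ⁅h, k⁆ ∈ X := mem_sup_left (commutator_mem_commutator hh hk)
  have m3 : ⁅h, b⁆ ∈ X := mem_sup_right (commutator_mem_commutator hh hb)
  have hab : ⁅a, b⁆ ∈ ⁅U, U⁆ := commutator_mem_commutator ha hb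
  have m4 : ⁅k * h, ⁅a, b⁆⁆ ∈ X :=
    mem_sup_right (commutator_mem_commutator (mul_mem hk hh) (TypeP.derived_le U hab))
  have e : ⁅h * a, k * b⁆ =
      h * ⁅a, k⁆ * h⁻¹ * ⁅h, k⁆ * (⁅k * h, ⁅a, b⁆⁆ * ⁅a, b⁆) * (k * ⁅h, b⁆ * k⁻¹) := by
    simp only [commutatorElement_def]; group
  have hX' : X ≤ ⁅U, U⁆ ⊔ X := le_sup_right
  rw [e]
  exact mul_mem (mul_mem (mul_mem (hX' (conj_mem_of_normalizes hnH hh m1)) (hX' m2))
    (mul_mem (hX' m4) (mem_sup_left hab))) (hX' (conj_mem_of_normalizes hnH hk m3))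

theorem X_le_H (c : Ctx M W₁ U W₂) : (⁅H, H⁆ ⊔ ⁅H, U⁆ : Subgroup G) ≤ H :=
  sup_le (TypeP.derived_le _) (Coprime.commutator_le_of_le_normalizer (c.U_le.trans c.H_normal))

section Facts
variable [Fintype ↥M] (s : Setup M W₁ U W₂)

include s

/-- `C_U(H) = U'`. -/
theorem cen_eq : cen M U = ⁅U, U⁆ := by
  have c := ctx_of_setup s
  refine le_antisymm (fun a ha => ?_) (le_inf (TypeP.derived_le U) (TypeP.derived_U_le s.typeP))
  have h1 : a ∈ (⁅D, D⁆ : Subgroup G) := by
    rw [derived_two_eq s]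
    exact mem_sup_right ha
  obtain ⟨x, hx, b, hb, e⟩ := commutator_decomp c a h1
  have hx1 : x ∈ H ⊓ U := mem_inf.2 ⟨X_le_H c hx, by
    rw [eq_mul_inv_of_mul_eq e.symm]
    exact mul_mem ha.1 (inv_mem (TypeP.derived_le U hb))⟩
  rw [c.H_inf_U, mem_bot] at hx1
  rw [e, hx1, one_mul]
  exact hb

theorem H_le_commutators : H ≤ (⁅H, H⁆ ⊔ ⁅H, U⁆ : Subgroup G) := by
  have c := ctx_of_setup s
  intro h hh
  have h1 : h ∈ (⁅D, D⁆ : Subgroup G) := by
    rw [derived_two_eq s]
    exact mem_sup_left hh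
  obtain ⟨x, hx, b, hb, e⟩ := commutator_decomp c h h1
  have hb1 : b ∈ H ⊓ U := mem_inf.2 ⟨by
    rw [eq_inv_mul_of_mul_eq e.symm]
    exact mul_mem (inv_mem (X_le_H c hx)) hh, TypeP.derived_le U hb⟩
  rw [c.H_inf_U, mem_bot] at hb1
  rw [e, hb1, mul_one]
  exact hx

/-- `C_H(U) = H'`. -/
theorem fix_eq : fix M U = ⁅H, H⁆ := by
  classical
  have c := ctx_of_setup s
  refine le_antisymm ?_ c.N_facts.1
  haveI : Fintype U := Fintype.ofFinite U
  have hn : U ≤ normalizer ((H : Subgroup G) : Set G) := c.U_le.trans c.H_normal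
  let ab : ↥H →* Abelianization ↥H := Abelianization.of
  let cj : U → ↥H →* ↥H := fun a => ((H : Subgroup G).normalizerMonoidHom ⟨a, hn a.2⟩).toMonoidHom
  let φ : ↥H →* Abelianization ↥H := ∏ a : U, ab.comp (cj a)
  have hφ : ∀ x, φ x = ∏ a : U, ab (cj a x) := fun x => MonoidHom.finsetProd_apply _ _ _
  have hcv : ∀ (a : U) (x : ↥H), ((cj a x : ↥H) : G) = (a : G) * x * (a : G)⁻¹ := fun _ _ => rfl
  have hcomm : ∀ x ∈ commutator ↥H, φ x = 1 := fun x hx => by
    have hle : commutator ↥H ≤ φ.ker := Abelianization.commutator_subset_ker φ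
    exact hle hx
  have hker : (⁅H, H⁆ ⊔ ⁅H, U⁆ : Subgroup G) ≤ φ.ker.map (H : Subgroup G).subtype := by
    refine sup_le ?_ ?_
    · have hmap : (commutator ↥H).map (Subgroup.subtype _) = ⁅H, H⁆ := by
        rw [commutator_def, Subgroup.map_commutator, ← MonoidHom.range_eq_map, range_subtype]
      rw [← hmap]
      exact map_mono hcomm
    · rw [commutator_le]
      intro h hh b hb
      have hmem : b * h⁻¹ * b⁻¹ ∈ H := conj_mem_of_normalizes hn hb (inv_mem hh)
      refine ⟨⟨h, hh⟩ * ⟨b * h⁻¹ * b⁻¹, hmem⟩, ?_, by simp [commutatorElement_def, mul_assoc]⟩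
      rw [SetLike.mem_coe, MonoidHom.mem_ker, map_mul, hφ, hφ]
      have e : ∀ a : U, ab (cj a ⟨b * h⁻¹ * b⁻¹, hmem⟩) = (ab (cj (a * ⟨b, hb⟩) ⟨h, hh⟩))⁻¹ := by
        intro a
        rw [← map_inv]
        congr 1
        apply Subtype.ext
        rw [hcv, Subgroup.coe_inv, hcv]
        simp [mul_assoc]
      simp only [e, Finset.prod_inv_distrib]
      rw [mul_inv_eq_one]
      exact (Fintype.prod_equiv (Equiv.mulRight (⟨b, hb⟩ : U)) _ _ (fun a => rfl)).symm
  intro x hx
  obtain ⟨y, hy, hyx⟩ := hker (H_le_commutators s hx.1)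
  have hy2 : ∀ a : U, cj a y = y := fun a => by
    apply Subtype.ext
    rw [hcv, show (y : G) = x from hyx, mem_centralizer_iff.1 hx.2 a a.2, mul_inv_cancel_right]
  have hy1 : φ y = 1 := hy
  rw [hφ, Finset.prod_congr rfl (fun a _ => by rw [hy2 a]), Finset.prod_const, Finset.card_univ,
    ← Nat.card_eq_fintype_card] at hy1
  have hcop : (Nat.card (Abelianization ↥H)).Coprime (Nat.card U) :=
    c.coprime_H_U.coprime_dvd_left (card_dvd_of_surjective ab QuotientGroup.mk_surjective)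
  have hab : ab y = 1 := (powCoprime hcop).injective (by simpa [powCoprime] using hy1)
  have hmem : y ∈ commutator ↥H := (QuotientGroup.eq_one_iff y).1 hab
  rw [← hyx, ← Subgroup.map_subtype_commutator]
  exact mem_map_of_mem _ hmem

theorem fix_le_centralizer : fix M U ≤ centralizer (U : Set G) := inf_le_right

theorem relIndex_derived : (⁅H, H⁆ : Subgroup G).relIndex H = Nat.card W₂ ^ Nat.card W₁ := by
  rw [← fix_eq s]
  exact (ctx_of_setup s).N_facts.2.2.1

/-- `H` is a `p`-group. -/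
theorem H_pgroup : IsPGroup (Nat.card W₂) ↥(H : Subgroup G) := by
  refine Isometry.KernelCoherence.isPGroup_of_commutator (fittingHallOf_isNilpotent M) s.p_prime
    (a := Nat.card W₁) (dvd_of_eq ?_)
  rw [← relIndex_derived s, Subgroup.relIndex, Subgroup.subgroupOf, ← Subgroup.map_subtype_commutator,
    Subgroup.comap_map_eq_self_of_injective (subtype_injective _)]

/-- An invariant subgroup between `N` and `H` is one of the two. -/
theorem chief {X : Subgroup G} (h1 : fix M U ≤ X) (h2 : X ≤ H) (hU : U ≤ normalizer (X : Set G))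
    (hW : W₁ ≤ normalizer (X : Set G)) : X = fix M U ∨ X = H := by
  have c := ctx_of_setup s
  have h3 := c.formula h2 hU hW
  have eU : X ⊓ centralizer (U : Set G) = fix M U :=
    le_antisymm (inf_le_inf_right _ h2) (le_inf h1 inf_le_right)
  have eUW : X ⊓ centralizer ((U ⊔ W₁ : Subgroup G) : Set G) = ⊥ := by
    rw [eq_bot_iff, ← c.N_facts.2.2.2]
    intro x hx
    exact ⟨c.fixed_H.le ⟨h2 hx.1, centralizer_le (SetLike.coe_subset_coe.2 le_sup_right) hx.2⟩,
      h2 hx.1, centralizer_le (SetLike.coe_subset_coe.2 le_sup_left) hx.2⟩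
  rw [eU, eUW, Subgroup.card_bot, one_pow, one_mul] at h3
  have hle : X ⊓ centralizer (W₁ : Set G) ≤ W₂ := (inf_le_inf_right _ h2).trans c.fixed_H.le
  rcases (Nat.dvd_prime c.p_prime).1 (card_dvd_of_le hle) with h | h
  · rw [h, one_pow, one_mul] at h3
    exact Or.inl (eq_of_le_of_card_ge h1 h3.le).symm
  · rw [h] at h3
    have h4 := relIndex_mul_relIndex (⊥ : Subgroup G) (fix M U) H bot_le inf_le_left
    rw [relIndex_bot_left, relIndex_bot_left, c.N_facts.2.2.1, mul_comm, ← h3] at h4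
    exact Or.inr (eq_of_le_of_card_ge h2 h4.ge)

theorem fix_lt : fix M U < H := by
  have c := ctx_of_setup s
  refine lt_of_le_of_ne inf_le_left fun e => ?_
  have h := c.N_facts.2.2.1
  rw [show H ⊓ centralizer (U : Set G) = fix M U from rfl, e, relIndex_self] at h
  exact (Nat.one_lt_pow c.q_prime.ne_zero c.p_prime.one_lt).ne h

theorem H_normalizes_fix : (H : Subgroup G) ≤ normalizer ((fix M U : Subgroup G) : Set G) :=
  (ctx_of_setup s).H_le.trans (ctx_of_setup s).N_facts.2.1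

/-- `H / N` has exponent `p`. -/
theorem pow_mem_fix {x : G} (hx : x ∈ H) : x ^ Nat.card W₂ ∈ fix M U := by
  classical
  have c := ctx_of_setup s
  set f : ↥H →* Abelianization ↥H := Abelianization.of
  set φ := (powMonoidHom (Nat.card W₂)).comp f
  have hker : ∀ y : ↥H, φ y = 1 ↔ (y : G) ^ Nat.card W₂ ∈ fix M U := by
    intro y
    rw [fix_eq s, ← Subgroup.map_subtype_commutator,
      show (y : G) ^ Nat.card W₂ = (H : Subgroup G).subtype (y ^ Nat.card W₂) from rfl,
      mem_map_iff_mem (subtype_injective _)]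
    show f y ^ Nat.card W₂ = 1 ↔ _
    rw [← map_pow]
    exact QuotientGroup.eq_one_iff _
  set X := φ.ker.map (H : Subgroup G).subtype with hX
  have hmem : ∀ {g : G}, g ∈ X ↔ g ∈ H ∧ g ^ Nat.card W₂ ∈ fix M U := by
    intro g
    constructor
    · rintro ⟨y, hy, rfl⟩
      exact ⟨y.2, (hker y).1 hy⟩
    · rintro ⟨hg, hg'⟩
      exact ⟨⟨g, hg⟩, (hker _).2 hg', rfl⟩
  have hn : M ≤ normalizer (X : Set G) := (Subgroup.le_normalizer_iff).2 fun m hm y hy => by
    obtain ⟨hy1, hy2⟩ := hmem.1 hy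
    refine hmem.2 ⟨conj_mem_of_normalizes c.H_normal hm hy1, ?_⟩
    rw [conj_pow]
    exact conj_mem_of_normalizes c.N_facts.2.1 hm hy2
  rcases chief s (fun y hy => hmem.2 ⟨hy.1, pow_mem hy _⟩) (fun y hy => (hmem.1 hy).1)
    (c.U_le.trans hn) (c.W₁_le.trans hn) with h | h
  · exfalso
    obtain ⟨y, hy, hyN⟩ := SetLike.exists_of_lt (fix_lt s)
    have hex : ∃ k, y ^ Nat.card W₂ ^ k ∈ fix M U := by
      obtain ⟨k, hk⟩ := H_pgroup s ⟨y, hy⟩
      refine ⟨k, ?_⟩
      have hk' : y ^ Nat.card W₂ ^ k = 1 := congrArg Subtype.val hk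
      rw [hk']
      exact one_mem _
    have hk := Nat.find_spec hex
    rcases Nat.eq_zero_or_pos (Nat.find hex) with h0 | h0
    · rw [h0, pow_zero, pow_one] at hk
      exact hyN hk
    · refine Nat.find_min hex (Nat.sub_lt h0 one_pos) (h.le (hmem.2 ⟨pow_mem hy _, ?_⟩))
      rw [← pow_mul, ← pow_succ, Nat.sub_add_cancel (show 1 ≤ Nat.find hex from h0)]
      exact hk
  · exact (hmem.1 (h.ge hx)).2

/-- If `U` is reducible on `H / N`, then `H / N` is a sum of `q` lines permuted by `W₁`. -/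
theorem lines {X : Subgroup G} (hX1 : fix M U < X) (hX2 : X < H) (hXU : U ≤ normalizer (X : Set G)) :
    ∃ L : Subgroup G, fix M U < L ∧ L ≤ H ∧ U ≤ normalizer (L : Set G) ∧
      (fix M U).relIndex L = Nat.card W₂ ∧
      (∀ Y : Subgroup G, fix M U ≤ Y → (∀ w ∈ W₁, ∀ x ∈ L, w * x * w⁻¹ ∈ Y) → H ≤ Y) ∧
      ∃ Z : Subgroup G, fix M U ≤ Z ∧ Z ≤ H ∧ U ≤ normalizer (Z : Set G) ∧
        Z.relIndex H = Nat.card W₂ ∧ (∀ w ∈ W₁, w ≠ 1 → ∀ x ∈ L, w * x * w⁻¹ ∈ Z) ∧
        Z ⊓ L = fix M U := by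
  classical
  have c := ctx_of_setup s
  set N := fix M U with hN
  have hUH : U ≤ normalizer ((H : Subgroup G) : Set G) := c.U_le.trans c.H_normal
  haveI : Finite (Subgroup G) := Finite.of_injective (fun X => (X : Set G)) SetLike.coe_injective
  set T : Set (Subgroup G) := {Y | N < Y ∧ Y < H ∧ U ≤ normalizer (Y : Set G)}
  obtain ⟨L, ⟨hL1, hL2, hLU⟩, hLmin⟩ := Set.Finite.exists_minimal T.toFinite ⟨X, hX1, hX2, hXU⟩
  have hmin : ∀ Y, N ≤ Y → Y ≤ L → U ≤ normalizer (Y : Set G) → Y = N ∨ Y = L := by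
    intro Y h1 h2 h3
    rcases eq_or_lt_of_le h1 with h | h
    · exact Or.inl h.symm
    · exact Or.inr (le_antisymm h2 (hLmin ⟨h, h2.trans_lt hL2, h3⟩ h2))
  have hHnorm : ∀ Y : Subgroup G, N ≤ Y → Y ≤ H → (H : Subgroup G) ≤ normalizer (Y : Set G) := by
    intro Y h1 h2
    rw [Subgroup.le_normalizer_iff]
    intro m hm x hx
    rw [show m * x * m⁻¹ = ⁅m, x⁆ * x by rw [commutatorElement_def]; group]
    exact mul_mem (h1 ((fix_eq s).ge (commutator_mem_commutator hm (h2 hx)))) hx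
  let cv : G → Subgroup G := fun w => L.map (MulAut.conj w).toMonoidHom
  have hcvH : ∀ w ∈ W₁, cv w ≤ H := by
    rintro w hw _ ⟨y, hy, rfl⟩
    exact conj_mem_of_normalizes c.H_normal (c.W₁_le hw) (hL2.le hy)
  have hcvN : ∀ w ∈ W₁, N ≤ cv w := by
    intro w hw x hx
    refine ⟨w⁻¹ * x * w, hL1.le ?_, by simp [mul_assoc]⟩
    have := conj_mem_of_normalizes c.N_facts.2.1 (c.W₁_le (inv_mem hw)) hx
    rw [hN]
    simpa using this
  have hcvU : ∀ w ∈ W₁, U ≤ normalizer ((cv w : Subgroup G) : Set G) := by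
    intro w hw
    rw [Subgroup.le_normalizer_iff]
    rintro a ha _ ⟨y, hy, rfl⟩
    refine ⟨(w⁻¹ * a * w) * y * (w⁻¹ * a * w)⁻¹, conj_mem_of_normalizes hLU ?_ hy, by
      simp [mul_assoc]⟩
    have := conj_mem_of_normalizes c.typeP.U_normal (inv_mem hw) ha
    simpa using this
  have hcvcard : ∀ w, Nat.card (cv w) = Nat.card L := fun w =>
    (Nat.card_congr (L.equivMapOfInjective _ (MulEquiv.injective _)).toEquiv).symm
  set l := N.relIndex L with hl
  have hcardL : Nat.card N * l = Nat.card L := by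
    have := relIndex_mul_relIndex (⊥ : Subgroup G) N L bot_le hL1.le
    rwa [relIndex_bot_left, relIndex_bot_left] at this
  let Y : Finset G → Subgroup G := fun t => N ⊔ ⨆ w ∈ t, cv w
  have hYN : ∀ t, N ≤ Y t := fun t => le_sup_left
  have hYH : ∀ t : Finset G, (∀ w ∈ t, w ∈ W₁) → Y t ≤ H := fun t ht =>
    sup_le inf_le_left (iSup₂_le fun w hw => hcvH w (ht w hw))
  have hYU : ∀ t : Finset G, (∀ w ∈ t, w ∈ W₁) → U ≤ normalizer ((Y t : Subgroup G) : Set G) := by
    intro t ht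
    rw [Subgroup.le_normalizer_iff]
    intro a ha
    suffices h : Y t ≤ (Y t).comap (MulAut.conj a).toMonoidHom from fun x hx => h hx
    refine sup_le (fun x hx => hYN t (conj_mem_of_normalizes c.N_facts.2.1 (c.U_le ha) hx))
      (iSup₂_le fun w hw x hx => ?_)
    exact (le_sup_right : _ ≤ Y t)
      ((le_iSup₂ (f := fun w (_ : w ∈ t) => cv w) w hw)
        (conj_mem_of_normalizes (hcvU w (ht w hw)) ha hx))
  have hkey : ∀ t : Finset G, (∀ w ∈ t, w ∈ W₁) → ∃ k ≤ t.card, N.relIndex (Y t) = l ^ k := by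
    intro t
    induction t using Finset.induction_on with
    | empty =>
      intro _
      refine ⟨0, le_rfl, ?_⟩
      simp [Y]
    | insert w t hwt ih =>
      intro ht
      have ht' : ∀ v ∈ t, v ∈ W₁ := fun v hv => ht v (Finset.mem_insert_of_mem hv)
      have hw : w ∈ W₁ := ht w (Finset.mem_insert_self w t)
      obtain ⟨k, hk, hk'⟩ := ih ht'
      have hins : Y (insert w t) = cv w ⊔ Y t := by
        simp only [Y, Finset.iSup_insert]
        rw [← sup_assoc, sup_comm N, sup_assoc]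
      rw [Finset.card_insert_of_notMem hwt, hins]
      -- pull `cv w ⊓ Y t` back into `L`
      set B := (cv w ⊓ Y t).comap (MulAut.conj w).toMonoidHom with hB
      have hBL : B ≤ L := fun x hx => by
        obtain ⟨y, hy, e⟩ := (hx : MulAut.conj w x ∈ cv w ⊓ Y t).1
        rwa [← (MulAut.conj w).injective e]
      have hBN : N ≤ B := fun x hx =>
        have h' := conj_mem_of_normalizes c.N_facts.2.1 (c.W₁_le hw) hx
        ⟨hcvN w hw h', hYN t h'⟩
      have hBU : U ≤ normalizer (B : Set G) := by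
        rw [Subgroup.le_normalizer_iff]
        intro a ha x hx
        have ha' : w * a * w⁻¹ ∈ U := conj_mem_of_normalizes c.typeP.U_normal hw ha
        have e : MulAut.conj w (a * x * a⁻¹) =
            (w * a * w⁻¹) * MulAut.conj w x * (w * a * w⁻¹)⁻¹ := by simp [mul_assoc]
        show MulAut.conj w (a * x * a⁻¹) ∈ cv w ⊓ Y t
        rw [e]
        exact ⟨conj_mem_of_normalizes (hcvU w hw) ha' hx.1,
          conj_mem_of_normalizes (hYU t ht') ha' hx.2⟩
      rcases hmin B hBN hBL hBU with h | h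
      · refine ⟨k + 1, by omega, ?_⟩
        have hinf : cv w ⊓ Y t = N := by
          refine le_antisymm (fun x hx => ?_) (le_inf (hcvN w hw) (hYN t))
          have hx' : w⁻¹ * x * w ∈ B := by
            show MulAut.conj w (w⁻¹ * x * w) ∈ cv w ⊓ Y t
            simpa [mul_assoc] using hx
          rw [h] at hx'
          have := conj_mem_of_normalizes c.N_facts.2.1 (c.W₁_le hw) hx'
          rw [hN]
          simpa [mul_assoc] using this
        have hn : cv w ≤ normalizer ((Y t : Subgroup G) : Set G) :=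
          (hcvH w hw).trans (hHnorm _ (hYN t) (hYH t ht'))
        have h2 : (Y t).relIndex (cv w ⊔ Y t) = l := by
          rw [relIndex_sup_of_normalizes hn, ← inf_relIndex_left, hinf]
          have h3 := relIndex_mul_relIndex (⊥ : Subgroup G) N (cv w) bot_le (hcvN w hw)
          rw [relIndex_bot_left, relIndex_bot_left, hcvcard, ← hcardL] at h3
          exact Nat.eq_of_mul_eq_mul_left Nat.card_pos h3
        rw [← relIndex_mul_relIndex _ _ _ (hYN t) le_sup_right, hk', h2, pow_succ]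
      · refine ⟨k, by omega, ?_⟩
        have hle : cv w ≤ Y t := by
          rintro _ ⟨y, hy, rfl⟩
          exact (h.ge hy).2
        rw [sup_eq_right.2 hle, hk']
  haveI : Fintype W₁ := Fintype.ofFinite W₁
  set all : Finset G := Finset.univ.filter fun g => g ∈ W₁ with hall
  have hallW : ∀ w ∈ all, w ∈ W₁ := fun w hw => (Finset.mem_filter.1 hw).2
  have hallc : all.card = Nat.card W₁ := by
    rw [hall, Nat.card_eq_fintype_card, Fintype.card_subtype]
  have hL_le : ∀ (t : Finset G) w, w ∈ t → ∀ x ∈ L, w * x * w⁻¹ ∈ Y t := fun t w hw x hx =>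
    (le_sup_right : _ ≤ Y t) ((le_iSup₂ (f := fun w (_ : w ∈ t) => cv w) w hw) ⟨x, hx, rfl⟩)
  have hYtop : Y all = H := by
    refine ((chief s (hYN _) (hYH _ hallW) (hYU _ hallW) ?_).resolve_left fun h => ?_)
    · rw [Subgroup.le_normalizer_iff]
      intro v hv
      suffices h : Y all ≤ (Y all).comap (MulAut.conj v).toMonoidHom from fun x hx => h hx
      refine sup_le (fun x hx => hYN _ (conj_mem_of_normalizes c.N_facts.2.1 (c.W₁_le hv) hx))
        (iSup₂_le fun w hw => ?_)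
      rintro _ ⟨y, hy, rfl⟩
      have hvw : v * w ∈ all := Finset.mem_filter.2 ⟨Finset.mem_univ _, mul_mem hv (hallW w hw)⟩
      have := hL_le all (v * w) hvw y hy
      simpa [mul_assoc] using this
    · refine hL1.not_ge (fun x hx => h.le ?_)
      have := hL_le all 1 (Finset.mem_filter.2 ⟨Finset.mem_univ _, one_mem _⟩) x hx
      simpa using this
  obtain ⟨k, hk, hkl⟩ := hkey all hallW
  rw [hallc] at hk
  rw [hYtop, c.N_facts.2.2.1] at hkl
  have hl1 : l ≠ 1 := fun h => hL1.not_ge (relIndex_eq_one.1 h)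
  have hlH : l * L.relIndex H = Nat.card W₂ ^ Nat.card W₁ := by
    rw [← c.N_facts.2.2.1, hl]
    exact relIndex_mul_relIndex _ _ _ hL1.le hL2.le
  obtain ⟨j, hj, hlj⟩ := (Nat.dvd_prime_pow c.p_prime).1 ⟨_, hlH.symm⟩
  have hjk : j * k = Nat.card W₁ := by
    rw [hlj, ← pow_mul] at hkl
    exact (Nat.pow_right_injective c.p_prime.two_le hkl).symm
  have hj1 : j = 1 := by
    rcases c.q_prime.eq_one_or_self_of_dvd j ⟨k, hjk.symm⟩ with h | h
    · exact h
    · exfalso
      rw [hlj, h] at hlH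
      have : L.relIndex H = 1 :=
        (Nat.mul_eq_left (pow_ne_zero _ c.p_prime.ne_zero)).1 hlH
      exact hL2.not_ge (relIndex_eq_one.1 this)
  rw [hj1, pow_one] at hlj
  refine ⟨L, hL1, hL2.le, hLU, hlj, fun Y' hY' hgen => ?_, ?_⟩
  · rw [← hYtop]
    refine sup_le hY' (iSup₂_le fun w hw => ?_)
    rintro _ ⟨y, hy, rfl⟩
    exact hgen w (hallW w hw) y hy
  set rest : Finset G := all.erase 1 with hrest
  have hrestW : ∀ w ∈ rest, w ∈ W₁ := fun w hw => hallW w (Finset.mem_of_mem_erase hw)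
  have h1all : (1 : G) ∈ all := Finset.mem_filter.2 ⟨Finset.mem_univ _, one_mem _⟩
  obtain ⟨k', hk', hkl'⟩ := hkey rest hrestW
  rw [Finset.card_erase_of_mem h1all, hallc] at hk'
  rw [hlj] at hkl'
  refine ⟨Y rest, hYN _, hYH _ hrestW, hYU _ hrestW, ?_, fun w hw hw1 => hL_le rest w
    (Finset.mem_erase.2 ⟨hw1, Finset.mem_filter.2 ⟨Finset.mem_univ _, hw⟩⟩), ?_⟩
  all_goals
    have hn : L ≤ normalizer ((Y rest : Subgroup G) : Set G) :=
      hL2.le.trans (hHnorm _ (hYN _) (hYH _ hrestW))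
    have hsup : L ⊔ Y rest = H := by
      refine le_antisymm (sup_le hL2.le (hYH _ hrestW)) (hYtop ▸ sup_le ((hYN rest).trans le_sup_right)
        (iSup₂_le fun w hw => ?_))
      rintro _ ⟨y, hy, rfl⟩
      by_cases hw1 : w = 1
      · subst hw1; simpa using mem_sup_left (T := Y rest) hy
      · exact mem_sup_right (hL_le rest w (Finset.mem_erase.2 ⟨hw1, hw⟩) y hy)
    have hprod : l ^ k' * (Y rest).relIndex H = l ^ Nat.card W₁ := by
      rw [hlj, ← hkl', ← c.N_facts.2.2.1]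
      exact relIndex_mul_relIndex _ _ _ (hYN _) (hYH _ hrestW)
    have hdvd : (Y rest).relIndex H = (L ⊓ Y rest).relIndex L := by
      rw [← hsup, relIndex_sup_of_normalizes hn, inf_relIndex_left]
    have hindex : (L ⊓ Y rest).relIndex L = Nat.card W₂ := by
      have hd : (L ⊓ Y rest).relIndex L ∣ Nat.card W₂ := hlj ▸
        relIndex_dvd_of_le_left L (le_inf hL1.le (hYN _))
      refine ((Nat.dvd_prime c.p_prime).1 hd).resolve_left fun h => ?_
      rw [hdvd, h, mul_one, hlj] at hprod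
      have := Nat.pow_right_injective c.p_prime.two_le hprod
      have := c.q_prime.two_le
      omega
  · rw [hdvd, hindex]
  · rw [inf_comm]
    refine le_antisymm ?_ (le_inf hL1.le (hYN _))
    have h3 := relIndex_mul_relIndex N (L ⊓ Y rest) L (le_inf hL1.le (hYN _)) inf_le_left
    rw [hindex, ← hl, hlj] at h3
    exact relIndex_eq_one.1 ((Nat.mul_eq_right c.p_prime.ne_zero).1 h3)

end Facts

end Cfsg.Agent.Lib.OddOrder.PF11.Structure
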